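import Mathlib
import Cfsg.Agent.Lib.Helper62.MinNormal

set_option autoImplicit false

namespace Cfsg.Agent.Helper9

open Subgroup

universe u

/-- Wielandt: the join of two subnormal subgroups of a finite group is subnormal. -/
theorem isSubnormal_sup_aux : ∀ (n : ℕ) (G : Type u) [Group G] [Finite G],
    Nat.card G = n → ∀ (A B : Subgroup G), A.IsSubnormal → B.IsSubnormal →
    (A ⊔ B).IsSubnormal := by
  intro n
  induction n using Nat.strong_induction_on with
  | _ n ih =>
    intro G _ _ hcard A B hA hB
    by_cases hnt : Nontrivial G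
    · obtain ⟨M, hM⟩ := Cfsg.Agent.Helper62.exists_isMinNormal (G := G)
      have hMn : M.Normal := hM.1
      let π := QuotientGroup.mk' M
      have hsurj : Function.Surjective π := QuotientGroup.mk'_surjective M
      have hlt : Nat.card (G ⧸ M) < n := by
        rw [← hcard]
        have h := Subgroup.card_eq_card_quotient_mul_card_subgroup M
        have hpos : 0 < Nat.card (G ⧸ M) := Nat.card_pos
        have hM1 : 1 < Nat.card M := by
          rw [Finite.one_lt_card_iff_nontrivial]
          exact (Subgroup.nontrivial_iff_ne_bot M).mpr hM.2.1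
        rw [h]; nlinarith
      have hq := ih _ hlt (G ⧸ M) rfl (A.map π) (B.map π) (hA.map hsurj) (hB.map hsurj)
      rw [← Subgroup.map_sup] at hq
      have hc := hq.comap π
      rw [Subgroup.comap_map_eq, QuotientGroup.ker_mk'] at hc
      have hMle : M ≤ normalizer ((A ⊔ B : Subgroup G) : Set G) := by
        refine le_trans ?_ (normalizer_inf_normalizer_le_normalizer_sup A B)
        exact le_inf (hM.le_normalizer_of_isSubnormal hA) (hM.le_normalizer_of_isSubnormal hB)
      refine IsSubnormal.step (A ⊔ B) (A ⊔ B ⊔ M) le_sup_left hc ?_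
      rw [normal_subgroupOf_iff_le_normalizer le_sup_left]
      exact sup_le le_normalizer hMle
    · rw [not_nontrivial_iff_subsingleton] at hnt
      have : A ⊔ B = ⊤ := Subsingleton.elim _ _
      rw [this]; exact IsSubnormal.top

theorem isSubnormal_sup {G : Type*} [Group G] [Finite G] (A B : Subgroup G)
    (hA : A.IsSubnormal) (hB : B.IsSubnormal) : (A ⊔ B).IsSubnormal :=
  isSubnormal_sup_aux (Nat.card G) G rfl A B hA hB

end Cfsg.Agent.Helper9
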