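import Mathlib
import Cfsg.Prelude.Def_Transfer
import Cfsg.Prelude.Def_SolvableStructure
import Cfsg.Agent.Lib.Helper2.Frobenius

set_option autoImplicit false

namespace Cfsg.Agent.Helper9

open scoped Pointwise

universe u

/-- In a finite nilpotent group, elements of prime power orders for distinct primes commute. -/
theorem commute_of_nilpotent_of_prime_pow {H : Type*} [Group H] [Finite H]
    (hH : Group.IsNilpotent H) {q r : ℕ} [hq : Fact q.Prime] [hr : Fact r.Prime] (hqr : q ≠ r)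
    (x g : H) (hx : ∃ a, orderOf x = q ^ a) (hg : ∃ k, orderOf g = r ^ k) : Commute x g := by
  have hn : ∀ (p : ℕ) (_hp : Fact p.Prime) (P : Sylow p H), (P : Subgroup H).Normal :=
    ((Group.isNilpotent_of_finite_tfae (G := H)).out 0 3).mp hH
  obtain ⟨a, ha⟩ := hx
  obtain ⟨k, hk⟩ := hg
  have h1 : IsPGroup q (Subgroup.zpowers x) := IsPGroup.of_card (n := a) (by
    rw [Nat.card_zpowers, ha])
  have h2 : IsPGroup r (Subgroup.zpowers g) := IsPGroup.of_card (n := k) (by
    rw [Nat.card_zpowers, hk])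
  obtain ⟨Q, hQ⟩ := h1.exists_le_sylow
  obtain ⟨R, hR⟩ := h2.exists_le_sylow
  have hd : Disjoint (Q : Subgroup H) (R : Subgroup H) :=
    IsPGroup.disjoint_of_ne q r hqr _ _ Q.isPGroup' R.isPGroup'
  exact Subgroup.commute_of_normal_of_disjoint _ _ (hn q hq Q) (hn r hr R) hd x g
    (hQ (Subgroup.mem_zpowers x)) (hR (Subgroup.mem_zpowers g))

/-- A finite group with a normal `q`-complement for every prime `q` is nilpotent. -/
theorem isNilpotent_of_forall_hasNormalPComplement {G : Type*} [Group G] [Finite G]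
    (h : ∀ q : ℕ, q.Prime → Cfsg.HasNormalPComplement q G) : Group.IsNilpotent G := by
  refine ((Group.isNilpotent_of_finite_tfae (G := G)).out 3 0).mp ?_
  intro p hp R
  have hpp : p.Prime := hp.out
  -- choose the normal complements
  have hN : ∀ q : {q : ℕ // q.Prime ∧ q ≠ p}, ∃ N : Subgroup G, N.Normal ∧
      ∀ x : G, x ∈ N ↔ Nat.Coprime (orderOf x) q.1 := by
    intro q
    obtain ⟨P, N, hNn, hNc⟩ := h q.1 q.2.1
    haveI : Fact q.1.Prime := ⟨q.2.1⟩
    exact ⟨N, hNn, fun x => Cfsg.Agent.Helper2.mem_normalPComplement_iff P N hNc x⟩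
  choose N hNn hNmem using hN
  set T : Subgroup G := ⨅ q, N q with hT
  have hTn : T.Normal := by
    exact Subgroup.normal_iInf_normal hNn
  have hRT : (R : Subgroup G) ≤ T := by
    intro x hx
    rw [hT, Subgroup.mem_iInf]
    intro q
    rw [hNmem]
    obtain ⟨k, hk⟩ := R.isPGroup' ⟨x, hx⟩
    have hk' : x ^ p ^ k = 1 := by
      have := congrArg Subtype.val hk
      simpa using this
    have hdvd : orderOf x ∣ p ^ k := orderOf_dvd_of_pow_eq_one hk'
    exact Nat.Coprime.coprime_dvd_left hdvd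
      (Nat.Coprime.pow_left k ((Nat.coprime_primes hpp q.2.1).mpr (Ne.symm q.2.2)))
  have hTp : IsPGroup p T := by
    rw [IsPGroup.iff_orderOf]
    intro x
    have hx : ∀ q, (x : G) ∈ N q := by
      have h0 : (x : G) ∈ ⨅ q, N q := x.2
      exact Subgroup.mem_iInf.mp h0
    refine ⟨(orderOf (x : G)).primeFactorsList.length, ?_⟩
    rw [← Subgroup.orderOf_coe]
    refine Nat.eq_prime_pow_of_unique_prime_dvd (orderOf_pos (x : G)).ne' ?_
    intro d hd hdvd
    by_contra hne
    have h1 := (hNmem ⟨d, hd, hne⟩ x).mp (hx ⟨d, hd, hne⟩)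
    have h2 : d ∣ Nat.gcd (orderOf (x : G)) d := Nat.dvd_gcd hdvd dvd_rfl
    rw [Nat.Coprime] at h1
    rw [h1] at h2
    exact hd.one_lt.ne' (Nat.dvd_one.mp h2)
  have hRT' : T = (R : Subgroup G) := R.is_maximal' hTp hRT
  rw [← hRT']
  exact hTn

/-- Prime power reduction: an element of finite order outside a subgroup has a power of prime
power order outside that subgroup. -/
theorem exists_pow_prime_pow_not_mem {G : Type*} [Group G] (C : Subgroup G) :
    ∀ (n : ℕ) (g : G), orderOf g = n → 0 < n → g ∉ C →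
      ∃ m r k : ℕ, r.Prime ∧ orderOf (g ^ m) = r ^ k ∧ g ^ m ∉ C := by
  intro n
  induction n using Nat.strong_induction_on with
  | _ n ih =>
    intro g hgn hn hgC
    have hn1 : n ≠ 1 := by
      rintro rfl
      rw [orderOf_eq_one_iff] at hgn
      exact hgC (hgn ▸ C.one_mem)
    have hr : (n.minFac).Prime := Nat.minFac_prime hn1
    obtain ⟨e, n', hn', hne⟩ := Nat.exists_eq_pow_mul_and_not_dvd hn.ne' n.minFac hr.one_lt.ne'
    set r := n.minFac with hrdef
    by_cases h1 : n' = 1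
    · refine ⟨1, r, e, hr, ?_, by simpa using hgC⟩
      rw [pow_one, hgn, hne, h1, mul_one]
    · have hn'0 : n' ≠ 0 := by
        rintro rfl
        rw [mul_zero] at hne
        exact hn.ne' hne
      have he : e ≠ 0 := by
        rintro rfl
        rw [pow_zero, one_mul] at hne
        exact hn' (hne ▸ Nat.minFac_dvd n)
      have ha1 : 1 < r ^ e := Nat.one_lt_pow he hr.one_lt
      have hb1 : 1 < n' := by omega
      have hcop : Nat.Coprime (r ^ e) n' :=
        Nat.Coprime.pow_left e ((Nat.Prime.coprime_iff_not_dvd hr).mpr hn')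
      have hoa : orderOf (g ^ (r ^ e)) = n' := by
        rw [orderOf_pow_of_dvd (by positivity) (by rw [hgn, hne]; exact dvd_mul_right _ _), hgn, hne]
        exact Nat.mul_div_cancel_left _ (by positivity)
      have hob : orderOf (g ^ n') = r ^ e := by
        rw [orderOf_pow_of_dvd hn'0 (by rw [hgn, hne]; exact dvd_mul_left _ _), hgn, hne]
        exact Nat.mul_div_cancel _ (by omega)
      have hlt1 : n' < n := by
        rw [hne]; nlinarith
      have hlt2 : r ^ e < n := by
        rw [hne]; nlinarith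
      by_cases hA : g ^ (r ^ e) ∈ C
      · by_cases hB : g ^ n' ∈ C
        · exfalso
          apply hgC
          have hbez := Nat.gcd_eq_gcd_ab (r ^ e) n'
          rw [hcop] at hbez
          have : g = (g ^ (r ^ e)) ^ (Nat.gcdA (r ^ e) n') * (g ^ n') ^ (Nat.gcdB (r ^ e) n') := by
            rw [← zpow_natCast, ← zpow_natCast, ← zpow_mul, ← zpow_mul, ← zpow_add, ← hbez]
            simp
          rw [this]
          exact C.mul_mem (C.zpow_mem hA _) (C.zpow_mem hB _)
        · obtain ⟨m, r', k, hr', ho, hm⟩ := ih (r ^ e) hlt2 (g ^ n') hob (by positivity) hB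
          refine ⟨n' * m, r', k, hr', ?_, ?_⟩
          · rw [pow_mul]; exact ho
          · rw [pow_mul]; exact hm
      · obtain ⟨m, r', k, hr', ho, hm⟩ := ih n' hlt1 (g ^ (r ^ e)) hoa (by omega) hA
        refine ⟨r ^ e * m, r', k, hr', ?_, ?_⟩
        · rw [pow_mul]; exact ho
        · rw [pow_mul]; exact hm

/-- Structure of a minimal non-nilpotent group, raw form: a normal `q`-subgroup `X` and an element
`g` of `r`-power order, not centralizing `X`, generating the group together. -/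
theorem minNonNilp_raw {G : Type u} [Group G] [Finite G] (hG : Cfsg.IsMinimalNonNilpotent G) :
    ∃ (q r : ℕ) (X : Subgroup G) (g : G), q.Prime ∧ r.Prime ∧ q ≠ r ∧ IsPGroup q X ∧ X.Normal ∧
      (∃ k, orderOf g = r ^ k) ∧ X ⊔ Subgroup.zpowers g = ⊤ ∧
      g ∉ Subgroup.centralizer (X : Set G) := by
  obtain ⟨hnn, hmin⟩ := hG
  -- some prime without normal complement
  have h1 : ∃ q : ℕ, q.Prime ∧ ¬ Cfsg.HasNormalPComplement q G := by
    by_contra hcon
    push Not at hcon
    exact hnn (isNilpotent_of_forall_hasNormalPComplement hcon)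
  obtain ⟨q, hq, hnc⟩ := h1
  haveI : Fact q.Prime := ⟨hq⟩
  have h2 : ¬ Cfsg.Agent.Helper2.FrobCond q G := fun hF => hnc (Cfsg.Agent.Helper2.frobenius q hF)
  unfold Cfsg.Agent.Helper2.FrobCond at h2
  push Not at h2
  obtain ⟨X, hX, g0, hg0N, hg0cop, hg0C⟩ := h2
  obtain ⟨m, r, k, hr, hord, hgC⟩ := exists_pow_prime_pow_not_mem
    (Subgroup.centralizer (X : Set G)) (orderOf g0) g0 rfl (orderOf_pos g0) hg0C
  set g := g0 ^ m with hgdef
  have hgN : g ∈ Subgroup.normalizer (X : Set G) := Subgroup.pow_mem _ hg0N m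
  haveI : Fact r.Prime := ⟨hr⟩
  have hk0 : k ≠ 0 := by
    rintro rfl
    rw [pow_zero, orderOf_eq_one_iff] at hord
    exact hgC (hord ▸ Subgroup.one_mem _)
  have hqr : q ≠ r := by
    rintro rfl
    have h3 : q ∣ orderOf g := by rw [hord]; exact dvd_pow_self q hk0
    have h4 : orderOf g ∣ orderOf g0 := orderOf_pow_dvd m
    have h5 : q ∣ Nat.gcd (orderOf g0) q := Nat.dvd_gcd (h3.trans h4) dvd_rfl
    rw [Nat.Coprime] at hg0cop
    rw [hg0cop] at h5
    exact hq.one_lt.ne' (Nat.dvd_one.mp h5)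
  -- the subgroup generated
  set H : Subgroup G := X ⊔ Subgroup.zpowers g with hH
  have hXH : X ≤ H := le_sup_left
  have hgH : g ∈ H := (le_sup_right : Subgroup.zpowers g ≤ H) (Subgroup.mem_zpowers g)
  have hHtop : H = ⊤ := by
    by_contra hne
    have hnil : Group.IsNilpotent H := hmin H hne
    apply hgC
    rw [Subgroup.mem_centralizer_iff]
    intro x hx
    have hxH : x ∈ H := hXH hx
    obtain ⟨a, ha⟩ := (IsPGroup.iff_orderOf.mp hX) ⟨x, hx⟩
    have hxo : orderOf (⟨x, hxH⟩ : H) = q ^ a := by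
      rw [← Subgroup.orderOf_coe] at ha ⊢
      exact ha
    have hgo : orderOf (⟨g, hgH⟩ : H) = r ^ k := by
      rw [← Subgroup.orderOf_coe]
      exact hord
    have hc := commute_of_nilpotent_of_prime_pow hnil hqr (⟨x, hxH⟩ : H) ⟨g, hgH⟩ ⟨a, hxo⟩ ⟨k, hgo⟩
    have hc' := congrArg Subtype.val hc.eq
    simpa using hc'
  have hXn : X.Normal := by
    rw [← Subgroup.normalizer_eq_top_iff]
    rw [eq_top_iff, ← hHtop, hH]
    refine sup_le Subgroup.le_normalizer ?_
    rw [Subgroup.zpowers_le]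
    exact hgN
  exact ⟨q, r, X, g, hq, hr, hqr, hX, hXn, ⟨k, hord⟩, hHtop, hgC⟩

/-- Structure of a minimal non-nilpotent group, Sylow form. -/
theorem minNonNilp_sylow {G : Type u} [Group G] [Finite G] (hG : Cfsg.IsMinimalNonNilpotent G) :
    ∃ (q r : ℕ) (_ : Fact q.Prime) (_ : Fact r.Prime) (Q : Sylow q G) (P : Sylow r G) (g : G),
      q ≠ r ∧ (Q : Subgroup G).Normal ∧ (P : Subgroup G) = Subgroup.zpowers g ∧
      (Q : Subgroup G) ⊔ (P : Subgroup G) = ⊤ ∧ (Q : Subgroup G).IsComplement' (P : Subgroup G) ∧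
      g ∉ Subgroup.centralizer ((Q : Subgroup G) : Set G) := by
  obtain ⟨q, r, X, g, hq, hr, hqr, hX, hXn, ⟨k, hord⟩, htop, hgC⟩ := minNonNilp_raw hG
  haveI : Fact q.Prime := ⟨hq⟩
  haveI : Fact r.Prime := ⟨hr⟩
  have hZ : IsPGroup r (Subgroup.zpowers g) := IsPGroup.of_card (n := k) (by
    rw [Nat.card_zpowers, hord])
  have hdis : Disjoint X (Subgroup.zpowers g) := IsPGroup.disjoint_of_ne q r hqr _ _ hX hZ
  have hmul : ((X : Set G) * (Subgroup.zpowers g : Set G)) = Set.univ := by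
    rw [← Subgroup.normal_mul, htop]; rfl
  have hcomp : X.IsComplement' (Subgroup.zpowers g) :=
    Subgroup.isComplement'_of_disjoint_and_mul_eq_univ hdis hmul
  obtain ⟨a, ha⟩ := IsPGroup.iff_card.mp hX
  have hiX : X.index = r ^ k := by
    rw [hcomp.symm.index_eq_card, Nat.card_zpowers, hord]
  have hiZ : (Subgroup.zpowers g).index = q ^ a := by
    rw [hcomp.index_eq_card, ha]
  have hX2 : ¬ q ∣ X.index := by
    rw [hiX]
    intro hdvd
    exact hqr ((Nat.prime_dvd_prime_iff_eq hq hr).mp (hq.dvd_of_dvd_pow hdvd))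
  have hZ2 : ¬ r ∣ (Subgroup.zpowers g).index := by
    rw [hiZ]
    intro hdvd
    exact hqr ((Nat.prime_dvd_prime_iff_eq hr hq).mp (hr.dvd_of_dvd_pow hdvd)).symm
  refine ⟨q, r, ⟨hq⟩, ⟨hr⟩, hX.toSylow hX2, hZ.toSylow hZ2, g, hqr, ?_, ?_, ?_, ?_, ?_⟩
  · rw [IsPGroup.toSylow_coe]; exact hXn
  · rw [IsPGroup.toSylow_coe]
  · rw [IsPGroup.toSylow_coe, IsPGroup.toSylow_coe]; exact htop
  · rw [IsPGroup.toSylow_coe, IsPGroup.toSylow_coe]; exact hcomp
  · rw [IsPGroup.toSylow_coe]; exact hgC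

end Cfsg.Agent.Helper9
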