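import Mathlib
import Cfsg.Agent.Lib.Helper52.Coprime
import Cfsg.Agent.Lib.Helper24.Averaging

/-!
# CD3B project (S4460): piece (G1) `supplement` (helper9)
-/

set_option autoImplicit false

namespace Cfsg.Agent.Helper9.CD3B

open Subgroup

universe u

/-- (G1) the supplement. -/
theorem supplement {G : Type u} [Group G] [Finite G] (p : ℕ) [Fact p.Prime] (F R P : Subgroup G)
    (hF : F.Normal) (hR : R.Normal) (hRF : R ≤ F) (hPF : P ≤ F)
    (hRc : (Nat.card R).Coprime p) (hP : IsPGroup p P) (hcard : Nat.card R * Nat.card P = Nat.card F)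
    (hcomm : ⁅R, F⁆ ≤ ⁅R, P⁆) :
    ⁅R, F⁆ ⊔ Subgroup.normalizer (P : Set G) = ⊤ ∧
      ⁅R, F⁆ ⊓ Subgroup.normalizer (P : Set G) ≤ ⁅⁅R, F⁆, ⁅R, F⁆⁆ := by
  have instF := hF
  have instR := hR
  obtain ⟨n, hn⟩ := hP.exists_card_eq
  have hcop : (Nat.card R).Coprime (Nat.card P) := by
    rw [hn]
    exact hRc.pow_right n
  have hnilP : Group.IsNilpotent P := hP.isNilpotent
  have hsolvP : Group.IsSolvable P := inferInstance
  have hW_eq : ⁅R, F⁆ = ⁅R, P⁆ := le_antisymm hcomm (commutator_mono le_rfl hPF)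
  have hWn : (⁅R, F⁆).Normal := inferInstance
  have hWR : ⁅R, F⁆ ≤ R := commutator_le_left R F
  have hPnR : P ≤ normalizer (R : Set G) := by
    rw [normalizer_eq_top_iff.mpr hR]
    exact le_top
  have hdisj : Disjoint R P := disjoint_of_coprime_natCard hcop
  -- `R ⊔ P = F`
  have hRP : R ⊔ P = F := by
    apply eq_of_le_of_card_ge (sup_le hRF hPF)
    apply Nat.le_of_dvd Nat.card_pos
    rw [← hcard]
    exact Nat.Coprime.mul_dvd_of_dvd_of_dvd hcop (card_dvd_of_le le_sup_left)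
      (card_dvd_of_le le_sup_right)
  -- Frattini via Schur-Zassenhaus conjugacy
  have key : ∀ g : G, ∃ r ∈ R, r⁻¹ * g ∈ normalizer (P : Set G) := by
    intro g
    have hB : P.map (MulAut.conj g).toMonoidHom ≤ R ⊔ P := by
      rw [hRP]
      rintro x ⟨a, ha, rfl⟩
      exact hF.conj_mem a (hPF ha) g
    have hcardB : Nat.card (P.map (MulAut.conj g).toMonoidHom) = Nat.card P :=
      card_map_of_injective (MulAut.conj g).injective
    obtain ⟨r, hr, hBr⟩ := Cfsg.Agent.Helper52.sz_conj_internal R P _ hPnR (Or.inr hsolvP) hcop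
      hcardB hB
    refine ⟨r, hr, ?_⟩
    rw [mem_normalizer_iff]
    intro h
    constructor
    · intro hh
      have h1 : g * h * g⁻¹ ∈ P.map (MulAut.conj g).toMonoidHom := ⟨h, hh, by simp⟩
      rw [hBr] at h1
      obtain ⟨h', hh', he⟩ := h1
      have he' : r * h' * r⁻¹ = g * h * g⁻¹ := by simpa using he
      have : r⁻¹ * g * h * (r⁻¹ * g)⁻¹ = h' := by
        calc r⁻¹ * g * h * (r⁻¹ * g)⁻¹ = r⁻¹ * (g * h * g⁻¹) * r := by group
          _ = r⁻¹ * (r * h' * r⁻¹) * r := by rw [he']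
          _ = h' := by group
      rw [this]
      exact hh'
    · intro hh
      set h' := r⁻¹ * g * h * (r⁻¹ * g)⁻¹ with hh'def
      have h1 : r * h' * r⁻¹ ∈ P.map (MulAut.conj r).toMonoidHom := ⟨h', hh, by simp⟩
      rw [← hBr] at h1
      obtain ⟨h'', hh'', he⟩ := h1
      have he' : g * h'' * g⁻¹ = r * h' * r⁻¹ := by simpa using he
      have : h = h'' := by
        have e1 : r * h' * r⁻¹ = g * h * g⁻¹ := by
          rw [hh'def]
          group
        rw [e1] at he'
        have := mul_left_cancel (mul_right_cancel he')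
        exact this.symm
      rw [this]
      exact hh''
  have hRdecomp : R = ⁅R, P⁆ ⊔ (R ⊓ centralizer (P : Set G)) :=
    Cfsg.Agent.Helper52.eq_commutator_sup_centralizer R P hPnR hcop.symm (Or.inl hsolvP)
  have hRle : R ≤ ⁅R, F⁆ ⊔ normalizer (P : Set G) := by
    have h1 : ⁅R, P⁆ ⊔ (R ⊓ centralizer (P : Set G)) ≤ ⁅R, F⁆ ⊔ normalizer (P : Set G) := by
      rw [hW_eq]
      exact sup_le_sup le_rfl (inf_le_right.trans (centralizer_le_normalizer _))
    exact hRdecomp.le.trans h1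
  constructor
  · rw [eq_top_iff]
    intro g _
    obtain ⟨r, hr, hrg⟩ := key g
    have : g = r * (r⁻¹ * g) := by group
    rw [this]
    exact mul_mem (hRle hr) (mem_sup_right hrg)
  · intro x hx
    obtain ⟨hxW, hxN⟩ := mem_inf.mp hx
    -- `x` centralises `P`
    have hxC : x ∈ centralizer (P : Set G) := by
      rw [mem_centralizer_iff]
      intro a ha
      have h1 : x * a * x⁻¹ ∈ P := (mem_normalizer_iff.mp hxN a).mp ha
      have h2 : x * a * x⁻¹ * a⁻¹ ∈ P := P.mul_mem h1 (P.inv_mem ha)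
      have h3 : x * a * x⁻¹ * a⁻¹ ∈ R := by
        have h4 : a * x⁻¹ * a⁻¹ ∈ ⁅R, F⁆ := hWn.conj_mem _ (inv_mem hxW) a
        have h5 : x * a * x⁻¹ * a⁻¹ = x * (a * x⁻¹ * a⁻¹) := by group
        rw [h5]
        exact hWR (mul_mem hxW h4)
      have h6 : x * a * x⁻¹ * a⁻¹ = 1 := disjoint_def.mp hdisj h3 h2
      calc a * x = (x * a * x⁻¹ * a⁻¹)⁻¹ * (x * a) := by group
        _ = x * a := by rw [h6]; group
    -- averaging
    have hPnW : P ≤ normalizer ((⁅R, F⁆ : Subgroup G) : Set G) := by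
      rw [normalizer_eq_top_iff.mpr hWn]
      exact le_top
    have hcopW : (Nat.card (⁅R, F⁆ : Subgroup G)).Coprime (Nat.card P) :=
      Nat.Coprime.coprime_dvd_left (card_dvd_of_le hWR) hcop
    have havg := Cfsg.Agent.Helper24.inf_centralizer_inf_commutator_le ⁅R, F⁆ P hPnW hcopW
    have hWP : ⁅⁅R, F⁆, P⁆ = ⁅R, F⁆ := by
      rw [hW_eq]
      exact Cfsg.Agent.Helper52.commutator_commutator_eq R P hPnR hcop.symm (Or.inl hsolvP)
    apply havg
    rw [hWP]
    exact ⟨⟨hxW, hxC⟩, hxW⟩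

end Cfsg.Agent.Helper9.CD3B
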