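import Mathlib

set_option autoImplicit false

/-!
# A transvection argument over the prime field (helper9)

`V` an elementary abelian normal `p`-subgroup of a finite group `G` of odd order, `a` an element
with `[V, a] ≤ ⟨u⟩` and `[u, a] = 1` (a "transvection" with centre `⟨u⟩`), `r` any element.  Then the
`p'`-part of `a⁻¹ a^r` centralizes `V`: either `⟨a, a^r⟩` stabilizes a chain in `V` (unipotent
action), or two transvections with distinct centres would produce an element of order `4`.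
-/

namespace Cfsg.Agent.Helper9

variable {G : Type*} [Group G]

/-- Elements normalizing `B` and acting trivially on `A` modulo `B`. -/
def trivOn (A B : Subgroup G) : Subgroup G where
  carrier := {g | (∀ v ∈ B, g * v * g⁻¹ ∈ B) ∧ (∀ v ∈ B, g⁻¹ * v * g ∈ B) ∧
    (∀ v ∈ A, g * v * g⁻¹ * v⁻¹ ∈ B) ∧ (∀ v ∈ A, g⁻¹ * v * g * v⁻¹ ∈ B)}
  one_mem' := by
    refine ⟨?_, ?_, ?_, ?_⟩ <;> intro v hv <;> simp [hv, B.one_mem]
  mul_mem' := by
    rintro g h ⟨g1, g2, g3, g4⟩ ⟨h1, h2, h3, h4⟩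
    refine ⟨?_, ?_, ?_, ?_⟩
    · intro v hv
      have := g1 _ (h1 v hv)
      convert this using 1; group
    · intro v hv
      have := h2 _ (g2 v hv)
      convert this using 1; group
    · intro v hv
      have := B.mul_mem (g1 _ (h3 v hv)) (g3 v hv)
      convert this using 1; group
    · intro v hv
      have := B.mul_mem (h2 _ (g4 v hv)) (h4 v hv)
      convert this using 1; group
  inv_mem' := by
    rintro g ⟨g1, g2, g3, g4⟩
    refine ⟨?_, ?_, ?_, ?_⟩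
    · simpa using g2
    · simpa using g1
    · simpa using g4
    · simpa using g3

theorem mem_trivOn {A B : Subgroup G} {g : G} : g ∈ trivOn A B ↔
    (∀ v ∈ B, g * v * g⁻¹ ∈ B) ∧ (∀ v ∈ B, g⁻¹ * v * g ∈ B) ∧
    (∀ v ∈ A, g * v * g⁻¹ * v⁻¹ ∈ B) ∧ (∀ v ∈ A, g⁻¹ * v * g * v⁻¹ ∈ B) := Iff.rfl

/-- Forward conditions suffice when `A` is `g⁻¹`-invariant and `B ≤ A`. -/
theorem mem_trivOn_of_forward {A B : Subgroup G} (hBA : B ≤ A) {g : G}
    (h1 : ∀ v ∈ B, g * v * g⁻¹ ∈ B) (h3 : ∀ v ∈ A, g * v * g⁻¹ * v⁻¹ ∈ B)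
    (hA : ∀ v ∈ A, g⁻¹ * v * g ∈ A) : g ∈ trivOn A B := by
  have h4 : ∀ v ∈ A, g⁻¹ * v * g * v⁻¹ ∈ B := by
    intro v hv
    have := B.inv_mem (h3 _ (hA v hv))
    convert this using 1; group
  refine ⟨h1, ?_, h3, h4⟩
  intro v hv
  have := B.mul_mem (h4 v (hBA hv)) hv
  convert this using 1; group

/-- One step of the coprime-action argument. -/
theorem eq_one_of_coprime_step {p n : ℕ} (hn : n.Coprime p) (y v c : G)
    (hc : y * v * y⁻¹ = c * v) (hyc : y * c * y⁻¹ = c) (hcp : c ^ p = 1)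
    (hyn : y ^ n * v * (y ^ n)⁻¹ = v) : c = 1 := by
  have key : ∀ k : ℕ, y ^ k * v * (y ^ k)⁻¹ = c ^ k * v := by
    intro k
    induction k with
    | zero => simp
    | succ k ih =>
      have hck : y * c ^ k * y⁻¹ = c ^ k := by
        rw [← conj_pow, hyc]
      calc y ^ (k+1) * v * (y ^ (k+1))⁻¹ = y * (y ^ k * v * (y ^ k)⁻¹) * y⁻¹ := by
            rw [pow_succ']; group
        _ = y * (c ^ k * v) * y⁻¹ := by rw [ih]
        _ = (y * c ^ k * y⁻¹) * (y * v * y⁻¹) := by group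
        _ = c ^ k * (c * v) := by rw [hck, hc]
        _ = c ^ (k+1) * v := by rw [pow_succ]; group
  have h1 := key n
  rw [hyn] at h1
  have h2 : c ^ n = 1 := by
    have : c ^ n * v = 1 * v := by rw [one_mul]; exact h1.symm
    exact mul_right_cancel this
  have h3 : orderOf c ∣ Nat.gcd n p :=
    Nat.dvd_gcd (orderOf_dvd_of_pow_eq_one h2) (orderOf_dvd_of_pow_eq_one hcp)
  rw [Nat.Coprime.gcd_eq_one hn, Nat.dvd_one] at h3
  exact orderOf_eq_one_iff.mp h3

/-- Elements of `zpowers w` are fixed by anything commuting with `w`. -/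
theorem conj_eq_of_mem_zpowers {g w v : G} (hgw : g * w * g⁻¹ = w) (hv : v ∈ Subgroup.zpowers w) :
    g * v * g⁻¹ = v := by
  obtain ⟨k, rfl⟩ := Subgroup.mem_zpowers_iff.mp hv
  rw [← conj_zpow, hgw]

theorem inv_conj_eq_of_conj_eq {g v : G} (h : g * v * g⁻¹ = v) : g⁻¹ * v * g = v := by
  calc g⁻¹ * v * g = g⁻¹ * (g * v * g⁻¹) * g := by rw [h]
    _ = v := by group

/-- **Chain lemma.**  `a`, `b` "transvections" on the elementary abelian normal `p`-subgroup `V` with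
centres `⟨u⟩`, `⟨w⟩`, and `a` fixing `w`: every element of `⟨a, b⟩` some `p'`-power of which
centralizes `V` centralizes `V`. -/
theorem centralizes_of_chain {p : ℕ} (V : Subgroup G) [hVn : V.Normal]
    (hVp : ∀ v ∈ V, v ^ p = 1) (a u b w : G) (hu : u ∈ V) (hw : w ∈ V)
    (ha : ∀ v ∈ V, a * v * a⁻¹ * v⁻¹ ∈ Subgroup.zpowers u) (hau : a * u * a⁻¹ = u)
    (hb : ∀ v ∈ V, b * v * b⁻¹ * v⁻¹ ∈ Subgroup.zpowers w) (hbw : b * w * b⁻¹ = w)
    (haw : a * w * a⁻¹ = w) (y : G) (hy : y ∈ Subgroup.closure ({a, b} : Set G)) (n : ℕ)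
    (hn : n.Coprime p) (hyn : ∀ v ∈ V, y ^ n * v * (y ^ n)⁻¹ = v) :
    ∀ v ∈ V, y * v * y⁻¹ = v := by
  -- the chain `1 ≤ W₁ ≤ W₂ ≤ V`
  set W₁ : Subgroup G := Subgroup.zpowers w with hW₁
  set W₂ : Subgroup G := V ⊓ Subgroup.centralizer {a} with hW₂
  have hmemW₂ : ∀ v, v ∈ W₂ ↔ v ∈ V ∧ a * v * a⁻¹ = v := by
    intro v
    rw [hW₂, Subgroup.mem_inf, Subgroup.mem_centralizer_iff]
    constructor
    · rintro ⟨h1, h2⟩
      refine ⟨h1, ?_⟩
      have := h2 a rfl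
      rw [this]; group
    · rintro ⟨h1, h2⟩
      refine ⟨h1, ?_⟩
      intro h hh
      rw [Set.mem_singleton_iff] at hh
      subst hh
      calc h * v = (h * v * h⁻¹) * h := by group
        _ = v * h := by rw [h2]
  have hW₁V : W₁ ≤ V := by rw [hW₁, Subgroup.zpowers_le]; exact hw
  have hW₁W₂ : W₁ ≤ W₂ := by
    intro v hv
    exact (hmemW₂ v).mpr ⟨hW₁V hv, conj_eq_of_mem_zpowers haw hv⟩
  have huW₂ : Subgroup.zpowers u ≤ W₂ := by
    intro v hv
    refine (hmemW₂ v).mpr ⟨?_, conj_eq_of_mem_zpowers hau hv⟩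
    exact (Subgroup.zpowers_le.mpr hu) hv
  have hW₂V : W₂ ≤ V := inf_le_left
  have hVinv : ∀ g : G, ∀ v ∈ V, g⁻¹ * v * g ∈ V := by
    intro g v hv
    have := hVn.conj_mem v hv g⁻¹
    simpa using this
  -- membership of a and b in the stabilizer of the chain
  have haVW₂ : a ∈ trivOn V W₂ := by
    apply mem_trivOn_of_forward hW₂V
    · intro v hv
      rw [((hmemW₂ v).mp hv).2]; exact hv
    · intro v hv
      exact huW₂ (ha v hv)
    · exact hVinv a
  have hbVW₂ : b ∈ trivOn V W₂ := by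
    apply mem_trivOn_of_forward hW₂V
    · intro v hv
      have h1 := hW₁W₂ (hb v (hW₂V hv))
      have := W₂.mul_mem h1 hv
      convert this using 1; group
    · intro v hv
      exact hW₁W₂ (hb v hv)
    · exact hVinv b
  have haW₂W₁ : a ∈ trivOn W₂ W₁ := by
    apply mem_trivOn_of_forward hW₁W₂
    · intro v hv
      rw [conj_eq_of_mem_zpowers haw hv]; exact hv
    · intro v hv
      rw [((hmemW₂ v).mp hv).2, mul_inv_cancel]; exact W₁.one_mem
    · intro v hv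
      rw [inv_conj_eq_of_conj_eq ((hmemW₂ v).mp hv).2]; exact hv
  have hbW₂W₁ : b ∈ trivOn W₂ W₁ := by
    apply mem_trivOn_of_forward hW₁W₂
    · intro v hv
      rw [conj_eq_of_mem_zpowers hbw hv]; exact hv
    · intro v hv
      exact hb v (hW₂V hv)
    · exact (mem_trivOn.mp hbVW₂).2.1
  have hcent : ∀ g : G, g * w * g⁻¹ = w → g ∈ Subgroup.centralizer (W₁ : Set G) := by
    intro g hg
    rw [Subgroup.mem_centralizer_iff]
    intro h hh
    have := conj_eq_of_mem_zpowers hg hh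
    calc h * g = (g * h * g⁻¹) * g := by rw [this]
      _ = g * h := by group
  set St : Subgroup G := trivOn V W₂ ⊓ trivOn W₂ W₁ ⊓ Subgroup.centralizer (W₁ : Set G) with hSt
  have hle : Subgroup.closure ({a, b} : Set G) ≤ St := by
    rw [Subgroup.closure_le]
    intro g hg
    rcases hg with rfl | hg
    · exact ⟨⟨haVW₂, haW₂W₁⟩, hcent _ haw⟩
    · rw [Set.mem_singleton_iff] at hg
      subst hg
      exact ⟨⟨hbVW₂, hbW₂W₁⟩, hcent _ hbw⟩
  obtain ⟨⟨hy1, hy2⟩, hy3⟩ := hle hy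
  have hyW₁ : ∀ v ∈ W₁, y * v * y⁻¹ = v := by
    intro v hv
    have := (Subgroup.mem_centralizer_iff.mp hy3) v hv
    calc y * v * y⁻¹ = (v * y) * y⁻¹ := by rw [this]
      _ = v := by group
  -- y centralizes W₂
  have hyW₂ : ∀ v ∈ W₂, y * v * y⁻¹ = v := by
    intro v hv
    have hc := (mem_trivOn.mp hy2).2.2.1 v hv
    have h1 : y * v * y⁻¹ * v⁻¹ = 1 := by
      apply eq_one_of_coprime_step hn y v _ (by group) (hyW₁ _ hc) (hVp _ (hW₁V hc))
        (hyn v (hW₂V hv))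
    calc y * v * y⁻¹ = (y * v * y⁻¹ * v⁻¹) * v := by group
      _ = v := by rw [h1, one_mul]
  intro v hv
  have hc := (mem_trivOn.mp hy1).2.2.1 v hv
  have h1 : y * v * y⁻¹ * v⁻¹ = 1 := by
    apply eq_one_of_coprime_step hn y v _ (by group) (hyW₂ _ hc) (hVp _ (hW₂V hc)) (hyn v hv)
  calc y * v * y⁻¹ = (y * v * y⁻¹ * v⁻¹) * v := by group
    _ = v := by rw [h1, one_mul]

/-- Iterating a transvection: if `a` fixes `e` and `a w a⁻¹ = e w` then `a^k w a^{-k} = e^k w`. -/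
theorem pow_conj_of_transvection {a w e : G} (hae : a * e * a⁻¹ = e) (haw : a * w * a⁻¹ = e * w)
    (k : ℕ) : a ^ k * w * (a ^ k)⁻¹ = e ^ k * w := by
  induction k with
  | zero => simp
  | succ k ih =>
    have hek : a * e ^ k * a⁻¹ = e ^ k := by rw [← conj_pow, hae]
    calc a ^ (k+1) * w * (a ^ (k+1))⁻¹ = a * (a ^ k * w * (a ^ k)⁻¹) * a⁻¹ := by
          rw [pow_succ']; group
      _ = a * (e ^ k * w) * a⁻¹ := by rw [ih]
      _ = (a * e ^ k * a⁻¹) * (a * w * a⁻¹) := by group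
      _ = e ^ k * (e * w) := by rw [hek, haw]
      _ = e ^ (k+1) * w := by rw [pow_succ]; group

theorem pow_conj_eq_self {a u : G} (hau : a * u * a⁻¹ = u) (k : ℕ) :
    a ^ k * u * (a ^ k)⁻¹ = u := by
  induction k with
  | zero => simp
  | succ k ih =>
    calc a ^ (k+1) * u * (a ^ (k+1))⁻¹ = a * (a ^ k * u * (a ^ k)⁻¹) * a⁻¹ := by
          rw [pow_succ']; group
      _ = u := by rw [ih, hau]

/-- In a cyclic group of prime order, every element is a natural power of any nontrivial element. -/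
theorem exists_pow_eq_of_mem_zpowers_prime [Finite G] {p : ℕ} [hp : Fact p.Prime] {u e x : G}
    (hup : u ^ p = 1) (he : e ∈ Subgroup.zpowers u) (he1 : e ≠ 1) (hx : x ∈ Subgroup.zpowers u) :
    ∃ k : ℕ, e ^ k = x := by
  have hu1 : u ≠ 1 := by
    rintro rfl
    rw [Subgroup.zpowers_one_eq_bot, Subgroup.mem_bot] at he
    exact he1 he
  have hord : orderOf u = p := by
    have h1 : orderOf u ∣ p := orderOf_dvd_of_pow_eq_one hup
    rcases (Nat.dvd_prime hp.out).mp h1 with h | h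
    · exact absurd (orderOf_eq_one_iff.mp h) hu1
    · exact h
  have hcard : Nat.card (Subgroup.zpowers u) = p := by rw [Nat.card_zpowers, hord]
  have hne : (⟨e, he⟩ : Subgroup.zpowers u) ≠ 1 := by
    intro h
    exact he1 (congrArg Subtype.val h)
  have h1 : (⟨x, hx⟩ : Subgroup.zpowers u) ∈ Subgroup.zpowers (⟨e, he⟩ : Subgroup.zpowers u) :=
    mem_zpowers_of_prime_card hcard hne
  have h2 : (⟨x, hx⟩ : Subgroup.zpowers u) ∈ Submonoid.powers (⟨e, he⟩ : Subgroup.zpowers u) :=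
    (IsOfFinOrder.mem_powers_iff_mem_zpowers (isOfFinOrder_of_finite _)).mpr h1
  obtain ⟨k, hk⟩ := Submonoid.mem_powers_iff _ _ |>.mp h2
  refine ⟨k, ?_⟩
  have := congrArg Subtype.val hk
  simpa using this

/-- Two transvections on `V` with centres `⟨u⟩`, `⟨w⟩`, neither fixing the other's centre,
generate an element of even order (the matrix `[[0,1],[-1,0]]`). -/
theorem false_of_two_transvections [Finite G] (hodd : Odd (Nat.card G)) {p : ℕ} [hp : Fact p.Prime]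
    (V : Subgroup G) (hVc : ∀ x ∈ V, ∀ y ∈ V, x * y = y * x) (hVp : ∀ v ∈ V, v ^ p = 1)
    (a u b w : G) (hu : u ∈ V) (hw : w ∈ V)
    (hau : a * u * a⁻¹ = u) (hbw : b * w * b⁻¹ = w)
    (hawm : a * w * a⁻¹ * w⁻¹ ∈ Subgroup.zpowers u) (hbum : b * u * b⁻¹ * u⁻¹ ∈ Subgroup.zpowers w)
    (haw : a * w * a⁻¹ ≠ w) (hbu : b * u * b⁻¹ ≠ u) : False := by
  set e := a * w * a⁻¹ * w⁻¹ with he
  set f := b * u * b⁻¹ * u⁻¹ with hf
  have he1 : e ≠ 1 := by
    intro h
    apply haw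
    calc a * w * a⁻¹ = e * w := by rw [he]; group
      _ = w := by rw [h, one_mul]
  have hf1 : f ≠ 1 := by
    intro h
    apply hbu
    calc b * u * b⁻¹ = f * u := by rw [hf]; group
      _ = u := by rw [h, one_mul]
  obtain ⟨i, hi⟩ := exists_pow_eq_of_mem_zpowers_prime (hVp u hu) hawm he1 (Subgroup.mem_zpowers u)
  obtain ⟨j, hj⟩ := exists_pow_eq_of_mem_zpowers_prime (hVp w hw) hbum hf1
    ((Subgroup.zpowers w).inv_mem (Subgroup.mem_zpowers w))
  have hae : a * e * a⁻¹ = e := conj_eq_of_mem_zpowers hau hawm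
  have hbf : b * f * b⁻¹ = f := conj_eq_of_mem_zpowers hbw hbum
  have haw' : a * w * a⁻¹ = e * w := by rw [he]; group
  have hbu' : b * u * b⁻¹ = f * u := by rw [hf]; group
  -- normalized transvections
  have h1 : a ^ i * w * (a ^ i)⁻¹ = u * w := by rw [pow_conj_of_transvection hae haw' i, hi]
  have h2 : a ^ i * u * (a ^ i)⁻¹ = u := pow_conj_eq_self hau i
  have h3 : b ^ j * u * (b ^ j)⁻¹ = w⁻¹ * u := by rw [pow_conj_of_transvection hbf hbu' j, hj]
  have h4 : b ^ j * w * (b ^ j)⁻¹ = w := pow_conj_eq_self hbw j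
  set a' := a ^ i with ha'
  set b' := b ^ j with hb'
  set g := a' * b' * a' with hg
  have hwu : w⁻¹ * u * w = u := by
    have := hVc w hw u hu
    calc w⁻¹ * u * w = w⁻¹ * (u * w) := by group
      _ = w⁻¹ * (w * u) := by rw [this]
      _ = u := by group
  have hgu : g * u * g⁻¹ = w⁻¹ := by
    calc g * u * g⁻¹ = a' * (b' * (a' * u * a'⁻¹) * b'⁻¹) * a'⁻¹ := by rw [hg]; group
      _ = a' * (w⁻¹ * u) * a'⁻¹ := by rw [h2, h3]
      _ = (a' * w * a'⁻¹)⁻¹ * (a' * u * a'⁻¹) := by group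
      _ = (u * w)⁻¹ * u := by rw [h1, h2]
      _ = w⁻¹ := by group
  have hgw : g * w * g⁻¹ = u := by
    calc g * w * g⁻¹ = a' * (b' * (a' * w * a'⁻¹) * b'⁻¹) * a'⁻¹ := by rw [hg]; group
      _ = a' * (b' * (u * w) * b'⁻¹) * a'⁻¹ := by rw [h1]
      _ = a' * ((b' * u * b'⁻¹) * (b' * w * b'⁻¹)) * a'⁻¹ := by group
      _ = a' * (w⁻¹ * u * w) * a'⁻¹ := by rw [h3, h4]
      _ = u := by rw [hwu, h2]
  have hg2u : g ^ 2 * u * (g ^ 2)⁻¹ = u⁻¹ := by
    calc g ^ 2 * u * (g ^ 2)⁻¹ = g * (g * u * g⁻¹) * g⁻¹ := by rw [pow_two]; group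
      _ = (g * w * g⁻¹)⁻¹ := by rw [hgu]; group
      _ = u⁻¹ := by rw [hgw]
  have hg2u' : g ^ 2 * u⁻¹ * (g ^ 2)⁻¹ = u := by
    calc g ^ 2 * u⁻¹ * (g ^ 2)⁻¹ = (g ^ 2 * u * (g ^ 2)⁻¹)⁻¹ := by group
      _ = u := by rw [hg2u, inv_inv]
  have hiter : ∀ k : ℕ, (g ^ 2) ^ k * u * ((g ^ 2) ^ k)⁻¹ = u ∨
      (g ^ 2) ^ k * u * ((g ^ 2) ^ k)⁻¹ = u⁻¹ := by
    intro k
    induction k with
    | zero => left; simp
    | succ k ih =>
      have hstep : (g ^ 2) ^ (k+1) * u * ((g ^ 2) ^ (k+1))⁻¹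
          = g ^ 2 * ((g ^ 2) ^ k * u * ((g ^ 2) ^ k)⁻¹) * (g ^ 2)⁻¹ := by
        rw [pow_succ']; group
      rcases ih with ih | ih
      · right; rw [hstep, ih, hg2u]
      · left; rw [hstep, ih, hg2u']
  -- odd order of g
  have hgodd : Odd (orderOf g) := hodd.of_dvd_nat (orderOf_dvd_natCard g)
  obtain ⟨k, hk⟩ := hgodd
  have hone : g * (g ^ 2) ^ k = 1 := by
    rw [← pow_mul, ← pow_succ', ← hk]; exact pow_orderOf_eq_one g
  have hfin : g * ((g ^ 2) ^ k * u * ((g ^ 2) ^ k)⁻¹) * g⁻¹ = u := by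
    calc g * ((g ^ 2) ^ k * u * ((g ^ 2) ^ k)⁻¹) * g⁻¹
        = (g * (g ^ 2) ^ k) * u * (g * (g ^ 2) ^ k)⁻¹ := by group
      _ = u := by rw [hone]; group
  have hwmem : w ∈ Subgroup.zpowers u := by
    rcases hiter k with h | h
    · rw [h, hgu] at hfin
      have : w = u⁻¹ := by rw [← hfin, inv_inv]
      rw [this]; exact (Subgroup.zpowers u).inv_mem (Subgroup.mem_zpowers u)
    · rw [h] at hfin
      have h5 : g * u⁻¹ * g⁻¹ = w := by
        calc g * u⁻¹ * g⁻¹ = (g * u * g⁻¹)⁻¹ := by group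
          _ = w := by rw [hgu, inv_inv]
      rw [h5] at hfin
      rw [hfin]; exact Subgroup.mem_zpowers u
  exact haw (conj_eq_of_mem_zpowers hau hwmem)

/-- **Main lemma.**  `V` elementary abelian normal `p`-subgroup of the odd-order group `G`, `a` a
transvection on `V` with centre `⟨u⟩`.  For any `r`, if a `p'`-power of `y = a⁻¹ a^r` centralizes `V`,
then `y` centralizes `V`. -/
theorem centralizes_of_transvection_pair [Finite G] (hodd : Odd (Nat.card G)) {p : ℕ}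
    [hp : Fact p.Prime] (V : Subgroup G) [hVn : V.Normal]
    (hVc : ∀ x ∈ V, ∀ y ∈ V, x * y = y * x) (hVp : ∀ v ∈ V, v ^ p = 1) (u a r : G) (hu : u ∈ V)
    (ha : ∀ v ∈ V, a * v * a⁻¹ * v⁻¹ ∈ Subgroup.zpowers u) (hau : a * u * a⁻¹ = u) (n : ℕ)
    (hn : n.Coprime p)
    (hyn : ∀ v ∈ V, (a⁻¹ * (r⁻¹ * a * r)) ^ n * v * ((a⁻¹ * (r⁻¹ * a * r)) ^ n)⁻¹ = v) :
    ∀ v ∈ V, (a⁻¹ * (r⁻¹ * a * r)) * v * (a⁻¹ * (r⁻¹ * a * r))⁻¹ = v := by
  set b := r⁻¹ * a * r with hb
  set w := r⁻¹ * u * r with hw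
  have hwV : w ∈ V := by
    have := hVn.conj_mem u hu r⁻¹
    simpa [hw] using this
  have hbw : b * w * b⁻¹ = w := by
    calc b * w * b⁻¹ = r⁻¹ * (a * u * a⁻¹) * r := by rw [hb, hw]; group
      _ = w := by rw [hau]
  have hbV : ∀ v ∈ V, b * v * b⁻¹ * v⁻¹ ∈ Subgroup.zpowers w := by
    intro v hv
    have hv' : r * v * r⁻¹ ∈ V := hVn.conj_mem v hv r
    obtain ⟨k, hk⟩ := Subgroup.mem_zpowers_iff.mp (ha _ hv')
    rw [Subgroup.mem_zpowers_iff]
    refine ⟨k, ?_⟩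
    calc w ^ k = r⁻¹ * u ^ k * r := by
          rw [hw]
          have := conj_zpow (a := r⁻¹) (b := u) (i := k)
          simpa using this
      _ = r⁻¹ * (a * (r * v * r⁻¹) * a⁻¹ * (r * v * r⁻¹)⁻¹) * r := by rw [hk]
      _ = b * v * b⁻¹ * v⁻¹ := by rw [hb]; group
  have hy : a⁻¹ * b ∈ Subgroup.closure ({a, b} : Set G) :=
    (Subgroup.closure _).mul_mem ((Subgroup.closure _).inv_mem (Subgroup.subset_closure (by simp)))
      (Subgroup.subset_closure (by simp))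
  have hy' : a⁻¹ * b ∈ Subgroup.closure ({b, a} : Set G) := by
    rw [Set.pair_comm]; exact hy
  by_cases haw : a * w * a⁻¹ = w
  · exact centralizes_of_chain V hVp a u b w hu hwV ha hau hbV hbw haw _ hy n hn hyn
  by_cases hbu : b * u * b⁻¹ = u
  · exact centralizes_of_chain V hVp b w a u hwV hu hbV hbw ha hau hbu _ hy' n hn hyn
  exact (false_of_two_transvections hodd V hVc hVp a u b w hu hwV hau hbw (ha w hwV) (hbV u hu)
    haw hbu).elim

end Cfsg.Agent.Helper9
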