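import Mathlib
import Cfsg.Prelude.Def_Local
import Cfsg.Agent.Lib.Helper9.Transvection
import Cfsg.Agent.Lib.Helper76.SolvPSolv
import Cfsg.Agent.Lib.Helper24.HH125
import Cfsg.Agent.Lib.Helper21.FStar
import Cfsg.Agent.Lib.Helper47.FStarP
import Cfsg.Agent.Lib.Helper30.PLayer
import Cfsg.Agent.Lib.Helper70.Fitting
import Cfsg.Agent.Lib.Helper2.PGroup
import Cfsg.Agent.Lib.Helper46.PCore
import Cfsg.Agent.Lib.Helper55.Cores

set_option autoImplicit false

/-!
# Odd-order solvable groups whose Sylow `p`-subgroup has cyclic derived subgroup (helper9)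

`p`-length one: if `O_{p'}(Y) = 1` then the Sylow `p`-subgroup is `O_p(Y)`.
-/

namespace Cfsg.Agent.Helper9

open Cfsg

/-- A `p`-element normalizing `⟨u⟩` with `u^p = 1` centralizes `u` (Fermat). -/
theorem conj_eq_self_of_pElement {G : Type*} [Group G] {p : ℕ} [hp : Fact p.Prime] (a u : G) (k : ℤ)
    (h : a * u * a⁻¹ = u ^ k) (hu : u ^ p = 1) (m : ℕ) (ha : a ^ (p ^ m) = 1) :
    a * u * a⁻¹ = u := by
  by_cases hu1 : u = 1
  · subst hu1; simp
  have hord : orderOf u = p := by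
    have h1 : orderOf u ∣ p := orderOf_dvd_of_pow_eq_one hu
    rcases (Nat.dvd_prime hp.out).mp h1 with h | h
    · exact absurd (orderOf_eq_one_iff.mp h) hu1
    · exact h
  have key : ∀ j : ℕ, a ^ j * u * (a ^ j)⁻¹ = u ^ (k ^ j) := by
    intro j
    induction j with
    | zero => simp
    | succ j ih =>
      calc a ^ (j+1) * u * (a ^ (j+1))⁻¹ = a * (a ^ j * u * (a ^ j)⁻¹) * a⁻¹ := by
            rw [pow_succ']; group
        _ = a * u ^ (k ^ j) * a⁻¹ := by rw [ih]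
        _ = (a * u * a⁻¹) ^ (k ^ j) := by rw [conj_zpow]
        _ = (u ^ k) ^ (k ^ j) := by rw [h]
        _ = u ^ (k ^ (j+1)) := by rw [← zpow_mul, pow_succ']
  have h1 := key (p ^ m)
  rw [ha] at h1
  simp only [one_mul, inv_one, mul_one] at h1
  have h2 : u ^ (k ^ (p ^ m) - 1) = 1 := by
    rw [zpow_sub, zpow_one, ← h1, mul_inv_cancel]
  have h3 : (p : ℤ) ∣ k ^ (p ^ m) - 1 := by
    have h3' : (orderOf u : ℤ) ∣ k ^ (p ^ m) - 1 := orderOf_dvd_iff_zpow_eq_one.mpr h2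
    rwa [hord] at h3'
  have h4 : ((k : ZMod p)) ^ (p ^ m) = 1 := by
    have := (ZMod.intCast_zmod_eq_zero_iff_dvd _ p).mpr h3
    push_cast at this
    exact sub_eq_zero.mp this
  have h5 : (k : ZMod p) = 1 := by
    rw [ZMod.pow_card_pow] at h4; exact h4
  have h6 : (p : ℤ) ∣ k - 1 := by
    apply (ZMod.intCast_zmod_eq_zero_iff_dvd _ p).mp
    push_cast; rw [h5, sub_self]
  have h7 : u ^ (k - 1) = 1 := orderOf_dvd_iff_zpow_eq_one.mp (by rw [hord]; exact h6)
  rw [h]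
  calc u ^ k = u ^ (k - 1) * u := by rw [← zpow_add_one]; ring_nf
    _ = u := by rw [h7, one_mul]

section cores

variable {Y : Type*} [Group Y] [Finite Y]

omit [Finite Y] in
/-- `O_p(Y / O_p(Y)) = 1`. -/
theorem pCore_quotient_pCore_eq_bot (p : ℕ) [Fact p.Prime] :
    pCore p (Y ⧸ pCore p Y) = ⊥ := by
  apply Helper46.pCore_quotient_eq_bot_of
  intro D hD hpow
  apply Helper46.le_pCore hD
  rw [Helper46.isPGroup_subgroup_iff]
  intro d hd
  obtain ⟨k, hk⟩ := hpow d hd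
  obtain ⟨j, hj⟩ := Helper46.pCore_pow_eq_one hk
  refine ⟨k + j, ?_⟩
  rw [pow_add, pow_mul]; exact hj

omit [Finite Y] in
/-- In a finite solvable group the layer is trivial. -/
theorem layer_eq_bot_of_isSolvable [Group.IsSolvable Y] : layer Y = ⊥ := by
  have h1 : ⁅layer Y, (⊤ : Subgroup Y)⁆ = ⊥ :=
    Helper30.layer_commutator_eq_bot_of_solvable_normal (⊤ : Subgroup Y) inferInstance
  have h2 : ⁅layer Y, layer Y⁆ = layer Y := Subgroup.isPerfect_iff.mp (Helper30.layer_isPerfect Y)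
  rw [← h2, eq_bot_iff, ← h1]
  exact Subgroup.commutator_mono le_rfl le_top

/-- Dual Hall–Higman 1.2.3 for solvable groups: if `O_p(Y) = 1` then `C_Y(O_{p'}(Y)) ≤ O_{p'}(Y)`. -/
theorem centralizer_pPrimeCore_le [Group.IsSolvable Y] (p : ℕ) [hp : Fact p.Prime]
    (hO : pCore p Y = ⊥) :
    Subgroup.centralizer (pPrimeCore p Y : Set Y) ≤ pPrimeCore p Y := by
  have hF : fittingSubgroup Y ≤ pPrimeCore p Y := by
    have : (fittingSubgroup Y).Normal := Helper70.fittingSubgroup_normal Y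
    have : Group.IsNilpotent (fittingSubgroup Y) := Helper70.fittingSubgroup_isNilpotent Y
    exact Helper55.le_pPrimeCore inferInstance
      (Helper47.card_coprime_of_normal_nilpotent hO (fittingSubgroup Y))
  have hFs : generalizedFittingSubgroup Y ≤ pPrimeCore p Y := by
    unfold generalizedFittingSubgroup
    rw [layer_eq_bot_of_isSolvable, bot_sup_eq]; exact hF
  calc Subgroup.centralizer (pPrimeCore p Y : Set Y)
      ≤ Subgroup.centralizer (generalizedFittingSubgroup Y : Set Y) :=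
        Subgroup.centralizer_le hFs
    _ ≤ generalizedFittingSubgroup Y := Helper21.centralizer_generalizedFittingSubgroup_le
    _ ≤ pPrimeCore p Y := hFs

end cores

section main

variable {Y : Type*} [Group Y] [Finite Y]

open scoped commutatorElement

/-- **`p`-length one.**  `Y` solvable of odd order with `O_{p'}(Y) = 1` and a Sylow `p`-subgroup `T`
with cyclic derived subgroup: `T = O_p(Y)`. -/
theorem sylow_le_pCore [Group.IsSolvable Y] (hodd : Odd (Nat.card Y)) (p : ℕ) [hp : Fact p.Prime]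
    (hcore : pPrimeCore p Y = ⊥) (T : Sylow p Y)
    (hT : IsCyclic (commutator (T : Subgroup Y))) : (T : Subgroup Y) ≤ pCore p Y := by
  classical
  set P := pCore p Y with hPdef
  have hPn : P.Normal := inferInstance
  have hPp : IsPGroup p P := Helper46.isPGroup_pCore
  have hPT : P ≤ (T : Subgroup Y) := Helper46.pCore_le_sylow T
  have hps : IsPSolvable p Y := Helper76.isPSolvable_of_isSolvable' p
  set Φ := (frattini ↥P).map P.subtype with hΦdef
  have hΦn : Φ.Normal := by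
    rw [← Subgroup.normalizer_eq_top_iff, eq_top_iff]
    have h1 := Helper24.normalizer_le_normalizer_map_subtype_of_characteristic P (frattini ↥P)
    rw [Subgroup.normalizer_eq_top_iff.mpr hPn] at h1
    exact h1
  have hcommΦ : ∀ x ∈ P, ∀ y ∈ P, x * y * x⁻¹ * y⁻¹ ∈ Φ := by
    intro x hx y hy
    have := Helper2.commutatorElement_mem_frattini hPp ⟨x, hx⟩ ⟨y, hy⟩
    exact ⟨_, this, by simp [commutatorElement_def]⟩
  have hpowΦ : ∀ x ∈ P, x ^ p ∈ Φ := by
    intro x hx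
    have := Helper2.pow_mem_frattini hPp ⟨x, hx⟩
    exact ⟨_, this, by simp⟩
  set π := QuotientGroup.mk' Φ with hπ
  set V := P.map π with hVdef
  have hVn : V.Normal := hPn.map π (QuotientGroup.mk'_surjective Φ)
  have hVc : ∀ x ∈ V, ∀ y ∈ V, x * y = y * x := by
    rintro _ ⟨x, hx, rfl⟩ _ ⟨y, hy, rfl⟩
    rw [← map_mul, ← map_mul]
    apply (QuotientGroup.eq).mpr
    have := hcommΦ y⁻¹ (P.inv_mem hy) x⁻¹ (P.inv_mem hx)
    convert this using 1; group
  have hVp : ∀ v ∈ V, v ^ p = 1 := by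
    rintro _ ⟨x, hx, rfl⟩
    rw [← map_pow]; exact (QuotientGroup.eq_one_iff _).mpr (hpowΦ x hx)
  have hHH : ∀ g : Y, (∀ v ∈ V, π g * v * (π g)⁻¹ = v) → g ∈ P := by
    intro g hg
    apply Helper24.mem_pCore_of_commutator_mem_frattini hps hcore g
    intro x hx
    have h1 := hg (π x) ⟨x, hx, rfl⟩
    have h2 : π (g * x * g⁻¹ * x⁻¹) = 1 := by
      rw [map_mul, map_mul, map_mul, map_inv, map_inv, h1, mul_inv_cancel]
    exact (QuotientGroup.eq_one_iff _).mp h2
  have hoddQ : Odd (Nat.card (Y ⧸ Φ)) := hodd.of_dvd_nat (Subgroup.card_quotient_dvd_card Φ)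
  -- the cyclic group `T' ∩ P`
  set D := ((commutator ↥(T : Subgroup Y)).map (T : Subgroup Y).subtype) ⊓ P with hDdef
  have hDcyc : IsCyclic ↥D := by
    have h1 : IsCyclic ↥((commutator ↥(T : Subgroup Y)).map (T : Subgroup Y).subtype) :=
      isCyclic_of_surjective ((T : Subgroup Y).subtype.subgroupMap (commutator ↥(T : Subgroup Y)))
        (MonoidHom.subgroupMap_surjective _ _)
    exact Subgroup.isCyclic_of_le inf_le_left
  obtain ⟨⟨u₀, hu₀D⟩, hgen⟩ := hDcyc.exists_generator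
  have hDgen : ∀ d ∈ D, d ∈ Subgroup.zpowers u₀ := by
    intro d hd
    obtain ⟨k, hk⟩ := Subgroup.mem_zpowers_iff.mp (hgen ⟨d, hd⟩)
    refine Subgroup.mem_zpowers_iff.mpr ⟨k, ?_⟩
    have := congrArg Subtype.val hk
    simpa using this
  have hcommD : ∀ x ∈ (T : Subgroup Y), ∀ v ∈ P, x * v * x⁻¹ * v⁻¹ ∈ D := by
    intro x hx v hv
    refine ⟨?_, ?_⟩
    · refine ⟨⁅(⟨x, hx⟩ : ↥(T : Subgroup Y)), ⟨v, hPT hv⟩⁆, ?_, by simp [commutatorElement_def]⟩
      rw [commutator_def]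
      exact Subgroup.commutator_mem_commutator (Subgroup.mem_top _) (Subgroup.mem_top _)
    · exact P.mul_mem (hPn.conj_mem v hv x) (P.inv_mem hv)
  have hconjD : ∀ x ∈ (T : Subgroup Y), ∀ d ∈ D, x * d * x⁻¹ ∈ D := by
    intro x hx d hd
    refine ⟨?_, hPn.conj_mem d hd.2 x⟩
    obtain ⟨d', hd', rfl⟩ := hd.1
    refine ⟨⟨x, hx⟩ * d' * (⟨x, hx⟩ : ↥(T : Subgroup Y))⁻¹, ?_, by simp⟩
    exact (inferInstance : (commutator ↥(T : Subgroup Y)).Normal).conj_mem d' hd' _
  intro x hx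
  obtain ⟨m, hm'⟩ := T.isPGroup' ⟨x, hx⟩
  have hm : x ^ (p ^ m) = 1 := by
    have := congrArg Subtype.val hm'
    simpa using this
  set u := π u₀ with hudef
  have hu : u ∈ V := ⟨u₀, hu₀D.2, rfl⟩
  set a := π x with hadef
  have ha : ∀ v ∈ V, a * v * a⁻¹ * v⁻¹ ∈ Subgroup.zpowers u := by
    rintro _ ⟨v, hv, rfl⟩
    obtain ⟨k, hk⟩ := Subgroup.mem_zpowers_iff.mp (hDgen _ (hcommD x hx v hv))
    refine Subgroup.mem_zpowers_iff.mpr ⟨k, ?_⟩
    rw [hudef, ← map_zpow, hk, hadef]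
    simp only [map_mul, map_inv]
  have hau : a * u * a⁻¹ = u := by
    obtain ⟨k, hk⟩ := Subgroup.mem_zpowers_iff.mp (hDgen _ (hconjD x hx u₀ hu₀D))
    apply conj_eq_self_of_pElement a u k ?_ (hVp u hu) m ?_
    · rw [hudef, ← map_zpow, hk, hadef]
      simp only [map_mul, map_inv]
    · rw [hadef, ← map_pow, hm, map_one]
  -- the quotient by `P`
  set R := pPrimeCore p (Y ⧸ P) with hRdef
  have hRcop : (Nat.card R).Coprime p := Helper55.pPrimeCore_coprime p
  have hRn : R.Normal := inferInstance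
  have hcomm : ∀ r : Y, (r : Y ⧸ P) ∈ R → x⁻¹ * (r⁻¹ * x * r) ∈ P := by
    intro r hr
    set y := x⁻¹ * (r⁻¹ * x * r) with hy
    have hyR : (y : Y ⧸ P) ∈ R := by
      have h1 : ((x : Y) : Y ⧸ P)⁻¹ * ((r : Y) : Y ⧸ P)⁻¹ * (((x : Y) : Y ⧸ P)⁻¹)⁻¹ ∈ R :=
        hRn.conj_mem _ (R.inv_mem hr) _
      have h2 := R.mul_mem h1 hr
      have h3 : (y : Y ⧸ P) = ((x : Y) : Y ⧸ P)⁻¹ * ((r : Y) : Y ⧸ P)⁻¹ *
          (((x : Y) : Y ⧸ P)⁻¹)⁻¹ * ((r : Y) : Y ⧸ P) := by
        rw [hy]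
        simp only [QuotientGroup.mk_mul, QuotientGroup.mk_inv, inv_inv, mul_assoc]
      rw [h3]; exact h2
    have hyn : y ^ (Nat.card R) ∈ P := by
      have h1 : ((y : Y ⧸ P)) ^ (Nat.card R) = 1 := by
        have := pow_card_eq_one' (G := ↥R) (x := ⟨_, hyR⟩)
        have h2 := congrArg Subtype.val this
        rw [Subgroup.coe_pow, Subgroup.coe_one] at h2
        exact h2
      rw [← QuotientGroup.mk_pow] at h1
      exact (QuotientGroup.eq_one_iff _).mp h1
    apply hHH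
    have hπy : π y = a⁻¹ * ((π r)⁻¹ * a * π r) := by
      rw [hy, hadef]; simp only [map_mul, map_inv]
    rw [hπy]
    apply centralizes_of_transvection_pair hoddQ V hVc hVp u a (π r) hu ha hau (Nat.card R) hRcop
    intro v hv
    have h1 : (a⁻¹ * ((π r)⁻¹ * a * π r)) ^ (Nat.card R) ∈ V := by
      rw [← hπy, ← map_pow]; exact ⟨_, hyn, rfl⟩
    have h2 := hVc _ h1 v hv
    rw [h2]; group
  have hxc : ((x : Y) : Y ⧸ P) ∈ Subgroup.centralizer (R : Set (Y ⧸ P)) := by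
    rw [Subgroup.mem_centralizer_iff]
    intro h hh
    obtain ⟨r, rfl⟩ := QuotientGroup.mk_surjective h
    have h1 := hcomm r hh
    have h3 : ((r * x : Y) : Y ⧸ P) = ((x * r : Y) : Y ⧸ P) := by
      rw [QuotientGroup.eq]
      convert h1 using 1; group
    simpa using h3
  have hO : pCore p (Y ⧸ P) = ⊥ := pCore_quotient_pCore_eq_bot p
  have hxR : ((x : Y) : Y ⧸ P) ∈ R := centralizer_pPrimeCore_le p hO hxc
  have hx1 : ((x : Y) : Y ⧸ P) = 1 := by
    have h1 : ((x : Y) : Y ⧸ P) ^ (Nat.card R) = 1 := by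
      have := pow_card_eq_one' (G := ↥R) (x := ⟨_, hxR⟩)
      have h2 := congrArg Subtype.val this
      rw [Subgroup.coe_pow, Subgroup.coe_one] at h2
      exact h2
    have h2 : ((x : Y) : Y ⧸ P) ^ (p ^ m) = 1 := by
      rw [← QuotientGroup.mk_pow, hm]; rfl
    have h3 : orderOf ((x : Y) : Y ⧸ P) ∣ Nat.gcd (Nat.card R) (p ^ m) :=
      Nat.dvd_gcd (orderOf_dvd_of_pow_eq_one h1) (orderOf_dvd_of_pow_eq_one h2)
    rw [Nat.Coprime.gcd_eq_one (hRcop.pow_right m), Nat.dvd_one] at h3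
    exact orderOf_eq_one_iff.mp h3
  exact (QuotientGroup.eq_one_iff _).mp hx1

end main

end Cfsg.Agent.Helper9
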