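import Mathlib
import Cfsg.Agent.Lib.Helper93.U30

/-!
# U3 project (S2334): right-associated annihilation lemmas for an odd frame (helper9)
-/

set_option autoImplicit false

namespace Cfsg.Agent.Helper9.U3

open Matrix Cfsg.Agent.Helper13 Cfsg.Agent.Helper93.U2 Cfsg.Agent.Helper93.U3

variable {F : Type*} [Field F] [Fintype F] {q : ℕ} (hF : Fintype.card F = q ^ 2)

theorem h9_wp {n m : ℕ} (fr : FrameO hF n m) : cT hF fr.w * fr.P = 0 := by
  have h := congrArg (cT hF) fr.pw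
  rwa [cT_mul, cT_cT, cT_zero] at h

theorem h9_wq {n m : ℕ} (fr : FrameO hF n m) : cT hF fr.w * fr.Q = 0 := by
  have h := congrArg (cT hF) fr.qw
  rwa [cT_mul, cT_cT, cT_zero] at h

theorem h9_qp {n m : ℕ} (fr : FrameO hF n m) : cT hF fr.Q * fr.P = 1 := by
  have h := congrArg (cT hF) fr.pq
  rwa [cT_mul, cT_cT, cT_one] at h

theorem h9_pp_r {n m : ℕ} (fr : FrameO hF n m) {k : Type*} (X : Matrix (Fin m) k F) :
    cT hF fr.P * (fr.P * X) = 0 := by
  rw [← Matrix.mul_assoc, fr.pp, Matrix.zero_mul]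

theorem h9_qq_r {n m : ℕ} (fr : FrameO hF n m) {k : Type*} (X : Matrix (Fin m) k F) :
    cT hF fr.Q * (fr.Q * X) = 0 := by
  rw [← Matrix.mul_assoc, fr.qq, Matrix.zero_mul]

theorem h9_pq_r {n m : ℕ} (fr : FrameO hF n m) {k : Type*} (X : Matrix (Fin m) k F) :
    cT hF fr.P * (fr.Q * X) = X := by
  rw [← Matrix.mul_assoc, fr.pq, Matrix.one_mul]

theorem h9_qp_r {n m : ℕ} (fr : FrameO hF n m) {k : Type*} (X : Matrix (Fin m) k F) :
    cT hF fr.Q * (fr.P * X) = X := by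
  rw [← Matrix.mul_assoc, h9_qp, Matrix.one_mul]

theorem h9_pw_r {n m : ℕ} (fr : FrameO hF n m) {k : Type*} (X : Matrix (Fin 1) k F) :
    cT hF fr.P * (fr.w * X) = 0 := by
  rw [← Matrix.mul_assoc, fr.pw, Matrix.zero_mul]

theorem h9_qw_r {n m : ℕ} (fr : FrameO hF n m) {k : Type*} (X : Matrix (Fin 1) k F) :
    cT hF fr.Q * (fr.w * X) = 0 := by
  rw [← Matrix.mul_assoc, fr.qw, Matrix.zero_mul]

theorem h9_wp_r {n m : ℕ} (fr : FrameO hF n m) {k : Type*} (X : Matrix (Fin m) k F) :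
    cT hF fr.w * (fr.P * X) = 0 := by
  rw [← Matrix.mul_assoc, h9_wp, Matrix.zero_mul]

theorem h9_wq_r {n m : ℕ} (fr : FrameO hF n m) {k : Type*} (X : Matrix (Fin m) k F) :
    cT hF fr.w * (fr.Q * X) = 0 := by
  rw [← Matrix.mul_assoc, h9_wq, Matrix.zero_mul]

theorem h9_ww_r {n m : ℕ} (fr : FrameO hF n m) {k : Type*} (X : Matrix (Fin 1) k F) :
    cT hF fr.w * (fr.w * X) = X := by
  rw [← Matrix.mul_assoc, fr.ww, Matrix.one_mul]

end Cfsg.Agent.Helper9.U3
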