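import Mathlib
import Cfsg.Agent.Lib.Helper93.U30
import Cfsg.Agent.Lib.Helper9.U3Lemmas

/-!
# U3 project (S2334): piece U1, `uMat_unitary` (helper9)
-/

set_option autoImplicit false

namespace Cfsg.Agent.Helper9.U3

open Matrix Cfsg.Agent.Helper13 Cfsg.Agent.Helper93.U2 Cfsg.Agent.Helper93.U3

variable {F : Type*} [Field F] [Fintype F] {q : ℕ} (hF : Fintype.card F = q ^ 2)

/-- piece U1 -/
theorem uMat_unitary {n m : ℕ} (fr : FrameO hF n m) (c₀ : F) (hc₀ : c₀ + c₀ ^ q = -1)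
    (y : Fin m → F) : cT hF (uMat hF fr c₀ y) * uMat hF fr c₀ y = 1 := by
  unfold uMat
  simp only [cT_add, cT_sub, cT_smul, cT_mul, cT_cT, cT_one]
  simp only [Matrix.mul_add, Matrix.add_mul, Matrix.mul_sub, Matrix.sub_mul, Matrix.mul_smul,
    Matrix.smul_mul, Matrix.mul_one, Matrix.one_mul, Matrix.mul_assoc, h9_pp_r, h9_pw_r, h9_wp_r,
    h9_ww_r, Matrix.mul_zero, smul_zero, sub_zero, add_zero, zero_sub]
  generalize fr.P * (colM y * (cT hF (colM y) * cT hF fr.P)) = B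
  generalize fr.w * (cT hF (colM y) * cT hF fr.P) = A2
  generalize fr.P * (colM y * cT hF fr.w) = A1
  have h : c₀ ^ q = -1 - c₀ := by rw [← hc₀]; ring
  rw [h]
  module

end Cfsg.Agent.Helper9.U3
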