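import Mathlib
import Cfsg.Agent.Lib.Helper93.U30
import Cfsg.Agent.Lib.Helper9.U3Lemmas

/-!
# U3 project (S2334): piece U3, `uMat_mul_aMatO` (helper9)
-/

set_option autoImplicit false

namespace Cfsg.Agent.Helper9.U3

open Matrix Cfsg.Agent.Helper13 Cfsg.Agent.Helper93.U2 Cfsg.Agent.Helper93.U3

variable {F : Type*} [Field F] [Fintype F] {q : ℕ} (hF : Fintype.card F = q ^ 2)

/-- piece U3 -/
theorem uMat_mul_aMatO {n m : ℕ} (fr : FrameO hF n m) (c₀ ε : F) (y : Fin m → F)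
    (H : Matrix (Fin m) (Fin m) F) :
    uMat hF fr c₀ y * aMatO hF fr ε H = aMatO hF fr ε H * uMat hF fr c₀ y := by
  unfold uMat aMatO
  simp only [Matrix.mul_add, Matrix.add_mul, Matrix.mul_sub, Matrix.sub_mul, Matrix.mul_smul,
    Matrix.smul_mul, Matrix.mul_one, Matrix.one_mul, Matrix.mul_assoc, h9_pp_r, h9_pw_r, h9_wp_r,
    Matrix.mul_zero, smul_zero, sub_zero, add_zero]
  abel

end Cfsg.Agent.Helper9.U3
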