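import Mathlib
import Cfsg.Agent.Lib.Helper93.U30
import Cfsg.Agent.Lib.Helper9.U3Lemmas

/-!
# U3 project (S2334): piece U4, `uMat_mul_uMat` (helper9)
-/

set_option autoImplicit false

namespace Cfsg.Agent.Helper9.U3

open Matrix Cfsg.Agent.Helper13 Cfsg.Agent.Helper93.U2 Cfsg.Agent.Helper93.U3

variable {F : Type*} [Field F] [Fintype F] {q : ℕ} (hF : Fintype.card F = q ^ 2)

/-- piece U4 -/
theorem uMat_mul_uMat {n m : ℕ} (fr : FrameO hF n m) (c₀ ε : F) (hε : ε ^ q = -ε) (hε0 : ε ≠ 0)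
    (y y' : Fin m → F) :
    uMat hF fr c₀ y * uMat hF fr c₀ y' =
      aMatO hF fr ε (kH hF ε hε y y').1 * (uMat hF fr c₀ y' * uMat hF fr c₀ y) := by
  rw [kH_val]
  unfold uMat aMatO
  simp only [Matrix.mul_add, Matrix.add_mul, Matrix.mul_sub, Matrix.sub_mul, Matrix.mul_smul,
    Matrix.smul_mul, Matrix.mul_one, Matrix.one_mul, Matrix.mul_assoc, h9_pp_r, h9_pw_r, h9_wp_r,
    h9_ww_r, Matrix.mul_zero, smul_zero, sub_zero, add_zero, smul_smul,
    mul_inv_cancel₀ hε0, one_smul, smul_sub]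
  abel

end Cfsg.Agent.Helper9.U3
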