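import Mathlib
import Cfsg.Agent.Lib.Helper19.Kegel
import Cfsg.Agent.Lib.Helper10.ProdCard

/-!
# The "W-lemma" used in the Kegel–Wielandt theorem

If every conjugate of a `p`-subgroup `X` permutes with every conjugate of a `p`-subgroup `Y`,
then `X` lies in a `p`-subgroup `W` that is normalized by every conjugate of `Y`.
-/

set_option autoImplicit false

namespace Cfsg.Agent.Helper9.KegelW

open scoped Pointwise
open Cfsg.Agent.Helper19

variable {G : Type*} [Group G]

/-- If `S` is a subgroup whose carrier is `W * K` then `S = W ⊔ K`. -/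
theorem sup_eq_of_coe_eq_mul {W K S : Subgroup G}
    (hS : (S : Set G) = (W : Set G) * (K : Set G)) : W ⊔ K = S := by
  have hWS : W ≤ S := fun w hw => by
    have : w ∈ (S : Set G) := by rw [hS]; exact ⟨w, hw, 1, K.one_mem, mul_one w⟩
    exact this
  have hKS : K ≤ S := fun k hk => by
    have : k ∈ (S : Set G) := by rw [hS]; exact ⟨1, W.one_mem, k, hk, one_mul k⟩
    exact this
  apply le_antisymm (sup_le hWS hKS)
  intro s hs
  have : s ∈ (S : Set G) := hs
  rw [hS] at this
  obtain ⟨w, hw, k, hk, rfl⟩ := this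
  exact Subgroup.mul_mem _ ((le_sup_left : W ≤ W ⊔ K) hw) ((le_sup_right : K ≤ W ⊔ K) hk)

/-- Permuting `p`-subgroups generate a `p`-group. -/
theorem isPGroup_sup_of_permWith [Finite G] {p : ℕ} [hp : Fact p.Prime] {W K : Subgroup G}
    (hW : IsPGroup p W) (hK : IsPGroup p K) (h : PermWith W K) :
    IsPGroup p (W ⊔ K : Subgroup G) := by
  obtain ⟨S, hS⟩ := exists_subgroup_of_permWith h
  rw [sup_eq_of_coe_eq_mul hS]
  have hcard := Cfsg.Agent.Helper10.card_set_mul_mul_card_inf W K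
  rw [← hS] at hcard
  obtain ⟨a, ha⟩ := IsPGroup.iff_card.mp hW
  obtain ⟨b, hb⟩ := IsPGroup.iff_card.mp hK
  have hdvd : Nat.card S ∣ p ^ (a + b) := by
    rw [pow_add, ← ha, ← hb]
    exact Dvd.intro _ hcard
  obtain ⟨c, _, hc⟩ := (Nat.dvd_prime_pow hp.out).mp hdvd
  exact IsPGroup.of_card hc

theorem isPGroup_cj {p : ℕ} {Y : Subgroup G} (hY : IsPGroup p Y) (y : G) :
    IsPGroup p (MulAut.conj y • Y : Subgroup G) := by
  rw [Subgroup.pointwise_smul_def]
  exact hY.map _

theorem card_cj (W : Subgroup G) (k : G) :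
    Nat.card (MulAut.conj k • W : Subgroup G) = Nat.card W :=
  (Nat.card_congr (Subgroup.equivSMul (MulAut.conj k) W).toEquiv).symm

theorem mem_normalizer_of_cj_le [Finite G] {W : Subgroup G} {k : G}
    (h : MulAut.conj k • W ≤ W) : k ∈ Subgroup.normalizer (W : Set G) := by
  have heq : MulAut.conj k • W = W :=
    Subgroup.eq_of_le_of_card_ge h (card_cj W k).ge
  rw [Subgroup.mem_normalizer_iff]
  intro n
  constructor
  · intro hn
    exact h (mem_cj.2 ⟨n, hn, rfl⟩)
  · intro hn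
    rw [← heq] at hn
    obtain ⟨w, hw, e⟩ := mem_cj.1 hn
    have : n = w := by
      have := congrArg (fun t => k⁻¹ * t * k) e
      simpa [mul_assoc] using this
    rw [this]; exact hw

/-- **W-lemma.** -/
theorem wlemma [Finite G] {p : ℕ} [hp : Fact p.Prime] (X Y : Subgroup G)
    (hX : IsPGroup p X) (hY : IsPGroup p Y)
    (h : ∀ x y : G, PermWith (MulAut.conj x • X) (MulAut.conj y • Y)) :
    ∃ W : Subgroup G, IsPGroup p W ∧ X ≤ W ∧
      ∀ y : G, MulAut.conj y • Y ≤ Subgroup.normalizer (W : Set G) := by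
  classical
  let PP : Set (Subgroup G) :=
    {W | IsPGroup p W ∧ X ≤ W ∧ ∀ y : G, PermWith W (MulAut.conj y • Y)}
  have hfin : PP.Finite := Set.toFinite _
  have hne : PP.Nonempty := ⟨X, hX, le_rfl, fun y => by simpa using h 1 y⟩
  obtain ⟨W, hWPP, hmax⟩ :=
    Set.exists_max_image PP (fun W : Subgroup G => Nat.card W) hfin hne
  obtain ⟨hWp, hXW, hperm⟩ := hWPP
  refine ⟨W, hWp, hXW, ?_⟩
  intro y k hk
  have hKp : IsPGroup p (MulAut.conj y • Y : Subgroup G) := isPGroup_cj hY y
  have hT : IsPGroup p (W ⊔ MulAut.conj y • Y : Subgroup G) :=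
    isPGroup_sup_of_permWith hWp hKp (hperm y)
  have hWk_le : MulAut.conj k • W ≤ W ⊔ MulAut.conj y • Y :=
    cj_le_of_mem ((le_sup_right : MulAut.conj y • Y ≤ W ⊔ MulAut.conj y • Y) hk) le_sup_left
  have hW'p : IsPGroup p (W ⊔ MulAut.conj k • W : Subgroup G) :=
    hT.to_le (sup_le le_sup_left hWk_le)
  have hW'perm : ∀ z : G, PermWith (W ⊔ MulAut.conj k • W) (MulAut.conj z • Y) := by
    intro z
    apply permWith_sup (hperm z)
    have := permWith_cj (hperm (k⁻¹ * z)) k
    rwa [cj_cj, mul_inv_cancel_left] at this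
  have hW'mem : (W ⊔ MulAut.conj k • W) ∈ PP := ⟨hW'p, hXW.trans le_sup_left, hW'perm⟩
  have hcard : Nat.card (W ⊔ MulAut.conj k • W : Subgroup G) ≤ Nat.card W := hmax _ hW'mem
  have heq : W = W ⊔ MulAut.conj k • W := Subgroup.eq_of_le_of_card_ge le_sup_left hcard
  have hle : MulAut.conj k • W ≤ W := by
    have : MulAut.conj k • W ≤ W ⊔ MulAut.conj k • W := le_sup_right
    rwa [← heq] at this
  exact mem_normalizer_of_cj_le hle

end Cfsg.Agent.Helper9.KegelW
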