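import Mathlib
import Cfsg.Agent.Lib.Helper9.KegelW
import Cfsg.Agent.Lib.Helper10.MinNormal2
import Cfsg.Agent.Lib.Helper22.Radical
import Cfsg.Agent.S0559
import Cfsg.Agent.S0560

/-!
# Reduction of the Kegel–Wielandt theorem to Wielandt's coprime theorem (part 1)

Minimal counterexample to "a product of two nilpotent groups (not both everything) has a proper
normal subgroup containing a factor": basic structure.
-/

set_option autoImplicit false

namespace Cfsg.Agent.Helper9.KegelRed

open scoped Pointwise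
open Cfsg.Agent.Helper19 Cfsg.Agent.Helper10

universe u

/-- Wielandt's theorem on products of nilpotent groups of coprime orders, as a hypothesis. -/
def WielandtHyp : Prop :=
  ∀ (G : Type u) [Group G] [Finite G] (A B : Subgroup G), Group.IsNilpotent A →
    Group.IsNilpotent B → (Nat.card A).Coprime (Nat.card B) →
    (∀ g : G, ∃ a ∈ A, ∃ b ∈ B, g = a * b) → Group.IsSolvable G

/-- The statement "a factorized group with nilpotent factors, not both everything, has a proper
normal subgroup containing a factor". -/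
def KProp (G : Type u) [Group G] : Prop :=
  ∀ A B : Subgroup G, Group.IsNilpotent A → Group.IsNilpotent B →
    (∀ g : G, ∃ a ∈ A, ∃ b ∈ B, g = a * b) → (A ≠ ⊤ ∨ B ≠ ⊤) →
    ∃ N : Subgroup G, N.Normal ∧ N ≠ ⊤ ∧ (A ≤ N ∨ B ≤ N)

section basics

variable {G : Type*} [Group G]

theorem fact_symm {A B : Subgroup G} (h : ∀ g : G, ∃ a ∈ A, ∃ b ∈ B, g = a * b) :
    ∀ g : G, ∃ b ∈ B, ∃ a ∈ A, g = b * a := by
  intro g
  obtain ⟨a, ha, b, hb, e⟩ := h g⁻¹
  refine ⟨b⁻¹, B.inv_mem hb, a⁻¹, A.inv_mem ha, ?_⟩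
  rw [← mul_inv_rev, ← e, inv_inv]

theorem exists_proper_normal_of_nilpotent [Finite G] [Group.IsNilpotent G] (A : Subgroup G)
    (hA : A ≠ ⊤) : ∃ N : Subgroup G, N.Normal ∧ N ≠ ⊤ ∧ A ≤ N := by
  obtain ⟨M, hM, hAM⟩ := (eq_top_or_exists_le_coatom A).resolve_left hA
  exact ⟨M, Subgroup.NormalizerCondition.normal_of_coatom M
    (Group.normalizerCondition_of_isNilpotent (G := G)) hM, hM.1, hAM⟩

theorem nilpotent_map {H : Type*} [Group H] (f : G →* H) (A : Subgroup G)
    (hA : Group.IsNilpotent A) : Group.IsNilpotent (A.map f) :=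
  Group.nilpotent_of_surjective (f.subgroupMap A) (f.subgroupMap_surjective A)

theorem nilpotent_of_top_nilpotent (h : Group.IsNilpotent (⊤ : Subgroup G)) :
    Group.IsNilpotent G :=
  Group.nilpotent_of_mulEquiv Subgroup.topEquiv

theorem nilpotent_of_le {A B : Subgroup G} (hAB : A ≤ B) (hB : Group.IsNilpotent B) :
    Group.IsNilpotent A := by
  have e : (A.subgroupOf B) ≃* A := Subgroup.subgroupOfEquivOfLe hAB
  exact Group.nilpotent_of_mulEquiv e

theorem exists_mul_of_sup_eq_top (A D : Subgroup G) [D.Normal] (h : A ⊔ D = ⊤) (g : G) :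
    ∃ a ∈ A, ∃ d ∈ D, g = a * d := by
  have hg : g ∈ ((A ⊔ D : Subgroup G) : Set G) := by rw [h]; exact Subgroup.mem_top g
  rw [Subgroup.mul_normal] at hg
  obtain ⟨a, ha, d, hd, e⟩ := hg
  exact ⟨a, ha, d, hd, e.symm⟩

theorem card_quotient_lt [Finite G] (D : Subgroup G) (hD : D ≠ ⊥) :
    Nat.card (G ⧸ D) < Nat.card G := by
  have h1 := Subgroup.card_eq_card_quotient_mul_card_subgroup D
  have h2 : 1 < Nat.card D := (Subgroup.one_lt_card_iff_ne_bot D).mpr hD
  have h3 : 0 < Nat.card (G ⧸ D) := Nat.card_pos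
  nlinarith

end basics

/-- A minimal counterexample. -/
structure MinCE (G : Type u) [Group G] [Finite G] (A B : Subgroup G) : Prop where
  nilA : Group.IsNilpotent A
  nilB : Group.IsNilpotent B
  fact : ∀ g : G, ∃ a ∈ A, ∃ b ∈ B, g = a * b
  proper : A ≠ ⊤ ∨ B ≠ ⊤
  none : ∀ N : Subgroup G, N.Normal → N ≠ ⊤ → ¬ (A ≤ N ∨ B ≤ N)
  ih : ∀ (H : Type u) [Group H] [Finite H], Nat.card H < Nat.card G → KProp H

namespace MinCE

variable {G : Type u} [Group G] [Finite G] {A B : Subgroup G}

theorem symm (h : MinCE G A B) : MinCE G B A where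
  nilA := h.nilB
  nilB := h.nilA
  fact := fact_symm h.fact
  proper := h.proper.symm
  none := fun N hN hNt hAB => h.none N hN hNt hAB.symm
  ih := h.ih

theorem not_nilpotent (h : MinCE G A B) : ¬ Group.IsNilpotent G := by
  intro hnil
  rcases h.proper with hA | hB
  · obtain ⟨N, hN, hNt, hAN⟩ := exists_proper_normal_of_nilpotent A hA
    exact h.none N hN hNt (Or.inl hAN)
  · obtain ⟨N, hN, hNt, hBN⟩ := exists_proper_normal_of_nilpotent B hB
    exact h.none N hN hNt (Or.inr hBN)

theorem A_ne_top (h : MinCE G A B) : A ≠ ⊤ := by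
  intro hA
  apply h.not_nilpotent
  have := h.nilA
  rw [hA] at this
  exact nilpotent_of_top_nilpotent this

theorem B_ne_top (h : MinCE G A B) : B ≠ ⊤ := h.symm.A_ne_top

theorem map_eq_top (h : MinCE G A B) (D : Subgroup G) [hDn : D.Normal] (hD : D ≠ ⊥) :
    A.map (QuotientGroup.mk' D) = ⊤ ∧ B.map (QuotientGroup.mk' D) = ⊤ := by
  classical
  have hf : Function.Surjective (QuotientGroup.mk' D) := QuotientGroup.mk'_surjective D
  have hcard : Nat.card (G ⧸ D) < Nat.card G := card_quotient_lt D hD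
  have hfact : ∀ q : G ⧸ D, ∃ a ∈ A.map (QuotientGroup.mk' D),
      ∃ b ∈ B.map (QuotientGroup.mk' D), q = a * b := by
    intro q
    obtain ⟨g, rfl⟩ := hf q
    obtain ⟨a, ha, b, hb, rfl⟩ := h.fact g
    exact ⟨QuotientGroup.mk' D a, Subgroup.mem_map_of_mem _ ha, QuotientGroup.mk' D b,
      Subgroup.mem_map_of_mem _ hb, map_mul _ a b⟩
  have key : ¬ (A.map (QuotientGroup.mk' D) ≠ ⊤ ∨ B.map (QuotientGroup.mk' D) ≠ ⊤) := by
    intro hp
    obtain ⟨N, hNn, hNtop, hN⟩ := h.ih (G ⧸ D) hcard (A.map (QuotientGroup.mk' D))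
      (B.map (QuotientGroup.mk' D)) (nilpotent_map _ A h.nilA) (nilpotent_map _ B h.nilB) hfact hp
    refine h.none (N.comap (QuotientGroup.mk' D)) (hNn.comap _) ?_ ?_
    · intro htop
      apply hNtop
      rw [← Subgroup.map_comap_eq_self_of_surjective hf N, htop, ← MonoidHom.range_eq_map,
        MonoidHom.range_eq_top.mpr hf]
    · rcases hN with hN | hN
      · exact Or.inl (Subgroup.map_le_iff_le_comap.mp hN)
      · exact Or.inr (Subgroup.map_le_iff_le_comap.mp hN)
  push Not at key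
  exact key

theorem sup_eq_top (h : MinCE G A B) (D : Subgroup G) [hDn : D.Normal] (hD : D ≠ ⊥) :
    A ⊔ D = ⊤ := by
  have h1 := (h.map_eq_top D hD).1
  have h2 := Subgroup.comap_map_eq (QuotientGroup.mk' D) A
  rw [h1, Subgroup.comap_top, QuotientGroup.ker_mk'] at h2
  exact h2.symm

theorem quot_nilpotent (h : MinCE G A B) (D : Subgroup G) [hDn : D.Normal] (hD : D ≠ ⊥) :
    Group.IsNilpotent (G ⧸ D) := by
  have h1 := (h.map_eq_top D hD).1
  have h2 := nilpotent_map (QuotientGroup.mk' D) A h.nilA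
  rw [h1] at h2
  exact nilpotent_of_top_nilpotent h2

theorem nontrivial (h : MinCE G A B) : Nontrivial G := by
  by_contra hn
  rw [not_nontrivial_iff_subsingleton] at hn
  exact h.A_ne_top (Subsingleton.elim _ _)

end MinCE

end Cfsg.Agent.Helper9.KegelRed
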