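import Mathlib
import Cfsg.Agent.Lib.Helper9.KegelRed1

/-!
# Reduction of the Kegel–Wielandt theorem to Wielandt's coprime theorem (part 2)
-/

set_option autoImplicit false
set_option linter.style.haveILetI false

namespace Cfsg.Agent.Helper9.KegelRed

open scoped Pointwise
open Cfsg.Agent.Helper19 Cfsg.Agent.Helper10

universe u

section sylow

variable {G : Type*} [Group G] [Finite G]

theorem sylow_normal_of_nilpotent {A : Subgroup G} (hA : Group.IsNilpotent A) {p : ℕ}
    [Fact p.Prime] (P : Sylow p A) : (P : Subgroup A).Normal := by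
  have h03 : Group.IsNilpotent A ↔
      ∀ (p : ℕ), Fact (Nat.Prime p) → ∀ (P : Sylow p A), (↑P : Subgroup A).Normal :=
    (Group.isNilpotent_of_finite_tfae (G := A)).out 0 3
  exact h03.mp hA p inferInstance P

theorem sylow_subsingleton {A : Subgroup G} (hA : Group.IsNilpotent A) {p : ℕ}
    [Fact p.Prime] : Subsingleton (Sylow p A) := by
  have P : Sylow p A := default
  haveI := Sylow.unique_of_normal P (sylow_normal_of_nilpotent hA P)
  infer_instance

theorem mem_sylow_map_iff {A : Subgroup G} (hA : Group.IsNilpotent A) {p : ℕ}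
    [hp : Fact p.Prime] (P : Sylow p A) (z : G) :
    z ∈ (P : Subgroup A).map A.subtype ↔ z ∈ A ∧ ∃ k : ℕ, z ^ p ^ k = 1 := by
  constructor
  · rintro ⟨y, hy, rfl⟩
    refine ⟨y.2, ?_⟩
    obtain ⟨k, hk⟩ := P.isPGroup' ⟨y, hy⟩
    refine ⟨k, ?_⟩
    have := congrArg (fun t : (P : Subgroup A) => ((t : A) : G)) hk
    simpa using this
  · rintro ⟨hzA, k, hk⟩
    have hyk : (⟨z, hzA⟩ : A) ^ p ^ k = 1 := Subtype.ext (by simpa using hk)
    have hZ : IsPGroup p (Subgroup.zpowers (⟨z, hzA⟩ : A)) := by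
      have hord : orderOf (⟨z, hzA⟩ : A) ∣ p ^ k := orderOf_dvd_of_pow_eq_one hyk
      obtain ⟨j, _, hj⟩ := (Nat.dvd_prime_pow hp.out).mp hord
      apply IsPGroup.of_card (n := j)
      rw [Nat.card_zpowers, hj]
    obtain ⟨Q, hQ⟩ := hZ.exists_le_sylow
    haveI := sylow_subsingleton hA (p := p)
    have hQP : Q = P := Subsingleton.elim Q P
    rw [hQP] at hQ
    exact ⟨⟨z, hzA⟩, hQ (Subgroup.mem_zpowers _), rfl⟩

theorem mem_cj_sylow_iff {A : Subgroup G} (hA : Group.IsNilpotent A) {p : ℕ}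
    [Fact p.Prime] (P : Sylow p A) (x z : G) :
    z ∈ MulAut.conj x • ((P : Subgroup A).map A.subtype) ↔
      z ∈ MulAut.conj x • A ∧ ∃ k : ℕ, z ^ p ^ k = 1 := by
  rw [mem_cj, mem_cj]
  constructor
  · rintro ⟨b, hb, rfl⟩
    obtain ⟨hbA, k, hk⟩ := (mem_sylow_map_iff hA P b).mp hb
    exact ⟨⟨b, hbA, rfl⟩, k, by rw [conj_pow, hk, mul_one, mul_inv_cancel]⟩
  · rintro ⟨⟨b, hbA, rfl⟩, k, hk⟩
    refine ⟨b, (mem_sylow_map_iff hA P b).mpr ⟨hbA, k, ?_⟩, rfl⟩
    rw [conj_pow] at hk
    have := congrArg (fun t => x⁻¹ * t * x) hk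
    simpa [mul_assoc] using this

theorem cj_sylow_eq {A : Subgroup G} (hA : Group.IsNilpotent A) {p : ℕ}
    [Fact p.Prime] (P : Sylow p A) {x g : G}
    (h : MulAut.conj x • A = MulAut.conj g • A) :
    MulAut.conj x • ((P : Subgroup A).map A.subtype) =
      MulAut.conj g • ((P : Subgroup A).map A.subtype) := by
  ext z
  rw [mem_cj_sylow_iff hA, mem_cj_sylow_iff hA, h]

omit [Finite G] in
theorem le_normalizer_map_subtype (A : Subgroup G) (P : Subgroup A) [hP : P.Normal] :
    A ≤ Subgroup.normalizer ((P.map A.subtype : Subgroup G) : Set G) := by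
  have h1 := Subgroup.le_normalizer_map (H := P) A.subtype
  rw [Subgroup.normalizer_eq_top_iff.mpr hP, ← MonoidHom.range_eq_map, Subgroup.range_subtype] at h1
  exact h1

end sylow

namespace MinCE

variable {G : Type u} [Group G] [Finite G] {A B : Subgroup G}

theorem inf_eq_bot_of_comm (h : MinCE G A B) {D : Subgroup G} (hD : IsMinNormal D)
    (hab : IsMulCommutative D) : A ⊓ D = ⊥ := by
  obtain ⟨hDn, hDne, hDmin⟩ := id hD
  haveI := hDn
  have hnorm : (A ⊓ D).Normal := by
    constructor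
    intro n hn g
    obtain ⟨a, ha, d, hd, rfl⟩ := exists_mul_of_sup_eq_top A D (h.sup_eq_top D hDne) g
    have hcomm : d * n * d⁻¹ = n := by
      have : d * n = n * d := setLike_mul_comm hd hn.2
      rw [this, mul_inv_cancel_right]
    have e : a * d * n * (a * d)⁻¹ = a * (d * n * d⁻¹) * a⁻¹ := by group
    rw [e, hcomm]
    exact ⟨A.mul_mem (A.mul_mem ha hn.1) (A.inv_mem ha), hDn.conj_mem n hn.2 a⟩
  rcases hDmin (A ⊓ D) hnorm inf_le_right with h0 | h1
  · exact h0
  · exfalso
    have hDA : D ≤ A := fun x hx => ((h1.symm ▸ hx : x ∈ A ⊓ D)).1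
    have := h.sup_eq_top D hDne
    rw [sup_eq_left.mpr hDA] at this
    exact h.A_ne_top this

theorem card_eq_mul (h : MinCE G A B) (D : Subgroup G) [D.Normal] (hD : D ≠ ⊥)
    (hAD : A ⊓ D = ⊥) : Nat.card G = Nat.card A * Nat.card D := by
  have h1 := Cfsg.Agent.Helper10.card_set_mul_mul_card_inf A D
  rw [hAD, ← Subgroup.mul_normal, h.sup_eq_top D hD] at h1
  simpa using h1

theorem sylow_contra (h : MinCE G A B) {D : Subgroup G} [D.Normal] {p q k : ℕ}
    (hq : q.Prime) (hp : p.Prime) (hqp : q ≠ p) (hqA : q ∣ Nat.card A)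
    (hk : Nat.card D = p ^ k) (hGA : Nat.card G = Nat.card A * Nat.card D)
    (hGB : Nat.card G = Nat.card B * Nat.card D) : False := by
  haveI : Fact q.Prime := ⟨hq⟩
  obtain ⟨P, Q, R, hR⟩ := Cfsg.Agent.S0560.result A B h.fact q
  have hXR : (P : Subgroup A).map A.subtype ≤ R := fun x hx => by
    have : x ∈ ((R : Subgroup G) : Set G) := by
      rw [hR]; exact ⟨x, hx, 1, Subgroup.one_mem _, mul_one x⟩
    exact this
  have hYR : (Q : Subgroup B).map B.subtype ≤ R := fun x hx => by
    have : x ∈ ((R : Subgroup G) : Set G) := by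
      rw [hR]; exact ⟨1, Subgroup.one_mem _, x, hx, one_mul x⟩
    exact this
  have hqk : ¬ q ∣ p ^ k := fun hd =>
    hqp ((Nat.prime_dvd_prime_iff_eq hq hp).mp (hq.dvd_of_dvd_pow hd))
  have hfac : ∀ (C : Subgroup G), Nat.card G = Nat.card C * Nat.card D →
      (Nat.card G).factorization q = (Nat.card C).factorization q := by
    intro C hC
    have h0 : (p ^ k).factorization q = 0 := Nat.factorization_eq_zero_of_not_dvd hqk
    rw [hC, hk, Nat.factorization_mul Nat.card_pos.ne' (pow_ne_zero _ hp.ne_zero),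
      Finsupp.add_apply, h0, add_zero]
  have hcardX : Nat.card ((P : Subgroup A).map A.subtype) = Nat.card (R : Subgroup G) := by
    rw [Subgroup.card_map_of_injective A.subtype_injective, Sylow.card_eq_multiplicity,
      Sylow.card_eq_multiplicity, hfac A hGA]
  have hcardY : Nat.card ((Q : Subgroup B).map B.subtype) = Nat.card (R : Subgroup G) := by
    rw [Subgroup.card_map_of_injective B.subtype_injective, Sylow.card_eq_multiplicity,
      Sylow.card_eq_multiplicity, hfac B hGB]
  have hXeq : (P : Subgroup A).map A.subtype = R := Subgroup.eq_of_le_of_card_ge hXR hcardX.ge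
  have hYeq : (Q : Subgroup B).map B.subtype = R := Subgroup.eq_of_le_of_card_ge hYR hcardY.ge
  haveI := sylow_normal_of_nilpotent h.nilA P
  haveI := sylow_normal_of_nilpotent h.nilB Q
  have hAn : A ≤ Subgroup.normalizer ((R : Subgroup G) : Set G) := by
    rw [← hXeq]; exact le_normalizer_map_subtype A P
  have hBn : B ≤ Subgroup.normalizer ((R : Subgroup G) : Set G) := by
    rw [← hYeq]; exact le_normalizer_map_subtype B Q
  have hRn : (R : Subgroup G).Normal := by
    rw [← Subgroup.normalizer_eq_top_iff, eq_top_iff]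
    intro g _
    obtain ⟨a, ha, b, hb, rfl⟩ := h.fact g
    exact Subgroup.mul_mem _ (hAn ha) (hBn hb)
  have hRne : (R : Subgroup G) ≠ ⊥ := by
    rw [← hXeq, Ne, Subgroup.map_eq_bot_iff_of_injective _ A.subtype_injective]
    exact P.ne_bot_of_dvd_card hqA
  have htop := h.sup_eq_top (R : Subgroup G) hRne
  have hRA : (R : Subgroup G) ≤ A := by rw [← hXeq]; exact Subgroup.map_subtype_le _
  rw [sup_eq_left.mpr hRA] at htop
  exact h.A_ne_top htop

theorem minNormal_not_solvable (h : MinCE G A B) {D : Subgroup G} (hD : IsMinNormal D) :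
    ¬ Group.IsSolvable D := by
  intro hs
  haveI := hs
  obtain ⟨hDn, hDne, hDmin⟩ := id hD
  haveI := hDn
  have hab : IsMulCommutative D := hD.isMulCommutative_of_isSolvable
  obtain ⟨p, hp, hpd, hexp⟩ := hD.exists_prime_pow_eq_one_of_comm hab
  haveI : Fact p.Prime := ⟨hp⟩
  have hDp : IsPGroup p D := by
    intro d
    refine ⟨1, ?_⟩
    apply Subtype.ext
    simpa using hexp d.1 d.2
  obtain ⟨k, hk⟩ := IsPGroup.iff_card.mp hDp
  have hAD := h.inf_eq_bot_of_comm hD hab
  have hBD := h.symm.inf_eq_bot_of_comm hD hab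
  have hGA := h.card_eq_mul D hDne hAD
  have hGB := h.symm.card_eq_mul D hDne hBD
  have hprimes : ∀ {q : ℕ}, q.Prime → q ∣ Nat.card A → q = p := by
    intro q hq hqA
    by_contra hqp
    exact h.sylow_contra hq hp hqp hqA hk hGA hGB
  have hA0 : Nat.card A ≠ 0 := Nat.card_pos.ne'
  obtain ⟨m, hm⟩ : ∃ m, Nat.card A = p ^ m := ⟨_, Nat.eq_prime_pow_of_unique_prime_dvd hA0 hprimes⟩
  have hGp : IsPGroup p G := IsPGroup.of_card (n := m + k) (by rw [hGA, hm, hk, pow_add])
  exact h.not_nilpotent hGp.isNilpotent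

theorem centralizer_eq_bot (h : MinCE G A B) {D : Subgroup G} (hD : IsMinNormal D) :
    Subgroup.centralizer (D : Set G) = ⊥ := by
  obtain ⟨hDn, hDne, hDmin⟩ := id hD
  haveI := hDn
  by_contra hC
  haveI hCn : (Subgroup.centralizer (D : Set G)).Normal := Subgroup.normal_centralizer
  have hns := h.minNormal_not_solvable hD
  haveI := h.quot_nilpotent _ hC
  have hinf : D ⊓ Subgroup.centralizer (D : Set G) = ⊥ := by
    rcases hDmin (D ⊓ Subgroup.centralizer (D : Set G)) inferInstance inf_le_left with h0 | h1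
    · exact h0
    · exfalso
      apply hns
      have hDC : D ≤ Subgroup.centralizer (D : Set G) := fun x hx =>
        ((h1.symm ▸ hx : x ∈ D ⊓ Subgroup.centralizer (D : Set G))).2
      exact Group.isSolvable_of_comm (fun a b => Subtype.ext (hDC b.2 a.1 a.2))
  apply hns
  have hf : Function.Injective ((QuotientGroup.mk' (Subgroup.centralizer (D : Set G))).comp
      D.subtype) := by
    rw [injective_iff_map_eq_one]
    intro d hd
    have hdC : (d : G) ∈ Subgroup.centralizer (D : Set G) := by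
      simpa [QuotientGroup.eq_one_iff] using hd
    have h2 : (d : G) ∈ D ⊓ Subgroup.centralizer (D : Set G) := ⟨d.2, hdC⟩
    rw [hinf, Subgroup.mem_bot] at h2
    exact Subtype.ext h2
  exact Group.isSolvable_of_isSolvable_injective hf

end MinCE

end Cfsg.Agent.Helper9.KegelRed
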