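import Mathlib
import Cfsg.Agent.Lib.Helper9.KegelRed2

/-!
# Reduction of the Kegel–Wielandt theorem to Wielandt's coprime theorem (part 3)

`kegel_normal`  : S0565 (proper normal subgroup containing a factor) from Wielandt's theorem.
`kegel_solvable`: S0564 (Kegel–Wielandt) from Wielandt's theorem.
-/

set_option autoImplicit false
set_option linter.style.haveILetI false

namespace Cfsg.Agent.Helper9.KegelRed

open scoped Pointwise
open Cfsg.Agent.Helper19 Cfsg.Agent.Helper10

universe u

namespace MinCE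

variable {G : Type u} [Group G] [Finite G] {A B : Subgroup G}

theorem false_of_common_prime (h : MinCE G A B) {p : ℕ} [hp : Fact p.Prime]
    (hpA : p ∣ Nat.card A) (hpB : p ∣ Nat.card B) : False := by
  classical
  obtain ⟨P⟩ : Nonempty (Sylow p A) := inferInstance
  obtain ⟨Q⟩ : Nonempty (Sylow p B) := inferInstance
  have hXp : IsPGroup p ((P : Subgroup A).map A.subtype) := P.isPGroup'.map _
  have hYp : IsPGroup p ((Q : Subgroup B).map B.subtype) := Q.isPGroup'.map _
  have hXne : (P : Subgroup A).map A.subtype ≠ ⊥ := by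
    rw [Ne, Subgroup.map_eq_bot_iff_of_injective _ A.subtype_injective]
    exact P.ne_bot_of_dvd_card hpA
  have hYne : (Q : Subgroup B).map B.subtype ≠ ⊥ := by
    rw [Ne, Subgroup.map_eq_bot_iff_of_injective _ B.subtype_injective]
    exact Q.ne_bot_of_dvd_card hpB
  have hXY : PermWith ((P : Subgroup A).map A.subtype) ((Q : Subgroup B).map B.subtype) := by
    obtain ⟨P', Q', R, hR⟩ := Cfsg.Agent.S0560.result A B h.fact p
    haveI := sylow_subsingleton h.nilA (p := p)
    haveI := sylow_subsingleton h.nilB (p := p)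
    rw [Subsingleton.elim P' P, Subsingleton.elim Q' Q] at hR
    exact permWith_of_set_eq hR
  have hperm : ∀ x y : G, PermWith (MulAut.conj x • ((P : Subgroup A).map A.subtype))
      (MulAut.conj y • ((Q : Subgroup B).map B.subtype)) := by
    intro x y
    obtain ⟨-, g, hgA, hgB⟩ := Cfsg.Agent.S0559.result A B (MulAut.conj x • A)
      (MulAut.conj y • B) h.fact ⟨x, rfl⟩ ⟨y, rfl⟩
    rw [cj_sylow_eq h.nilA P hgA, cj_sylow_eq h.nilB Q hgB]
    exact permWith_cj hXY g
  obtain ⟨W, hWp, hXW, hWn⟩ := KegelW.wlemma _ _ hXp hYp hperm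
  have hYN : (Q : Subgroup B).map B.subtype ≤ (Subgroup.normalizer (W : Set G)).normalCore := by
    intro y hy b
    exact hWn b (mem_cj.2 ⟨y, hy, rfl⟩)
  have hNne : (Subgroup.normalizer (W : Set G)).normalCore ≠ ⊥ := fun h0 =>
    hYne (le_bot_iff.mp (h0 ▸ hYN))
  obtain ⟨D, hD, hDN⟩ := exists_isMinNormal_le _ hNne
  have hDW : D ≤ Subgroup.normalizer (W : Set G) := hDN.trans (Subgroup.normalCore_le _)
  obtain ⟨hDn, hDne, hDmin⟩ := id hD
  haveI := hDn
  have hns := h.minNormal_not_solvable hD
  have hE : W ⊓ D = ⊥ := by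
    have hEp : IsPGroup p (W ⊓ D : Subgroup G) := hWp.to_le inf_le_left
    have hEn : D ≤ Subgroup.normalizer ((W ⊓ D : Subgroup G) : Set G) := by
      intro d hd
      rw [Subgroup.mem_normalizer_iff]
      intro n
      have h1 := (Subgroup.mem_normalizer_iff.mp (hDW hd)) n
      have h2 : n ∈ D ↔ d * n * d⁻¹ ∈ D := by
        constructor
        · intro hn; exact hDn.conj_mem n hn d
        · intro hn
          have := hDn.conj_mem _ hn d⁻¹
          simpa [mul_assoc] using this
      simp only [Subgroup.mem_inf, h1, h2]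
    have hle : W ⊓ D ≤ Cfsg.pCore p G :=
      Cfsg.Agent.Helper22.le_pCore_of_subnormal hDn.isSubnormal inf_le_right hEn hEp
    have hO : Cfsg.pCore p G ⊓ D = ⊥ := by
      haveI := Cfsg.Agent.Helper10.pCore_normal p G
      rcases hDmin (Cfsg.pCore p G ⊓ D) inferInstance inf_le_right with h0 | h1
      · exact h0
      · exfalso
        apply hns
        have hDO : D ≤ Cfsg.pCore p G := fun x hx =>
          ((h1.symm ▸ hx : x ∈ Cfsg.pCore p G ⊓ D)).1
        have hDp : IsPGroup p D := (Cfsg.Agent.Helper22.isPGroup_pCore p).to_le hDO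
        haveI := hDp.isNilpotent
        infer_instance
    exact le_bot_iff.mp (hO ▸ le_inf hle inf_le_right)
  have hWC : W ≤ Subgroup.centralizer (D : Set G) := by
    intro w hw
    rw [Subgroup.mem_centralizer_iff]
    intro d hd
    have hmem : w * d * w⁻¹ * d⁻¹ ∈ W ⊓ D := by
      refine ⟨?_, ?_⟩
      · have h1 : d * w⁻¹ * d⁻¹ ∈ W :=
          (Subgroup.mem_normalizer_iff.mp (hDW hd) w⁻¹).mp (W.inv_mem hw)
        have h2 := W.mul_mem hw h1
        simpa [mul_assoc] using h2
      · exact D.mul_mem (hDn.conj_mem d hd w) (D.inv_mem hd)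
    rw [hE, Subgroup.mem_bot] at hmem
    have h3 : w * d = d * w := by
      have := congrArg (fun t => t * d * w) hmem
      simpa [mul_assoc] using this
    exact h3.symm
  rw [h.centralizer_eq_bot hD] at hWC
  exact hXne (le_bot_iff.mp (hXW.trans hWC))

theorem false (W0 : WielandtHyp.{u}) (h : MinCE G A B) : False := by
  classical
  haveI := h.nontrivial
  by_cases hcop : (Nat.card A).Coprime (Nat.card B)
  · haveI := W0 G A B h.nilA h.nilB hcop h.fact
    obtain ⟨D, hD⟩ := exists_isMinNormal (G := G)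
    exact h.minNormal_not_solvable hD inferInstance
  · obtain ⟨p, hp, hpA, hpB⟩ := Nat.Prime.not_coprime_iff_dvd.mp hcop
    haveI : Fact p.Prime := ⟨hp⟩
    exact h.false_of_common_prime hpA hpB

end MinCE

/-- **Kegel's theorem (normal-subgroup form), from Wielandt's theorem.** -/
theorem kegel_normal_aux (W0 : WielandtHyp.{u}) :
    ∀ (n : ℕ) (G : Type u) [Group G] [Finite G], Nat.card G = n → KProp G := by
  intro n
  induction n using Nat.strong_induction_on with
  | _ n ih =>
    intro G _ _ hn A B hA hB hfact hproper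
    by_contra hcon
    have hmin : MinCE G A B :=
      { nilA := hA
        nilB := hB
        fact := hfact
        proper := hproper
        none := fun N hN hNtop hAB => hcon ⟨N, hN, hNtop, hAB⟩
        ih := fun H _ _ hlt => ih (Nat.card H) (hn ▸ hlt) H rfl }
    exact hmin.false W0

theorem kegel_normal (W0 : WielandtHyp.{u}) {G : Type u} [Group G] [Finite G]
    (A B : Subgroup G) (hA : Group.IsNilpotent A) (hB : Group.IsNilpotent B)
    (hAB : ∀ g : G, ∃ a ∈ A, ∃ b ∈ B, g = a * b) (hproper : A ≠ ⊤ ∨ B ≠ ⊤) :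
    ∃ N : Subgroup G, N.Normal ∧ N ≠ ⊤ ∧ (A ≤ N ∨ B ≤ N) :=
  kegel_normal_aux W0 _ G rfl A B hA hB hAB hproper

/-! ### Solvability -/

section solv

variable {G : Type u} [Group G]

/-- If `A ≤ N ⊴ G = AB`, `N` solvable-by-induction: the inductive step. -/
theorem solvable_of_normal_ge {A B N : Subgroup G} (hB : Group.IsNilpotent B)
    (hAB : ∀ g : G, ∃ a ∈ A, ∃ b ∈ B, g = a * b) (hN : N.Normal) (hAN : A ≤ N)
    (hNs : Group.IsSolvable N) : Group.IsSolvable G := by
  haveI := hN
  haveI := hNs
  haveI := hB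
  have hsurj : Function.Surjective ((QuotientGroup.mk' N).comp B.subtype) := by
    intro q
    obtain ⟨g, rfl⟩ := QuotientGroup.mk'_surjective N q
    obtain ⟨a, ha, b, hb, rfl⟩ := hAB g
    refine ⟨⟨b, hb⟩, ?_⟩
    show (QuotientGroup.mk' N) b = (QuotientGroup.mk' N) (a * b)
    rw [map_mul]
    have : (QuotientGroup.mk' N) a = 1 := (QuotientGroup.eq_one_iff a).mpr (hAN ha)
    rw [this, one_mul]
  haveI : Group.IsNilpotent (G ⧸ N) := Group.nilpotent_of_surjective _ hsurj
  refine Group.isSolvable_of_ker_le_range N.subtype (QuotientGroup.mk' N) ?_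
  rw [QuotientGroup.ker_mk', Subgroup.range_subtype]

theorem fact_subgroupOf {A B N : Subgroup G} (hAB : ∀ g : G, ∃ a ∈ A, ∃ b ∈ B, g = a * b)
    (hAN : A ≤ N) : ∀ n : N, ∃ a ∈ A.subgroupOf N, ∃ b ∈ B.subgroupOf N, n = a * b := by
  intro n
  obtain ⟨a, ha, b, hb, e⟩ := hAB n.1
  have hbN : b ∈ N := by
    have : b = a⁻¹ * n.1 := by rw [e]; group
    rw [this]
    exact N.mul_mem (N.inv_mem (hAN ha)) n.2
  refine ⟨⟨a, hAN ha⟩, ?_, ⟨b, hbN⟩, ?_, ?_⟩
  · exact Subgroup.mem_subgroupOf.mpr ha
  · exact Subgroup.mem_subgroupOf.mpr hb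
  · exact Subtype.ext e

theorem nilpotent_subgroupOf {B : Subgroup G} (hB : Group.IsNilpotent B) (N : Subgroup G) :
    Group.IsNilpotent (B.subgroupOf N) := by
  rw [← Subgroup.inf_subgroupOf_right]
  have h1 : Group.IsNilpotent (B ⊓ N : Subgroup G) := nilpotent_of_le inf_le_left hB
  have e : ((B ⊓ N).subgroupOf N) ≃* (B ⊓ N : Subgroup G) :=
    Subgroup.subgroupOfEquivOfLe inf_le_right
  exact Group.nilpotent_of_mulEquiv e.symm

end solv

/-- **Kegel–Wielandt, from Wielandt's theorem.** -/
theorem kegel_solvable_aux (W0 : WielandtHyp.{u}) :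
    ∀ (n : ℕ) (G : Type u) [Group G] [Finite G], Nat.card G = n →
      ∀ A B : Subgroup G, Group.IsNilpotent A → Group.IsNilpotent B →
        (∀ g : G, ∃ a ∈ A, ∃ b ∈ B, g = a * b) → Group.IsSolvable G := by
  intro n
  induction n using Nat.strong_induction_on with
  | _ n ih =>
    intro G _ _ hn A B hA hB hfact
    by_cases htop : A = ⊤ ∧ B = ⊤
    · have : Group.IsNilpotent (⊤ : Subgroup G) := htop.1 ▸ hA
      haveI := nilpotent_of_top_nilpotent this
      infer_instance
    · have hproper : A ≠ ⊤ ∨ B ≠ ⊤ := by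
        by_contra hc
        push Not at hc
        exact htop hc
      obtain ⟨N, hNn, hNtop, hN⟩ := kegel_normal W0 A B hA hB hfact hproper
      have hlt : Nat.card N < Nat.card G := by
        rw [← Subgroup.card_top (G := G)]
        exact card_lt_card_of_lt' (lt_top_iff_ne_top.mpr hNtop)
      rcases hN with hAN | hBN
      · have hNs : Group.IsSolvable N :=
          ih (Nat.card N) (hn ▸ hlt) N rfl (A.subgroupOf N) (B.subgroupOf N)
            (nilpotent_subgroupOf hA N) (nilpotent_subgroupOf hB N) (fact_subgroupOf hfact hAN)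
        exact solvable_of_normal_ge hB hfact hNn hAN hNs
      · have hfact' := fact_symm hfact
        have hNs : Group.IsSolvable N :=
          ih (Nat.card N) (hn ▸ hlt) N rfl (B.subgroupOf N) (A.subgroupOf N)
            (nilpotent_subgroupOf hB N) (nilpotent_subgroupOf hA N) (fact_subgroupOf hfact' hBN)
        exact solvable_of_normal_ge hA hfact' hNn hBN hNs

theorem kegel_solvable (W0 : WielandtHyp.{u}) {G : Type u} [Group G] [Finite G]
    (A B : Subgroup G) (hA : Group.IsNilpotent A) (hB : Group.IsNilpotent B)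
    (hAB : ∀ g : G, ∃ a ∈ A, ∃ b ∈ B, g = a * b) : Group.IsSolvable G :=
  kegel_solvable_aux W0 _ G rfl A B hA hB hAB

end Cfsg.Agent.Helper9.KegelRed
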