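import Mathlib
import Cfsg.Agent.Lib.Helper9.KegelRed3

/-!
# Wielandt's theorem on coprime nilpotent products: general lemmas

Sylow subgroups of nilpotent subgroups (`sylOf`), a Hall-type containment lemma for permuting
subgroups, conjugation lemmas.
-/

set_option autoImplicit false
set_option linter.style.haveILetI false
set_option linter.unusedSectionVars false

namespace Cfsg.Agent.Helper9.Wielandt

open scoped Pointwise
open Cfsg.Agent.Helper19 Cfsg.Agent.Helper9.KegelRed

variable {G : Type*} [Group G]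

/-! ### conjugation -/

theorem cj_eq_of_mem_normalizer {S : Subgroup G} {m : G}
    (hm : m ∈ Subgroup.normalizer (S : Set G)) : MulAut.conj m • S = S := by
  ext z
  rw [mem_cj]
  constructor
  · rintro ⟨b, hb, rfl⟩
    exact (Subgroup.mem_normalizer_iff.mp hm b).mp hb
  · intro hz
    refine ⟨m⁻¹ * z * m, ?_, by group⟩
    have := (Subgroup.mem_normalizer_iff.mp (Subgroup.inv_mem _ hm) z).mp hz
    simpa using this

theorem mem_normalizer_of_cj_eq {S : Subgroup G} {m : G}
    (h : MulAut.conj m • S = S) : m ∈ Subgroup.normalizer (S : Set G) := by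
  rw [Subgroup.mem_normalizer_iff]
  intro n
  constructor
  · intro hn
    rw [← h]; exact mem_cj.2 ⟨n, hn, rfl⟩
  · intro hn
    rw [← h] at hn
    obtain ⟨w, hw, e⟩ := mem_cj.1 hn
    have : n = w := by
      have := congrArg (fun t => m⁻¹ * t * m) e
      simpa [mul_assoc] using this
    rw [this]; exact hw

theorem cj_centralizer (S : Subgroup G) (m : G) :
    MulAut.conj m • Subgroup.centralizer (S : Set G) =
      Subgroup.centralizer ((MulAut.conj m • S : Subgroup G) : Set G) := by
  ext z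
  rw [mem_cj, Subgroup.mem_centralizer_iff]
  constructor
  · rintro ⟨c, hc, rfl⟩ y hy
    obtain ⟨b, hb, rfl⟩ := mem_cj.1 hy
    have := (Subgroup.mem_centralizer_iff.mp hc) b hb
    calc m * b * m⁻¹ * (m * c * m⁻¹) = m * (b * c) * m⁻¹ := by group
      _ = m * (c * b) * m⁻¹ := by rw [this]
      _ = m * c * m⁻¹ * (m * b * m⁻¹) := by group
  · intro hz
    refine ⟨m⁻¹ * z * m, ?_, by group⟩
    rw [Subgroup.mem_centralizer_iff]
    intro b hb
    have := hz (m * b * m⁻¹) (mem_cj.2 ⟨b, hb, rfl⟩)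
    calc b * (m⁻¹ * z * m) = m⁻¹ * (m * b * m⁻¹ * z) * m := by group
      _ = m⁻¹ * (z * (m * b * m⁻¹)) * m := by rw [this]
      _ = m⁻¹ * z * m * b := by group

theorem cj_mono {S T : Subgroup G} (h : S ≤ T) (m : G) :
    MulAut.conj m • S ≤ MulAut.conj m • T := by
  intro z hz
  obtain ⟨b, hb, rfl⟩ := mem_cj.1 hz
  exact mem_cj.2 ⟨b, h hb, rfl⟩

theorem le_cj_iff {S T : Subgroup G} (m : G) :
    S ≤ MulAut.conj m • T ↔ MulAut.conj m⁻¹ • S ≤ T := by
  constructor
  · intro h
    have := cj_mono h m⁻¹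
    rwa [cj_cj, inv_mul_cancel, map_one, one_smul] at this
  · intro h
    have := cj_mono h m
    rwa [cj_cj, mul_inv_cancel, map_one, one_smul] at this

/-- normalizing gives `PermWith`. -/
theorem permWith_of_le_normalizer {C H : Subgroup G}
    (h : H ≤ Subgroup.normalizer (C : Set G)) : PermWith C H := by
  intro k hk a ha
  exact ⟨k * a * k⁻¹, (Subgroup.mem_normalizer_iff.mp (h hk) a).mp ha, k, hk, by group⟩

/-- being normalized gives `PermWith`. -/
theorem permWith_of_le_normalizer' {C H : Subgroup G}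
    (h : C ≤ Subgroup.normalizer (H : Set G)) : PermWith C H := by
  intro k hk a ha
  refine ⟨a, ha, a⁻¹ * k * a, ?_, by group⟩
  have := (Subgroup.mem_normalizer_iff.mp (Subgroup.inv_mem _ (h ha)) k).mp hk
  simpa using this

variable [Finite G]

/-! ### a Hall-type containment lemma -/

theorem le_of_permWith_of_coprime {C H V : Subgroup G} (hCV : C ≤ V) (hHV : H ≤ V)
    (hperm : PermWith C H) {n : ℕ} (hn : Nat.card V = Nat.card H * n)
    (hcop : (Nat.card C).Coprime n) : C ≤ H := by
  obtain ⟨S, hS⟩ := exists_subgroup_of_permWith hperm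
  have hsup := KegelW.sup_eq_of_coe_eq_mul hS
  have hcard := Cfsg.Agent.Helper10.card_set_mul_mul_card_inf C H
  rw [← hS] at hcard
  have hcard' : Nat.card S * Nat.card (C ⊓ H : Subgroup G) = Nat.card C * Nat.card H := hcard
  have hHS : H ≤ S := hsup ▸ le_sup_right
  have hCS : C ≤ S := hsup ▸ le_sup_left
  have hSV : S ≤ V := hsup ▸ sup_le hCV hHV
  obtain ⟨d, hd⟩ := Subgroup.card_dvd_of_le hHS
  obtain ⟨e, he⟩ := Subgroup.card_dvd_of_le hSV
  have hpos : 0 < Nat.card H := Nat.card_pos
  have hdn : d ∣ n := by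
    have : Nat.card H * n = Nat.card H * (d * e) := by rw [← hn, he, hd, mul_assoc]
    exact Dvd.intro e (Nat.eq_of_mul_eq_mul_left hpos this).symm
  have hdC : d ∣ Nat.card C := by
    have : Nat.card H * (d * Nat.card (C ⊓ H : Subgroup G)) = Nat.card H * Nat.card C := by
      rw [← mul_assoc, ← hd, hcard', mul_comm]
    exact Dvd.intro _ (Nat.eq_of_mul_eq_mul_left hpos this)
  have hd1 : d = 1 := Nat.eq_one_of_dvd_coprimes hcop hdC hdn
  have hSH : S = H := (Subgroup.eq_of_le_of_card_ge hHS (by rw [hd, hd1, mul_one])).symm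
  rw [← hSH]; exact hCS

/-- A `p`-subgroup normalizing a subgroup of Sylow order lies in it. -/
theorem le_of_isPGroup_of_le_normalizer {r : ℕ} [Fact r.Prime] {Q S : Subgroup G}
    (hQ : IsPGroup r Q) (hS : Nat.card S = r ^ (Nat.card G).factorization r)
    (hn : Q ≤ Subgroup.normalizer (S : Set G)) : Q ≤ S := by
  have h1 : Q ⊓ Subgroup.normalizer (S : Set G) = Q ⊓ S :=
    hQ.inf_normalizer_sylow (Sylow.ofCard S hS)
  rw [inf_eq_left.mpr hn] at h1
  rw [h1]; exact inf_le_right

/-! ### Sylow subgroups of a (nilpotent) subgroup -/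

/-- The image in `G` of the default Sylow `r`-subgroup of `A`. -/
noncomputable def sylOf (A : Subgroup G) (r : ℕ) [Fact r.Prime] : Subgroup G :=
  ((default : Sylow r A) : Subgroup A).map A.subtype

theorem sylOf_le (A : Subgroup G) (r : ℕ) [Fact r.Prime] : sylOf A r ≤ A :=
  Subgroup.map_subtype_le _

theorem mem_sylOf_iff {A : Subgroup G} (hA : Group.IsNilpotent A) {r : ℕ} [Fact r.Prime] {z : G} :
    z ∈ sylOf A r ↔ z ∈ A ∧ ∃ k : ℕ, z ^ r ^ k = 1 :=
  mem_sylow_map_iff hA _ z

theorem mem_cj_sylOf_iff {A : Subgroup G} (hA : Group.IsNilpotent A) {r : ℕ} [Fact r.Prime]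
    {x z : G} : z ∈ MulAut.conj x • sylOf A r ↔ z ∈ MulAut.conj x • A ∧ ∃ k : ℕ, z ^ r ^ k = 1 :=
  mem_cj_sylow_iff hA _ x z

theorem isPGroup_sylOf (A : Subgroup G) (r : ℕ) [Fact r.Prime] : IsPGroup r (sylOf A r) :=
  (default : Sylow r A).isPGroup'.map _

theorem card_sylOf (A : Subgroup G) (r : ℕ) [Fact r.Prime] :
    Nat.card (sylOf A r) = r ^ (Nat.card A).factorization r := by
  unfold sylOf
  rw [Subgroup.card_map_of_injective A.subtype_injective, Sylow.card_eq_multiplicity]

theorem sylOf_ne_bot {A : Subgroup G} {r : ℕ} [Fact r.Prime] (h : r ∣ Nat.card A) :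
    sylOf A r ≠ ⊥ := by
  unfold sylOf
  rw [Ne, Subgroup.map_eq_bot_iff_of_injective _ A.subtype_injective]
  exact Sylow.ne_bot_of_dvd_card _ h

theorem le_normalizer_sylOf {A : Subgroup G} (hA : Group.IsNilpotent A) (r : ℕ) [Fact r.Prime] :
    A ≤ Subgroup.normalizer (sylOf A r : Set G) := by
  haveI := sylow_normal_of_nilpotent hA (default : Sylow r A)
  exact le_normalizer_map_subtype A _

theorem commute_sylOf {A : Subgroup G} (hA : Group.IsNilpotent A) {r t : ℕ} [Fact r.Prime]
    [Fact t.Prime] (hrt : r ≠ t) {x y : G} (hx : x ∈ sylOf A r) (hy : y ∈ sylOf A t) :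
    x * y = y * x := by
  obtain ⟨x', hx', rfl⟩ := hx
  obtain ⟨y', hy', rfl⟩ := hy
  have h1 := sylow_normal_of_nilpotent hA (default : Sylow r A)
  have h2 := sylow_normal_of_nilpotent hA (default : Sylow t A)
  have hdisj : Disjoint ((default : Sylow r A) : Subgroup A) ((default : Sylow t A) : Subgroup A) :=
    IsPGroup.disjoint_of_ne r t hrt _ _ (Sylow.isPGroup' _) (Sylow.isPGroup' _)
  have := Subgroup.commute_of_normal_of_disjoint _ _ h1 h2 hdisj x' y' hx' hy'
  exact congrArg Subtype.val this.eq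

/-- A subgroup containing all Sylow subgroups of `A` contains `A`. -/
theorem le_of_sylOf_le (A N : Subgroup G)
    (h : ∀ (r : ℕ) [Fact r.Prime], r ∣ Nat.card A → sylOf A r ≤ N) : A ≤ N := by
  have hdvd : Nat.card A ∣ Nat.card (A ⊓ N : Subgroup G) := by
    rw [← Nat.factorization_prime_le_iff_dvd Nat.card_pos.ne' Nat.card_pos.ne']
    intro r hr
    haveI : Fact r.Prime := ⟨hr⟩
    by_cases hrA : r ∣ Nat.card A
    · have h1 : sylOf A r ≤ A ⊓ N := le_inf (sylOf_le A r) (h r hrA)
      have h2 := Subgroup.card_dvd_of_le h1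
      rw [card_sylOf] at h2
      exact (hr.pow_dvd_iff_le_factorization Nat.card_pos.ne').mp h2
    · rw [Nat.factorization_eq_zero_of_not_dvd hrA]; exact Nat.zero_le _
  have hle : Nat.card A ≤ Nat.card (A ⊓ N : Subgroup G) := Nat.le_of_dvd Nat.card_pos hdvd
  have heq : A ⊓ N = A := Subgroup.eq_of_le_of_card_ge inf_le_left hle
  intro x hx
  have : x ∈ A ⊓ N := by rw [heq]; exact hx
  exact this.2

/-- Sylow subgroups of a Hall subgroup are Sylow subgroups of `G`. -/
theorem card_sylOf_of_hall {A : Subgroup G} {r : ℕ} [hr : Fact r.Prime]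
    (hcop : (Nat.card A).Coprime A.index) (hrA : r ∣ Nat.card A) :
    Nat.card (sylOf A r) = r ^ (Nat.card G).factorization r := by
  have hni : ¬ r ∣ A.index := fun hd =>
    hr.out.not_dvd_one (hcop ▸ Nat.dvd_gcd hrA hd)
  rw [card_sylOf, ← A.card_mul_index,
    Nat.factorization_mul Nat.card_pos.ne' Subgroup.index_ne_zero_of_finite,
    Finsupp.add_apply, Nat.factorization_eq_zero_of_not_dvd hni, add_zero]

/-- conjugates of nilpotent subgroups are nilpotent. -/
theorem nilpotent_cj {A : Subgroup G} (hA : Group.IsNilpotent A) (g : G) :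
    Group.IsNilpotent (MulAut.conj g • A : Subgroup G) :=
  Group.nilpotent_of_mulEquiv (Subgroup.equivSMul (MulAut.conj g) A)

end Cfsg.Agent.Helper9.Wielandt
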