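import Mathlib
import Cfsg.Agent.Lib.Helper14.TSPDefs
import Cfsg.Agent.Lib.Helper96.SympInvol

/-!
# TSP project (S5980): piece (PN) `pick_neg` (helper9)
-/

set_option autoImplicit false

namespace Cfsg.Agent.Helper9.TSP

open Matrix Module Polynomial

universe u

section finite

variable {F : Type u} [Field F] [Fintype F]

/-- a binary diagonal form over a finite field of odd order represents everything -/
theorem h9_diag_repr (h2 : (2 : F) ≠ 0) (a b κ : F) (ha : a ≠ 0) (hb : b ≠ 0) :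
    ∃ s t : F, a * (s * s) + b * (t * t) = κ := by
  have hodd : Fintype.card F % 2 = 1 := by
    apply FiniteField.odd_card_of_char_ne_two
    intro h
    apply h2
    have h' := ringChar.Nat.cast_ringChar (R := F)
    rw [h] at h'
    exact_mod_cast h'
  have hf2 : (C a * X ^ 2 + C 0 * X + C 0 : F[X]).degree = 2 := degree_quadratic ha
  have hg2 : (C b * X ^ 2 + C 0 * X + C (-κ) : F[X]).degree = 2 := degree_quadratic hb
  obtain ⟨s, t, hst⟩ := FiniteField.exists_root_sum_quadratic hf2 hg2 hodd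
  refine ⟨s, t, ?_⟩
  simp only [eval_add, eval_mul, eval_C, eval_pow, eval_X, zero_mul, add_zero] at hst
  linear_combination hst

/-- the quadratic form `u ↦ f u (x u)` represents every `κ ≠ 0` on `C` -/
theorem h9_repr {V : Type*} [AddCommGroup V] [Module F V]
    (h2 : (2 : F) ≠ 0) (f : V → V → F)
    (hf : Cfsg.Agent.Helper96.SympInvol.AltForm f) (x : V →ₗ[F] V)
    (hxf : ∀ u w, f (x u) (x w) = f u w) (hx : ∀ v, x (x v) = -v)
    (C : Submodule F V) (hC : ∀ u ∈ C, x u ∈ C) (hCnd : ∀ u ∈ C, u ≠ 0 → ∃ w ∈ C, f u w ≠ 0)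
    (hC0 : C ≠ ⊥) (κ : F) :
    ∃ u ∈ C, f u (x u) = κ := by
  -- symmetry of `β u w = f u (x w)`
  have hsym : ∀ u w, f w (x u) = f u (x w) := by
    intro u w
    rw [← hxf w (x u), hx, hf.neg_right, ← hf.swap]
  -- expansion
  have hexp : ∀ (s t : F) (u e : V), f (s • u + t • e) (x (s • u + t • e)) =
      s * s * f u (x u) + 2 * s * t * f u (x e) + t * t * f e (x e) := by
    intro s t u e
    simp only [map_add, map_smul, hf.add_left, hf.add_right, hf.smul_left, hf.smul_right,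
      hsym u e]
    ring
  by_cases hiso : ∃ u ∈ C, u ≠ 0 ∧ f u (x u) = 0
  · obtain ⟨u, huC, hu0, hQu⟩ := hiso
    obtain ⟨w', hw'C, hw'⟩ := hCnd u huC hu0
    -- `w := -x w'`, `x w = w'`
    have hxw : x (-(x w')) = w' := by rw [map_neg, hx, neg_neg]
    have hwC : -(x w') ∈ C := C.neg_mem (hC w' hw'C)
    have hβ : f u (x (-(x w'))) ≠ 0 := by rw [hxw]; exact hw'
    set w := -(x w') with hw
    set β := f u (x w) with hβdef
    refine ⟨((κ - f w (x w)) / (2 * β)) • u + (1 : F) • w,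
      C.add_mem (C.smul_mem _ huC) (C.smul_mem _ hwC), ?_⟩
    rw [hexp, hQu]
    field_simp
    ring
  · push Not at hiso
    obtain ⟨u₁, hu₁C, hu₁0⟩ := Submodule.exists_mem_ne_zero_of_ne_bot hC0
    have ha : f u₁ (x u₁) ≠ 0 := hiso u₁ hu₁C hu₁0
    obtain ⟨w', hw'C, hw'⟩ := hCnd u₁ hu₁C hu₁0
    set a := f u₁ (x u₁) with hadef
    set c := f u₁ (x w') / a with hcdef
    have he2C : w' - c • u₁ ∈ C := C.sub_mem hw'C (C.smul_mem _ hu₁C)
    have he20 : w' - c • u₁ ≠ 0 := by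
      intro h0
      have h1 : f u₁ (w' - c • u₁) = f u₁ w' := by
        rw [hf.sub_right, hf.smul_right, hf.self, mul_zero, sub_zero]
      rw [h0, hf.zero_right] at h1
      exact hw' h1.symm
    have horth : f u₁ (x (w' - c • u₁)) = 0 := by
      rw [map_sub, map_smul, hf.sub_right, hf.smul_right, hcdef, ← hadef]
      field_simp
      ring
    have hb : f (w' - c • u₁) (x (w' - c • u₁)) ≠ 0 := hiso _ he2C he20
    obtain ⟨s, t, hst⟩ := h9_diag_repr h2 a _ κ ha hb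
    refine ⟨s • u₁ + t • (w' - c • u₁), C.add_mem (C.smul_mem _ hu₁C) (C.smul_mem _ he2C), ?_⟩
    rw [hexp, horth, ← hst, ← hadef]
    ring

/-- (PN) the pick step when `x² = -1`. -/
theorem pick_neg {V : Type*} [AddCommGroup V] [Module F V] [FiniteDimensional F V]
    (h2 : (2 : F) ≠ 0) (f : V → V → F)
    (hf : Cfsg.Agent.Helper96.SympInvol.AltForm f) (x : V →ₗ[F] V)
    (hxf : ∀ u w, f (x u) (x w) = f u w) (hx : ∀ v, x (x v) = -v)
    (C : Submodule F V) (hC : ∀ u ∈ C, x u ∈ C) (hCnd : ∀ u ∈ C, u ≠ 0 → ∃ w ∈ C, f u w ≠ 0)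
    (hC0 : C ≠ ⊥) (κ : F) (hκ : κ ≠ 0) :
    ∃ u ∈ C, ∃ v ∈ C, ∃ ε : F, ε ≠ 0 ∧ f u v = κ ∧
      x u = ε • ((!![0, -1; 1, 0] : Matrix (Fin 2) (Fin 2) F) 0 0 • u +
        (!![0, -1; 1, 0] : Matrix (Fin 2) (Fin 2) F) 1 0 • v) ∧
      x v = ε • ((!![0, -1; 1, 0] : Matrix (Fin 2) (Fin 2) F) 0 1 • u +
        (!![0, -1; 1, 0] : Matrix (Fin 2) (Fin 2) F) 1 1 • v) := by
  obtain ⟨u, huC, hu⟩ := h9_repr h2 f hf x hxf hx C hC hCnd hC0 κ
  refine ⟨u, huC, x u, hC u huC, 1, one_ne_zero, hu, ?_, ?_⟩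
  · simp
  · rw [hx]
    simp

end finite

end Cfsg.Agent.Helper9.TSP
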