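import Mathlib

set_option autoImplicit false

namespace Cfsg.Agent.Helper9

/-- Conjugation by an element `g` of `r`-power order normalizing a finite subgroup `X`: the number
of elements of `X` is congruent mod `r` to the number of elements of `X` centralized by `g`. -/
theorem card_modEq_card_inf_centralizer {G : Type*} [Group G] (X : Subgroup G) [Finite X] (g : G)
    (hgN : ∀ x ∈ X, g * x * g⁻¹ ∈ X) (r k : ℕ) [Fact r.Prime] (hgr : g ^ (r ^ k) = 1) :
    Nat.card X ≡ Nat.card (X ⊓ Subgroup.centralizer {g} : Subgroup G) [MOD r] := by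
  classical
  letI : Fintype X := Fintype.ofFinite X
  let f : Function.End X := fun x => ⟨g * x * g⁻¹, hgN x x.2⟩
  have hpow : ∀ (m : ℕ) (x : X), (((f ^ m) x : X) : G) = g ^ m * x * (g ^ m)⁻¹ := by
    intro m
    induction m with
    | zero => intro x; simp only [pow_zero, one_mul, inv_one, mul_one]; rfl
    | succ m ih =>
      intro x
      rw [pow_succ]
      show (((f ^ m) (f x) : X) : G) = _
      rw [ih (f x)]
      show g ^ m * (g * x * g⁻¹) * (g ^ m)⁻¹ = _
      rw [pow_succ]; group
  have hf : f ^ (r ^ k) = 1 := by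
    funext x
    apply Subtype.ext
    rw [hpow, hgr]
    simp only [one_mul, inv_one, mul_one]
    rfl
  have h1 := Equiv.Perm.card_fixedPoints_modEq (f := f) (p := r) (n := k) hf
  rw [Fintype.card_eq_nat_card, Fintype.card_eq_nat_card] at h1
  have hfix : ∀ x : X, x ∈ Function.fixedPoints f ↔ (x : G) ∈ Subgroup.centralizer ({g} : Set G) := by
    intro x
    rw [Function.mem_fixedPoints, Function.IsFixedPt, Subgroup.mem_centralizer_singleton_iff]
    constructor
    · intro h
      have h2 : g * (x : G) * g⁻¹ = x := congrArg Subtype.val h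
      rw [mul_inv_eq_iff_eq_mul] at h2
      exact h2.symm
    · intro h
      apply Subtype.ext
      show g * (x : G) * g⁻¹ = x
      rw [mul_inv_eq_iff_eq_mul]
      exact h.symm
  have e : Function.fixedPoints f ≃ (X ⊓ Subgroup.centralizer {g} : Subgroup G) :=
    { toFun := fun x => ⟨(x.1 : G), ⟨x.1.2, (hfix x.1).mp x.2⟩⟩
      invFun := fun y => ⟨⟨y.1, y.2.1⟩, (hfix ⟨y.1, y.2.1⟩).mpr y.2.2⟩
      left_inv := fun x => rfl
      right_inv := fun y => rfl }
  rw [Nat.card_congr e] at h1
  exact h1

end Cfsg.Agent.Helper9
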