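import Mathlib
import Cfsg.Agent.Lib.Helper32.C3Defs

/-!
# C3 (M3) sub-split (helper9): shared definitions

Monomial data `(e, π, s)`: `ρ g (e i) = s g i • e (π g i)`, degree 4.
-/

set_option autoImplicit false

namespace Cfsg.Agent.Helper9.C3M3

/-- membership in the normal four-group of `S_4` (decidable) -/
def InV4 (σ : Equiv.Perm (Fin 4)) : Prop := σ * σ = 1 ∧ (σ = 1 ∨ ∀ i, σ i ≠ i)

instance (σ : Equiv.Perm (Fin 4)) : Decidable (InV4 σ) := by unfold InV4; infer_instance

end Cfsg.Agent.Helper9.C3M3
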