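import Mathlib
import Cfsg.Prelude.Def_OddOrder
import Cfsg.Prelude.Def_OddOrderLocal
import Cfsg.Agent.Lib.Helper33.Syl
import Cfsg.Agent.Lib.Helper34.BG10a
import Cfsg.Agent.Lib.Helper55.BGDecomp2
import Cfsg.Agent.Lib.Helper50.Hyperplane
import Cfsg.Agent.Lib.Helper76.EqOrd1
import Cfsg.Agent.S1446

/-!
# Bender–Glauberman Theorem 14.7 (core), part a: `P`-pairs and Lemma C

A `P`-pair `(M, K)`: `M` maximal, `K ≠ 1` a Hall `κ(M)`-subgroup, packaged with the conclusions of the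
earlier rows (B-G 10.? `M_σ` Hall, B-G 14.2) as hypotheses, so that this file does not import them.
-/

set_option autoImplicit false

namespace Cfsg.Agent.Helper9.BG147

open Subgroup Cfsg
open scoped Pointwise
open Cfsg.Agent.Helper33
open Cfsg.Agent.Helper34.BG
open Cfsg.Agent.Helper55.BGB

variable {G : Type*} [Group G]

/-- `K* = C_{M_σ}(K)`. -/
abbrev Ks (M K : Subgroup G) : Subgroup G :=
  Cfsg.sigmaCore M ⊓ Subgroup.centralizer (K : Set G)

/-- A `P`-pair, bundled with the conclusions of B-G 10 (`M_σ` is a Hall subgroup) and of B-G 14.2. -/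
structure PPair (M K : Subgroup G) : Prop where
  coatom : IsCoatom M
  hall : Cfsg.IsPiHallOf (Cfsg.kappa M) K M
  ne : K ≠ ⊥
  sHall : Cfsg.IsPiHallOf (Cfsg.sigma M) (Cfsg.sigmaCore M) M
  sHallG : Cfsg.IsPiHall (Cfsg.sigma M) (Cfsg.sigmaCore M)
  prim : ∀ k ∈ K, k ≠ 1 →
    Cfsg.sigmaCore M ⊓ Subgroup.centralizer ({k} : Set G) = Ks M K
  exU : ∃ U : Subgroup G, IsMulCommutative U ∧
    Cfsg.IsPiHallOf {q | q.Prime ∧ q ∉ Cfsg.kappa M ∧ q ∉ Cfsg.sigma M} U M ∧
    K ≤ Subgroup.normalizer (U : Set G) ∧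
    ∀ k ∈ K, k ≠ 1 → U ⊓ Subgroup.centralizer ({k} : Set G) = ⊥
  norm : ∀ X : Subgroup G, X ≤ K → (Nat.card X).Prime →
    M ⊓ Subgroup.normalizer (X : Set G) = K ⊔ Ks M K ∧
    M ⊓ Subgroup.normalizer (K : Set G) = K ⊔ Ks M K ∧
    ∀ Mstar : Subgroup G, IsCoatom Mstar → Subgroup.normalizer (X : Set G) ≤ Mstar →
      X ≤ Cfsg.sigmaCore Mstar
  ti : ∀ g : G, g ∉ M → Ks M K ⊓ M.map (MulAut.conj g).toMonoidHom = ⊥
  syl : ∀ (p : ℕ), p.Prime → p ∣ Nat.card ↥(Ks M K) → ∀ S : Sylow p ↥(Cfsg.sigmaCore M),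
    Cfsg.InUniqueMaximal ((S : Subgroup ↥(Cfsg.sigmaCore M)).map (Cfsg.sigmaCore M).subtype) ∧
    (S : Subgroup ↥(Cfsg.sigmaCore M)).map (Cfsg.sigmaCore M).subtype ≤ M ∧
    ¬ (S : Subgroup ↥(Cfsg.sigmaCore M)).map (Cfsg.sigmaCore M).subtype ≤ Ks M K
  sub : ∀ Y : Subgroup G, (∀ p : ℕ, p.Prime → p ∣ Nat.card Y → p ∈ Cfsg.sigma M) →
    Y ⊓ Ks M K ≠ ⊥ → Y ≤ Cfsg.sigmaCore M

namespace PPair

variable {M K : Subgroup G}

theorem K_le (pp : PPair M K) : K ≤ M := pp.hall.1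

theorem Ks_le_sigmaCore (_pp : PPair M K) : Ks M K ≤ Cfsg.sigmaCore M := inf_le_left

theorem Ks_le (_pp : PPair M K) : Ks M K ≤ M := inf_le_left.trans (sigmaCore_le M)

theorem K_inf_sigmaCore [Finite G] (pp : PPair M K) : K ⊓ Cfsg.sigmaCore M = ⊥ :=
  inf_eq_bot_of_kappa_sigma (M := M) pp.hall.2.1 (isPi_sigmaCore M)

theorem K_inf_Ks [Finite G] (pp : PPair M K) : K ⊓ Ks M K = ⊥ := by
  apply le_antisymm _ bot_le
  rw [← pp.K_inf_sigmaCore]
  exact inf_le_inf_left _ inf_le_left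

theorem comm (_pp : PPair M K) {k y : G} (hk : k ∈ K) (hy : y ∈ Ks M K) : k * y = y * k :=
  (Subgroup.mem_centralizer_iff.mp hy.2) k hk

theorem Z_le (pp : PPair M K) : K ⊔ Ks M K ≤ M := sup_le pp.K_le pp.Ks_le

/-- `N_G(X) ≤ M` for every nontrivial subgroup `X` of `K*`. -/
theorem normalizer_le (pp : PPair M K) {X : Subgroup G} (hX : X ≤ Ks M K) (hX1 : X ≠ ⊥) :
    Subgroup.normalizer (X : Set G) ≤ M := by
  intro g hg
  by_contra hgM
  obtain ⟨x, hx1⟩ := (Subgroup.ne_bot_iff_exists_ne_one).mp hX1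
  obtain ⟨x, hxX⟩ := x
  have hx1' : x ≠ 1 := fun h => hx1 (Subtype.ext h)
  have h1 : x ∈ Ks M K ⊓ M.map (MulAut.conj g).toMonoidHom := by
    refine Subgroup.mem_inf.mpr ⟨hX hxX, ?_⟩
    rw [map_conj_eq_smul, mem_conj_smul]
    have hg' : g⁻¹ ∈ Subgroup.normalizer (X : Set G) := Subgroup.inv_mem _ hg
    have := (Subgroup.mem_normalizer_iff.mp hg' x).mp hxX
    apply pp.Ks_le
    apply hX
    simpa using this
  rw [pp.ti g hgM, Subgroup.mem_bot] at h1
  exact hx1' h1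

theorem centralizer_le (pp : PPair M K) {X : Subgroup G} (hX : X ≤ Ks M K) (hX1 : X ≠ ⊥) :
    Subgroup.centralizer (X : Set G) ≤ M :=
  (Subgroup.centralizer_le_normalizer _).trans (pp.normalizer_le hX hX1)

theorem centralizer_singleton_le (pp : PPair M K) {y : G} (hy : y ∈ Ks M K) (hy1 : y ≠ 1) :
    Subgroup.centralizer ({y} : Set G) ≤ M := by
  intro g hg
  by_contra hgM
  have h1 : y ∈ Ks M K ⊓ M.map (MulAut.conj g).toMonoidHom := by
    refine Subgroup.mem_inf.mpr ⟨hy, ?_⟩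
    rw [map_conj_eq_smul, mem_conj_smul]
    have hc : g * y = y * g := (Subgroup.mem_centralizer_singleton_iff.mp hg)
    have : g⁻¹ * y * g = y := by
      rw [mul_assoc, ← hc, ← mul_assoc, inv_mul_cancel, one_mul]
    rw [this]
    exact pp.Ks_le hy
  rw [pp.ti g hgM, Subgroup.mem_bot] at h1
  exact hy1 h1

theorem card_K_sup_sigmaCore [Finite G] (pp : PPair M K) :
    Nat.card (K ⊔ Cfsg.sigmaCore M : Subgroup G) = Nat.card K * Nat.card (Cfsg.sigmaCore M) := by
  have hKn : K ≤ normalizer ((Cfsg.sigmaCore M : Subgroup G) : Set G) :=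
    pp.K_le.trans (le_normalizer_sigmaCore M)
  have h := Cfsg.Agent.Helper50.card_sup_mul_card_inf_of_le_normalizer (Cfsg.sigmaCore M) K hKn
  have hdisj : Cfsg.sigmaCore M ⊓ K = ⊥ := by rw [inf_comm]; exact pp.K_inf_sigmaCore
  rw [hdisj, Subgroup.card_bot, mul_one] at h
  rw [sup_comm, h, mul_comm]

theorem card_eq [Finite G] (pp : PPair M K) {U : Subgroup G}
    (hU : Cfsg.IsPiHallOf {q | q.Prime ∧ q ∉ Cfsg.kappa M ∧ q ∉ Cfsg.sigma M} U M) :
    Nat.card M = Nat.card U * (Nat.card K * Nat.card (Cfsg.sigmaCore M)) := by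
  have h := isComplIn_of_hall pp.hall pp.sHall hU
  rw [Cfsg.Agent.Helper23.card_of_isComplIn h, pp.card_K_sup_sigmaCore]

/-- `K* ≠ 1`, from the definition of `κ(M)` and the prime action of `K`. -/
theorem Ks_ne_bot [Finite G] (pp : PPair M K) : Ks M K ≠ ⊥ := by
  have hc : Nat.card K ≠ 1 := fun h => pp.ne (Subgroup.card_eq_one.mp h)
  obtain ⟨p, hp, hpd⟩ := Nat.exists_prime_and_dvd hc
  have := Fact.mk hp
  have hpκ : p ∈ Cfsg.kappa M := pp.hall.2.1 p hp hpd
  obtain ⟨T, hT⟩ := exists_isSylIn (p := p) K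
  have hTM : IsSylIn p T M := by
    refine ⟨hT.1.trans pp.K_le, hT.2.1, ?_⟩
    rw [← Subgroup.relIndex_mul_relIndex T K M hT.1 pp.K_le]
    intro h
    rcases (Nat.Prime.dvd_mul hp).mp h with h | h
    · exact hT.2.2 h
    · exact pp.hall.2.2 p hp hpκ h
  obtain ⟨-, -, -, hκ⟩ := hpκ
  obtain ⟨-, x, hxP, hx1, y, hy, hy1, hxy⟩ := hκ hTM.toSylow
  have hxT : (x : G) ∈ T := by
    have : x ∈ T.subgroupOf M := hxP
    exact Subgroup.mem_subgroupOf.mp this
  have hxK : (x : G) ∈ K := hT.1 hxT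
  have hx1' : (x : G) ≠ 1 := fun h => hx1 (Subtype.ext h)
  have hyKs : y ∈ Ks M K := by
    rw [← pp.prim _ hxK hx1']
    exact Subgroup.mem_inf.mpr ⟨hy, Subgroup.mem_centralizer_singleton_iff.mpr hxy.symm⟩
  intro h
  rw [h, Subgroup.mem_bot] at hyKs
  exact hy1 hyKs

end PPair

theorem isCyclic_of_le {A B : Subgroup G} (hB : IsCyclic B) (h : A ≤ B) : IsCyclic A := by
  have h4 : IsCyclic ↥(A.subgroupOf B) := inferInstance
  exact (Subgroup.subgroupOfEquivOfLe h).isCyclic.mp h4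

/-- `q`-subgroups of a maximal subgroup are cyclic when `q ∈ κ`. -/
theorem isCyclic_of_kappa [Finite G] {Mstar A : Subgroup G} {q : ℕ} (hq : q ∈ Cfsg.kappa Mstar)
    (hA : A ≤ Mstar) (hAp : IsPGroup q A) : IsCyclic A := by
  have := Fact.mk hq.1
  obtain ⟨T, hT, hAT⟩ := exists_isSylIn_ge hAp hA
  have h1 : IsCyclic ↥(hT.toSylow : Subgroup Mstar) := (hq.2.2.2 hT.toSylow).1
  have h2 : IsCyclic ↥(T.subgroupOf Mstar) := h1
  have h3 : IsCyclic ↥T := (Subgroup.subgroupOfEquivOfLe hT.1).isCyclic.mp h2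
  exact isCyclic_of_le h3 hAT

/-- `q`-subgroups of a Hall `κ(M*)`-subgroup of `M*` are cyclic. -/
theorem isCyclic_of_hall_kappa [Finite G] {Mstar H : Subgroup G}
    (hH : Cfsg.IsPiHallOf (Cfsg.kappa Mstar) H Mstar) (q : ℕ) (A : Subgroup G) (hq : q.Prime)
    (hA : A ≤ H) (hAp : IsPGroup q A) : IsCyclic A := by
  by_cases hA1 : A = ⊥
  · subst hA1
    exact isCyclic_of_subsingleton
  · have hqA : q ∣ Nat.card A := by
      have := Fact.mk hq
      obtain ⟨n, hn⟩ := (IsPGroup.iff_card).mp hAp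
      rcases Nat.eq_zero_or_pos n with h0 | hpos
      · rw [h0, pow_zero] at hn
        exact absurd (Subgroup.card_eq_one.mp hn) hA1
      · rw [hn]; exact dvd_pow_self q hpos.ne'
    have hqκ : q ∈ Cfsg.kappa Mstar := hH.2.1 q hq (hqA.trans (Subgroup.card_dvd_of_le hA))
    exact isCyclic_of_kappa hqκ (hA.trans hH.1) hAp

/-- **Lemma C** (B-G 14.2(c)): for a `P`-pair `(M,K)` and `X ≤ K*` of prime order,
`M` is the only maximal subgroup containing `C_G(X)`. -/
theorem lemmaC [Finite G] (hG : IsMinSimpleOddOrder G) {M K : Subgroup G} (pp : PPair M K)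
    (h1423 : ∀ (p : ℕ) [Fact p.Prime], p ∈ Cfsg.sigma M → ∀ X : Subgroup G, X ≤ M →
      Nat.card X = p → X ≤ ⁅Cfsg.sigmaCore M, Cfsg.sigmaCore M⁆ →
      (Subgroup.centralizer (X : Set G) ≤ M ∧
        ∀ L : Subgroup G, IsCoatom L → Subgroup.centralizer (X : Set G) ≤ L → L = M))
    (h1426 : ∀ E : Subgroup G, Cfsg.IsComplIn E (Cfsg.sigmaCore M) M →
      Cfsg.sigmaCore M ⊓ Subgroup.centralizer (E : Set G) ≤ ⁅Cfsg.sigmaCore M, Cfsg.sigmaCore M⁆)
    (h1429 : ¬ (∀ q : ℕ, q.Prime → q ∣ Nat.card M → q ∉ Cfsg.sigma M → q ∈ Cfsg.kappa M) →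
      ∀ (p : ℕ) [Fact p.Prime], p ∣ Nat.card M → p ∉ Cfsg.sigma M ∪ Cfsg.kappa M →
      ∀ S : Sylow p M,
        Cfsg.sigmaCore M ⊓ Subgroup.centralizer ((Subgroup.closure
          {x : G | x ∈ (S : Subgroup M).map M.subtype ∧ x ^ p = 1} : Subgroup G) : Set G) = ⊥ ∧
        Group.IsNilpotent (Cfsg.sigmaCore M))
    (hcyc : ∀ (q : ℕ) (A : Subgroup G), q.Prime → A ≤ Ks M K → IsPGroup q A → IsCyclic A)
    (X : Subgroup G) (hX : X ≤ Ks M K) (hXp : (Nat.card X).Prime) :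
    Subgroup.centralizer (X : Set G) ≤ M ∧
      ∀ L : Subgroup G, IsCoatom L → Subgroup.centralizer (X : Set G) ≤ L → L = M := by
  classical
  have hX1 : X ≠ ⊥ := by
    intro h; rw [h, Subgroup.card_bot] at hXp; exact Nat.not_prime_one hXp
  have hCM := pp.centralizer_le hX hX1
  refine ⟨hCM, ?_⟩
  obtain ⟨q, hq⟩ : ∃ q, q = Nat.card X := ⟨_, rfl⟩
  rw [← hq] at hXp
  have : Fact q.Prime := ⟨hXp⟩
  have hXN : X ≤ Cfsg.sigmaCore M := hX.trans inf_le_left
  have hqσ : q ∈ Cfsg.sigma M := by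
    apply isPi_sigmaCore M q hXp
    rw [hq]; exact Subgroup.card_dvd_of_le hXN
  obtain ⟨U, hUc, hUH, hKU, hUreg⟩ := pp.exU
  have hcard := pp.card_eq hUH
  by_cases hP1 : ∀ r : ℕ, r.Prime → r ∣ Nat.card M → r ∉ Cfsg.sigma M → r ∈ Cfsg.kappa M
  · -- Case 1: `K` is a complement of `M_σ`
    have hU1 : Nat.card U = 1 := by
      by_contra hne
      obtain ⟨r, hr, hrd⟩ := Nat.exists_prime_and_dvd hne
      have hrπ := hUH.2.1 r hr hrd
      have hrM : r ∣ Nat.card M := hrd.trans (Subgroup.card_dvd_of_le hUH.1)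
      exact hrπ.2.1 (hP1 r hr hrM hrπ.2.2)
    rw [hU1, one_mul] at hcard
    have hcompl : Cfsg.IsComplIn K (Cfsg.sigmaCore M) M :=
      isComplIn_of_card pp.K_le (sigmaCore_le M) pp.K_inf_sigmaCore hcard.symm
    have hle := h1426 K hcompl
    exact (h1423 q hqσ X (hXN.trans (sigmaCore_le M)) hq.symm (hX.trans hle)).2
  · -- Case 2: `M_σ` nilpotent
    have hP1' := hP1
    push Not at hP1'
    obtain ⟨s, hs, hsM, hsσ, hsκ⟩ := hP1'
    have : Fact s.Prime := ⟨hs⟩
    have hsU : s ∣ Nat.card U := by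
      rw [hcard] at hsM
      rcases (Nat.Prime.dvd_mul hs).mp hsM with h | h
      · exact h
      · exfalso
        rcases (Nat.Prime.dvd_mul hs).mp h with h | h
        · exact hsκ (pp.hall.2.1 s hs h)
        · exact hsσ (isPi_sigmaCore M s hs h)
    obtain ⟨T, hT⟩ := exists_isSylIn (p := s) U
    have hTM : IsSylIn s T M := by
      refine ⟨hT.1.trans hUH.1, hT.2.1, ?_⟩
      rw [← Subgroup.relIndex_mul_relIndex T U M hT.1 hUH.1]
      intro h
      rcases (Nat.Prime.dvd_mul hs).mp h with h | h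
      · exact hT.2.2 h
      · exact hUH.2.2 s hs ⟨hs, hsκ, hsσ⟩ h
    have hsM' : s ∣ Nat.card M := hsU.trans (Subgroup.card_dvd_of_le hUH.1)
    obtain ⟨hCA, hnil⟩ := h1429 hP1 s hsM'
      (by simp only [Set.mem_union, not_or]; exact ⟨hsσ, hsκ⟩) hTM.toSylow
    have hmap : (hTM.toSylow : Subgroup M).map M.subtype = T := by
      rw [hTM.coe_toSylow]; exact Subgroup.map_subgroupOf_eq_of_le hTM.1
    have hCU : Cfsg.sigmaCore M ⊓ centralizer (U : Set G) = ⊥ := by
      apply le_antisymm _ bot_le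
      rw [← hCA]
      apply inf_le_inf_left
      apply Subgroup.centralizer_le
      have hcl : closure {x : G | x ∈ (hTM.toSylow : Subgroup M).map M.subtype ∧ x ^ s = 1} ≤ U := by
        rw [Subgroup.closure_le]
        intro y hy
        have h1 := hy.1
        rw [hmap] at h1
        exact hT.1 h1
      exact hcl
    -- the normal Sylow `q`-subgroup `Q` of `M_σ`
    have : Group.IsNilpotent ↥(Cfsg.sigmaCore M) := hnil
    obtain ⟨P⟩ : Nonempty (Sylow q ↥(Cfsg.sigmaCore M)) := inferInstance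
    have hPn : (P : Subgroup ↥(Cfsg.sigmaCore M)).Normal := inferInstance
    obtain ⟨Q, hQ⟩ : ∃ Q : Subgroup G,
        Q = (P : Subgroup ↥(Cfsg.sigmaCore M)).map (Cfsg.sigmaCore M).subtype := ⟨_, rfl⟩
    have hQS : IsSylIn q Q (Cfsg.sigmaCore M) := by
      rw [hQ]; exact isSylIn_of_sylow (Cfsg.sigmaCore M) P
    have hNQ : Cfsg.sigmaCore M ≤ normalizer (Q : Set G) := by
      rw [hQ]; exact le_normalizer_map_subtype (Cfsg.sigmaCore M) (P : Subgroup _)
    have hQmax : ∀ A : Subgroup G, A ≤ Cfsg.sigmaCore M → IsPGroup q A → A ≤ Q := by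
      intro A hA hAp
      obtain ⟨x, hx, hle⟩ := hQS.exists_conj_le hAp hA
      have h2 : MulAut.conj x⁻¹ • Q = Q :=
        smul_eq_of_mem_normalizer (hNQ (inv_mem hx))
      rw [conj_smul_le_iff_le_inv, h2] at hle
      exact hle
    have hXq : IsPGroup q X := IsPGroup.of_card (n := 1) (by rw [pow_one, hq])
    have hXQ : X ≤ Q := hQmax X hXN hXq
    have hMQ : M ≤ normalizer (Q : Set G) := by
      intro m hm
      rw [mem_normalizer_iff_smul_eq]
      have hmN : MulAut.conj m • Cfsg.sigmaCore M = Cfsg.sigmaCore M :=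
        smul_eq_of_mem_normalizer (le_normalizer_sigmaCore M hm)
      have h1 := hQS.conj m
      rw [hmN] at h1
      have hle : MulAut.conj m • Q ≤ Q := hQmax _ h1.1 h1.2.1
      exact (h1.eq_of_le hQS.2.1 hQS.1 hle).symm
    obtain ⟨W, hW⟩ : ∃ W : Subgroup G, W = Q ⊓ centralizer (Q : Set G) := ⟨_, rfl⟩
    have hWQ : W ≤ Q := by rw [hW]; exact inf_le_left
    have hWN : W ≤ Cfsg.sigmaCore M := hWQ.trans hQS.1
    have hWq : IsPGroup q W := hQS.2.1.to_le hWQ
    have hMW : M ≤ normalizer (W : Set G) := by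
      intro m hm
      have h1 : MulAut.conj m • Q = Q := smul_eq_of_mem_normalizer (hMQ hm)
      rw [mem_normalizer_iff_smul_eq, hW, conj_smul_inf, ← centralizer_conj_smul, h1]
    have hQ1 : Q ≠ ⊥ := fun h => hX1 (le_bot_iff.mp (h ▸ hXQ))
    have hW1 : W ≠ ⊥ := by
      have : Nontrivial ↥Q := (Subgroup.nontrivial_iff_ne_bot Q).mpr hQ1
      have hQp : IsPGroup q ↥Q := hQS.2.1
      have := hQp.center_nontrivial
      obtain ⟨z, hz1⟩ := exists_ne (1 : ↥(Subgroup.center ↥Q))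
      have hzW : ((z : ↥Q) : G) ∈ W := by
        rw [hW]
        refine Subgroup.mem_inf.mpr ⟨(z : ↥Q).2, ?_⟩
        rw [Subgroup.mem_centralizer_iff]
        intro h hh
        have := (Subgroup.mem_center_iff.mp z.2) ⟨h, hh⟩
        exact congrArg Subtype.val this
      intro hbot
      rw [hbot, Subgroup.mem_bot] at hzW
      apply hz1
      apply Subtype.ext
      apply Subtype.ext
      simpa using hzW
    have hU1 : U ≠ ⊥ := by
      intro h
      rw [h, Subgroup.card_bot] at hsU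
      exact hs.one_lt.ne' (Nat.dvd_one.mp hsU)
    have hUK : U ⊓ K = ⊥ := by
      refine (Subgroup.disjoint_of_coprime_natCard ?_).eq_bot
      apply Nat.coprime_of_dvd
      intro r hr h1 h2
      exact (hUH.2.1 r hr h1).2.1 (pp.hall.2.1 r hr h2)
    have hUKM : U ⊔ K ≤ M := sup_le hUH.1 pp.K_le
    have hsolv : Group.IsSolvable ↥(U ⊔ K) :=
      solvable_of_ne_top hG (ne_top_of_le_ne_top pp.coatom.1 hUKM)
    have hodd : Odd (Nat.card ↥(U ⊔ K)) := odd_card_subgroup hG _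
    have hWnil : Group.IsNilpotent ↥W := hWq.isNilpotent
    have hcop : (Nat.card ↥(U ⊔ K)).Coprime (Nat.card W) := by
      have hdvd := Cfsg.Agent.Helper50.card_sup_dvd_of_le_normalizer U K hKU
      apply Nat.Coprime.coprime_dvd_left hdvd
      obtain ⟨n, hn⟩ := (IsPGroup.iff_card).mp hWq
      rw [hn]
      apply Nat.Coprime.pow_right
      rw [Nat.coprime_comm, Nat.Prime.coprime_iff_not_dvd hXp]
      intro h
      rcases (Nat.Prime.dvd_mul hXp).mp h with h | h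
      · exact (hUH.2.1 q hXp h).2.2 hqσ
      · exact not_mem_sigma_of_mem_kappa (pp.hall.2.1 q hXp h) hqσ
    have hCW : W ⊓ centralizer (U : Set G) = ⊥ := by
      apply le_antisymm _ bot_le
      rw [← hCU]
      exact inf_le_inf_right _ hWN
    have hpr : ∀ x ∈ K, x ≠ 1 →
        W ⊓ centralizer ({x} : Set G) = W ⊓ centralizer (K : Set G) := by
      intro x hx hx1
      have e1 : W ⊓ centralizer ({x} : Set G)
          = W ⊓ (Cfsg.sigmaCore M ⊓ centralizer ({x} : Set G)) := by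
        rw [← inf_assoc, inf_eq_left.mpr hWN]
      have e2 : W ⊓ centralizer (K : Set G)
          = W ⊓ (Cfsg.sigmaCore M ⊓ centralizer (K : Set G)) := by
        rw [← inf_assoc, inf_eq_left.mpr hWN]
      rw [e1, e2, pp.prim x hx hx1]
    obtain ⟨-, hcardW, -⟩ := Cfsg.Agent.S1446.result (X := G) U K W hU1 pp.ne hUK hKU hUreg
      hsolv hodd hW1 hWnil (hUH.1.trans hMW) (pp.K_le.trans hMW) hcop hCW hpr
    have hY1 : W ⊓ centralizer (K : Set G) ≠ ⊥ := by
      intro h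
      rw [h, Subgroup.card_bot, one_pow] at hcardW
      exact hW1 (Subgroup.card_eq_one.mp hcardW)
    -- an element of order `q` in `Y = C_W(K)`
    have hYq : IsPGroup q ↥(W ⊓ centralizer (K : Set G)) := hWq.to_le inf_le_left
    have hqY : q ∣ Nat.card ↥(W ⊓ centralizer (K : Set G)) := by
      obtain ⟨n, hn⟩ := (IsPGroup.iff_card).mp hYq
      rcases Nat.eq_zero_or_pos n with h0 | hpos
      · rw [h0, pow_zero] at hn
        exact absurd (Subgroup.card_eq_one.mp hn) hY1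
      · rw [hn]; exact dvd_pow_self q hpos.ne'
    obtain ⟨y, hy⟩ := exists_prime_orderOf_dvd_card' q hqY
    have hyW : (y : G) ∈ W := (Subgroup.mem_inf.mp y.2).1
    have hyC : (y : G) ∈ centralizer (K : Set G) := (Subgroup.mem_inf.mp y.2).2
    have hyo : orderOf (y : G) = q := by rw [Subgroup.orderOf_coe]; exact hy
    have hX'card : Nat.card (zpowers (y : G)) = q := by rw [Nat.card_zpowers, hyo]
    have hC : IsCyclic ↥(Ks M K ⊓ Q) :=
      hcyc q _ hXp inf_le_left (hQS.2.1.to_le inf_le_right)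
    have hXX' : X = zpowers (y : G) := by
      have := hC
      apply Cfsg.Agent.Helper76.EqOrd.eq_of_card_eq_of_le_isCyclic (Ks M K ⊓ Q) X (zpowers (y : G))
        (le_inf hX hXQ)
      · rw [Subgroup.zpowers_le]
        exact Subgroup.mem_inf.mpr ⟨Subgroup.mem_inf.mpr ⟨hWN hyW, hyC⟩, hWQ hyW⟩
      · rw [hX'card, hq]
    have hXW : X ≤ W := by
      rw [hXX', Subgroup.zpowers_le]; exact hyW
    have hQC : Q ≤ centralizer (X : Set G) := by
      intro g hg
      rw [Subgroup.mem_centralizer_iff]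
      intro x hx
      have hxW := hXW hx
      rw [hW] at hxW
      have := (Subgroup.mem_centralizer_iff.mp (Subgroup.mem_inf.mp hxW).2) g hg
      exact this.symm
    intro L hL hCL
    have hqKs : q ∣ Nat.card ↥(Ks M K) := by rw [hq]; exact Subgroup.card_dvd_of_le hX
    obtain ⟨hUniq, hQM, -⟩ := pp.syl q hXp hqKs P
    rw [← hQ] at hUniq hQM
    exact uniq_eq_of_le hUniq pp.coatom hQM hL (hQC.trans hCL)

end Cfsg.Agent.Helper9.BG147
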