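import Mathlib
import Cfsg.Agent.Lib.Helper9.BG147a
import Cfsg.Agent.Lib.Helper25.BGNat
import Cfsg.Agent.S4043

/-!
# Bender–Glauberman Theorem 14.7 (core), part b: dual `P`-pairs, `M_σ ∩ M*_σ = 1`, `M ∩ M* = K K*`
-/

set_option autoImplicit false

namespace Cfsg.Agent.Helper9.BG147

open Subgroup Cfsg
open scoped Pointwise
open Cfsg.Agent.Helper33
open Cfsg.Agent.Helper34.BG
open Cfsg.Agent.Helper55.BGB

variable {G : Type*} [Group G]

/-- The symmetric hypothesis of B-G 14.7: `(M,K)` and `(M*,K*)` are `P`-pairs and `(K*)* = K`. -/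
structure Dual (M K Mstar : Subgroup G) : Prop where
  pp : PPair M K
  pp' : PPair Mstar (Ks M K)
  hKst : K = Ks Mstar (Ks M K)

theorem normalizer_inf_mem {A B : Subgroup G} {g : G} (hA : g ∈ normalizer (A : Set G))
    (hB : g ∈ normalizer (B : Set G)) : g ∈ normalizer ((A ⊓ B : Subgroup G) : Set G) := by
  rw [mem_normalizer_iff_smul_eq] at hA hB ⊢
  rw [conj_smul_inf, hA, hB]

/-- The commutator trick: if `y ∈ N₀` normalizes `T`, `T ≤ A ≤ N(N₀)` and `C_T(y) = 1`, then `T ≤ N₀`. -/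
theorem le_of_commutator_inj [Finite G] {T N0 A : Subgroup G} {y : G} (hTA : T ≤ A)
    (hAN : A ≤ normalizer (N0 : Set G)) (hyN : y ∈ N0) (hyT : y ∈ normalizer (T : Set G))
    (hC : T ⊓ centralizer ({y} : Set G) = ⊥) : T ≤ N0 := by
  have hmem : ∀ t : ↥T, (t : G) * y * (t : G)⁻¹ * y⁻¹ ∈ T ⊓ N0 := by
    intro t
    refine Subgroup.mem_inf.mpr ⟨?_, ?_⟩
    · have h1 : y * (t : G)⁻¹ * y⁻¹ ∈ T :=
        (Subgroup.mem_normalizer_iff.mp hyT _).mp (T.inv_mem t.2)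
      have h2 := T.mul_mem t.2 h1
      have e : (t : G) * (y * (t : G)⁻¹ * y⁻¹) = (t : G) * y * (t : G)⁻¹ * y⁻¹ := by group
      rwa [e] at h2
    · have h1 : (t : G) * y * (t : G)⁻¹ ∈ N0 :=
        (Subgroup.mem_normalizer_iff.mp (hAN (hTA t.2)) _).mp hyN
      exact N0.mul_mem h1 (N0.inv_mem hyN)
  have hinj : Function.Injective (fun t : ↥T =>
      (⟨(t : G) * y * (t : G)⁻¹ * y⁻¹, hmem t⟩ : ↥(T ⊓ N0))) := by
    intro t t' h
    have h1 : (t : G) * y * (t : G)⁻¹ * y⁻¹ = (t' : G) * y * (t' : G)⁻¹ * y⁻¹ :=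
      congrArg Subtype.val h
    have h2 : (t : G) * y * (t : G)⁻¹ = (t' : G) * y * (t' : G)⁻¹ := mul_right_cancel h1
    have h3 : (t' : G)⁻¹ * (t : G) ∈ T ⊓ centralizer ({y} : Set G) := by
      refine Subgroup.mem_inf.mpr ⟨T.mul_mem (T.inv_mem t'.2) t.2, ?_⟩
      rw [Subgroup.mem_centralizer_singleton_iff]
      calc (t' : G)⁻¹ * (t : G) * y = (t' : G)⁻¹ * ((t : G) * y * (t : G)⁻¹) * (t : G) := by group
        _ = (t' : G)⁻¹ * ((t' : G) * y * (t' : G)⁻¹) * (t : G) := by rw [h2]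
        _ = y * ((t' : G)⁻¹ * (t : G)) := by group
    rw [hC, Subgroup.mem_bot] at h3
    apply Subtype.ext
    have := inv_mul_eq_one.mp h3
    exact this.symm
  have hcard : Nat.card ↥T ≤ Nat.card ↥(T ⊓ N0) := Nat.card_le_card_of_injective _ hinj
  have heq : T ⊓ N0 = T := Subgroup.eq_of_le_of_card_ge inf_le_left hcard
  rw [← heq]
  exact inf_le_right

theorem isSylIn_top_of_hall [Finite G] {r : ℕ} {R N : Subgroup G} {π : Set ℕ} (hr : r.Prime)
    (hR : IsSylIn r R N) (hN : Cfsg.IsPiHall π N) (hrπ : r ∈ π) : IsSylIn r R ⊤ := by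
  refine ⟨le_top, hR.2.1, ?_⟩
  rw [Subgroup.relIndex_top_right, ← Subgroup.relIndex_mul_index hR.1]
  intro h
  rcases (Nat.Prime.dvd_mul hr).mp h with h | h
  · exact hR.2.2 h
  · exact hN.2 r hr hrπ h

namespace Dual

variable {M K Mstar : Subgroup G}

theorem symm (d : Dual M K Mstar) : Dual Mstar (Ks M K) M := by
  refine ⟨d.pp', ?_, ?_⟩
  · rw [← d.hKst]; exact d.pp
  · rw [← d.hKst]

theorem K_le_sigmaCore' (d : Dual M K Mstar) : K ≤ Cfsg.sigmaCore Mstar := by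
  intro k hk
  have := d.hKst ▸ hk
  exact this.1

theorem K_le' (d : Dual M K Mstar) : K ≤ Mstar := d.K_le_sigmaCore'.trans (sigmaCore_le Mstar)

theorem Ks_le' (d : Dual M K Mstar) : Ks M K ≤ Mstar := d.pp'.hall.1

theorem Z_le' (d : Dual M K Mstar) : K ⊔ Ks M K ≤ Mstar := sup_le d.K_le' d.Ks_le'

/-- `M*` is not conjugate to `M`. -/
theorem not_conj [Finite G] (d : Dual M K Mstar) (g : G) : MulAut.conj g • Mstar ≠ M := by
  intro h
  have hσ : Cfsg.sigma M = Cfsg.sigma Mstar := by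
    rw [← h]
    exact Cfsg.Agent.Helper25.BGNat.sigma_cj g Mstar
  have hc : Nat.card K ≠ 1 := fun h => d.pp.ne (Subgroup.card_eq_one.mp h)
  obtain ⟨p, hp, hpd⟩ := Nat.exists_prime_and_dvd hc
  have h1 : p ∉ Cfsg.sigma M := not_mem_sigma_of_mem_kappa (d.pp.hall.2.1 p hp hpd)
  have h2 : p ∈ Cfsg.sigma Mstar :=
    isPi_sigmaCore Mstar p hp (hpd.trans (Subgroup.card_dvd_of_le d.K_le_sigmaCore'))
  rw [hσ] at h1
  exact h1 h2

/-- `C_T(y) = 1` for `T = M_σ ∩ M*_σ` and `1 ≠ y ∈ K*`. -/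
theorem centralizer_T [Finite G] (d : Dual M K Mstar) {y : G} (hy : y ∈ Ks M K) (hy1 : y ≠ 1) :
    (Cfsg.sigmaCore M ⊓ Cfsg.sigmaCore Mstar) ⊓ centralizer ({y} : Set G) = ⊥ := by
  apply le_antisymm _ bot_le
  intro t ht
  obtain ⟨⟨ht1, ht2⟩, ht3⟩ := ht
  have h1 : t ∈ Cfsg.sigmaCore Mstar ⊓ centralizer ({y} : Set G) := ⟨ht2, ht3⟩
  rw [d.pp'.prim y hy hy1, ← d.hKst] at h1
  have h2 : t ∈ K ⊓ Cfsg.sigmaCore M := ⟨h1, ht1⟩
  rwa [d.pp.K_inf_sigmaCore] at h2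

/-- **(T)**: `M_σ ∩ M*_σ = 1`. -/
theorem sigma_inf_sigma [Finite G] (d : Dual M K Mstar)
    (h1414 : ∀ p : ℕ, p.Prime → p ∣ Nat.card M → p ∉ Cfsg.beta M →
      Cfsg.HasNormalPComplement p ↥(Cfsg.sigmaCore M))
    (h1403 : ∀ R : Subgroup G, R ≠ ⊤ → ¬ Cfsg.RankLE 1 R → ¬ Cfsg.RankLE 2 R →
      Cfsg.InUniqueMaximal R) :
    Cfsg.sigmaCore M ⊓ Cfsg.sigmaCore Mstar = ⊥ := by
  by_contra hne
  have hc : Nat.card ↥(Cfsg.sigmaCore M ⊓ Cfsg.sigmaCore Mstar) ≠ 1 :=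
    fun h => hne (Subgroup.card_eq_one.mp h)
  obtain ⟨r, hr, hrT⟩ := Nat.exists_prime_and_dvd hc
  have := Fact.mk hr
  have hrσ : r ∈ Cfsg.sigma M :=
    isPi_sigmaCore M r hr (hrT.trans (Subgroup.card_dvd_of_le inf_le_left))
  have hrσ' : r ∈ Cfsg.sigma Mstar :=
    isPi_sigmaCore Mstar r hr (hrT.trans (Subgroup.card_dvd_of_le inf_le_right))
  have hrM : r ∣ Nat.card M := hrσ.2.1
  by_cases hα : r ∈ Cfsg.alpha M
  · -- a Sylow `r`-subgroup of rank `≥ 3` lies in a unique maximal subgroup: `M*` conjugate to `M`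
    obtain ⟨A, hAM, hAe, hAc⟩ := exists_elemAb_of_not_pRankLE hα.2
    have hAr : IsPGroup r A := isElementaryAbelian_isPGroup hAe
    have hAN : A ≤ Cfsg.sigmaCore M := le_sigmaCore_of_isPGroup hr d.pp.sHall hrσ hAM hAr
    obtain ⟨R, hR, hAR⟩ := exists_isSylIn_ge hAr hAN
    have hRG : IsSylIn r R ⊤ := isSylIn_top_of_hall hr hR d.pp.sHallG hrσ
    obtain ⟨R', hR'⟩ := exists_isSylIn (p := r) (Cfsg.sigmaCore Mstar)
    have hR'G : IsSylIn r R' ⊤ := isSylIn_top_of_hall hr hR' d.pp'.sHallG hrσ'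
    obtain ⟨g, -, hg⟩ := hRG.exists_conj_eq hR'G
    have h1 : R ≤ M := hR.1.trans (sigmaCore_le M)
    have hRne : R ≠ ⊤ := ne_top_of_le_ne_top d.pp.coatom.1 h1
    have hAc1 : r ^ 1 < Nat.card A :=
      lt_of_le_of_lt (Nat.pow_le_pow_right hr.pos one_le_two) hAc
    have hU : Cfsg.InUniqueMaximal R :=
      h1403 R hRne (not_rankLE_of_elemAb hr hAR hAe hAc1) (not_rankLE_of_elemAb hr hAR hAe hAc)
    have h2 : R ≤ MulAut.conj g • Mstar := by
      rw [← hg]; exact conj_smul_le_conj_smul (hR'.1.trans (sigmaCore_le Mstar))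
    have h3 : MulAut.conj g • Mstar = M :=
      uniq_eq_of_le hU d.pp.coatom h1 (isCoatom_conj d.pp'.coatom g) h2
    exact d.not_conj g h3
  · have hβ : r ∉ Cfsg.beta M := fun h => hα h.1
    obtain ⟨N0, P0, -, -, hAN, -, hcop, -, -, hmem⟩ :=
      Cfsg.Agent.S4043.npc_data (Cfsg.sigmaCore M) (h1414 r hr hrM hβ)
    obtain ⟨⟨y, hy⟩, hy1⟩ := (Subgroup.ne_bot_iff_exists_ne_one).mp d.pp.Ks_ne_bot
    have hy1' : y ≠ 1 := fun h => hy1 (Subtype.ext h)
    have hyr : (orderOf y).Coprime r := by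
      rw [Nat.coprime_comm, Nat.Prime.coprime_iff_not_dvd hr]
      intro h
      have h2 : r ∣ Nat.card ↥(Ks M K) := h.trans (Subgroup.orderOf_dvd_natCard _ hy)
      exact not_mem_sigma_of_mem_kappa (d.pp'.hall.2.1 r hr h2) hrσ'
    have hyN0 : y ∈ N0 := hmem y hy.1 hyr
    have hyT : y ∈ normalizer ((Cfsg.sigmaCore M ⊓ Cfsg.sigmaCore Mstar : Subgroup G) : Set G) :=
      normalizer_inf_mem (le_normalizer_sigmaCore M (d.pp.Ks_le hy))
        (le_normalizer_sigmaCore Mstar (d.Ks_le' hy))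
    have hTN0 : Cfsg.sigmaCore M ⊓ Cfsg.sigmaCore Mstar ≤ N0 :=
      le_of_commutator_inj inf_le_left hAN hyN0 hyT (d.centralizer_T hy hy1')
    exact (Nat.Prime.coprime_iff_not_dvd hr).mp hcop.symm
      (hrT.trans (Subgroup.card_dvd_of_le hTN0))

/-- `(M ∩ M*) ∩ M_σ = K*`, given `(T)`. -/
theorem inf_inf_sigmaCore [Finite G] (d : Dual M K Mstar)
    (hT : Cfsg.sigmaCore M ⊓ Cfsg.sigmaCore Mstar = ⊥) :
    (M ⊓ Mstar) ⊓ Cfsg.sigmaCore M = Ks M K := by
  apply le_antisymm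
  · intro x hx
    obtain ⟨⟨hxM, hxMs⟩, hxN⟩ := hx
    refine Subgroup.mem_inf.mpr ⟨hxN, ?_⟩
    rw [Subgroup.mem_centralizer_iff]
    intro k hk
    have hc : x * k * x⁻¹ * k⁻¹ ∈ Cfsg.sigmaCore M ⊓ Cfsg.sigmaCore Mstar := by
      refine Subgroup.mem_inf.mpr ⟨?_, ?_⟩
      · have h2 : k * x⁻¹ * k⁻¹ ∈ Cfsg.sigmaCore M :=
          (Subgroup.mem_normalizer_iff.mp (le_normalizer_sigmaCore M (d.pp.K_le hk)) _).mp
            (inv_mem hxN)
        have h3 := mul_mem hxN h2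
        have e : x * (k * x⁻¹ * k⁻¹) = x * k * x⁻¹ * k⁻¹ := by group
        rwa [e] at h3
      · have hkN : k ∈ Cfsg.sigmaCore Mstar := d.K_le_sigmaCore' hk
        have h2 : x * k * x⁻¹ ∈ Cfsg.sigmaCore Mstar :=
          (Subgroup.mem_normalizer_iff.mp (le_normalizer_sigmaCore Mstar hxMs) _).mp hkN
        exact mul_mem h2 (inv_mem hkN)
    rw [hT, Subgroup.mem_bot] at hc
    have h1 : x * k * x⁻¹ = k := mul_inv_eq_one.mp hc
    have h2 : x * k = k * x := mul_inv_eq_iff_eq_mul.mp h1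
    exact h2.symm
  · exact le_inf (le_inf d.pp.Ks_le d.Ks_le') d.pp.Ks_le_sigmaCore

end Dual

theorem exists_prime_card_le [Finite G] {H : Subgroup G} (h : H ≠ ⊥) :
    ∃ X : Subgroup G, X ≤ H ∧ (Nat.card X).Prime := by
  have hc : Nat.card H ≠ 1 := fun h1 => h (Subgroup.card_eq_one.mp h1)
  obtain ⟨q, hq, hqd⟩ := Nat.exists_prime_and_dvd hc
  have := Fact.mk hq
  obtain ⟨y, hy⟩ := exists_prime_orderOf_dvd_card' q hqd
  refine ⟨zpowers (y : G), ?_, ?_⟩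
  · rw [Subgroup.zpowers_le]; exact y.2
  · rw [Nat.card_zpowers, Subgroup.orderOf_coe, hy]; exact hq

/-- Two commuting cyclic subgroups of coprime orders generate a cyclic subgroup. -/
theorem isCyclic_sup [Finite G] {A B : Subgroup G} (hA : IsCyclic A) (hB : IsCyclic B)
    (hcop : (Nat.card A).Coprime (Nat.card B)) (hcomm : ∀ a ∈ A, ∀ b ∈ B, a * b = b * a) :
    IsCyclic ↥(A ⊔ B) := by
  obtain ⟨a, ha⟩ := hA.exists_generator
  obtain ⟨b, hb⟩ := hB.exists_generator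
  have hoa : orderOf (a : G) = Nat.card A := by
    rw [Subgroup.orderOf_coe]; exact orderOf_eq_card_of_forall_mem_zpowers ha
  have hob : orderOf (b : G) = Nat.card B := by
    rw [Subgroup.orderOf_coe]; exact orderOf_eq_card_of_forall_mem_zpowers hb
  have hc : Commute (a : G) (b : G) := hcomm a a.2 b b.2
  have hoab : orderOf ((a : G) * (b : G)) = Nat.card A * Nat.card B := by
    rw [hc.orderOf_mul_eq_mul_orderOf_of_coprime (by rw [hoa, hob]; exact hcop), hoa, hob]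
  have hle : zpowers ((a : G) * (b : G)) ≤ A ⊔ B := by
    rw [Subgroup.zpowers_le]
    exact Subgroup.mul_mem_sup a.2 b.2
  have hBn : B ≤ normalizer (A : Set G) := by
    intro y hy
    rw [Subgroup.mem_normalizer_iff]
    intro x
    constructor
    · intro hx
      have : y * x * y⁻¹ = x := by rw [← hcomm x hx y hy, mul_inv_cancel_right]
      rwa [this]
    · intro hx
      have h1 := hcomm _ hx y hy
      have : x = y * x * y⁻¹ := by
        have h2 : y * x * y⁻¹ * y = y * (y * x * y⁻¹) := h1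
        have h3 : y * x = y * (y * x * y⁻¹) := by simpa using h2
        exact mul_left_cancel h3
      rw [this]; exact hx
  have hdvd := Cfsg.Agent.Helper50.card_sup_dvd_of_le_normalizer A B hBn
  have hcard : Nat.card ↥(A ⊔ B) ≤ Nat.card (zpowers ((a : G) * (b : G))) := by
    rw [Nat.card_zpowers, hoab]
    exact Nat.le_of_dvd (Nat.mul_pos Nat.card_pos Nat.card_pos) hdvd
  have heq : zpowers ((a : G) * (b : G)) = A ⊔ B := Subgroup.eq_of_le_of_card_ge hle hcard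
  rw [← heq]
  infer_instance

namespace Dual

variable {M K Mstar : Subgroup G}

/-- **(D)**: `M ∩ M* = K K*`, given `(T)`. -/
theorem inf_eq [Finite G] (d : Dual M K Mstar)
    (hT : Cfsg.sigmaCore M ⊓ Cfsg.sigmaCore Mstar = ⊥) : M ⊓ Mstar = K ⊔ Ks M K := by
  apply le_antisymm
  · have hnorm : M ⊓ Mstar ≤ normalizer ((Ks M K : Subgroup G) : Set G) := by
      intro g hg
      rw [← d.inf_inf_sigmaCore hT]
      exact normalizer_inf_mem (Subgroup.le_normalizer hg) (le_normalizer_sigmaCore M hg.1)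
    obtain ⟨X, hX, hXp⟩ := exists_prime_card_le d.pp.Ks_ne_bot
    have h2 := (d.pp'.norm X hX hXp).2.1
    rw [← d.hKst] at h2
    have h3 : M ⊓ Mstar ≤ Mstar ⊓ normalizer ((Ks M K : Subgroup G) : Set G) :=
      le_inf inf_le_right hnorm
    rw [h2, sup_comm] at h3
    exact h3
  · exact sup_le (le_inf d.pp.K_le d.K_le') (le_inf d.pp.Ks_le d.Ks_le')

theorem coprime_card [Finite G] (d : Dual M K Mstar) :
    (Nat.card K).Coprime (Nat.card ↥(Ks M K)) := by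
  apply Nat.coprime_of_dvd
  intro r hr h1 h2
  exact not_mem_sigma_of_mem_kappa (d.pp.hall.2.1 r hr h1)
    (isPi_sigmaCore M r hr (h2.trans (Subgroup.card_dvd_of_le d.pp.Ks_le_sigmaCore)))

theorem isCyclic_Z [Finite G] (d : Dual M K Mstar) (hK : IsCyclic K) (hKs : IsCyclic ↥(Ks M K)) :
    IsCyclic ↥(K ⊔ Ks M K) :=
  isCyclic_sup hK hKs d.coprime_card (fun _ hk _ hy => d.pp.comm hk hy)

end Dual

end Cfsg.Agent.Helper9.BG147
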