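import Mathlib
import Cfsg.Agent.Lib.Helper9.BG147b
import Cfsg.Agent.Lib.Helper55.BGCyclic

/-!
# Bender–Glauberman Theorem 14.7 (core), part c: `κ(M) = τ₁(M)`, `K*` Hall `σ(M)` in `M*`,
centralizers of elements of `K K*`.
-/

set_option autoImplicit false

namespace Cfsg.Agent.Helper9.BG147

open Subgroup Cfsg
open scoped Pointwise
open Cfsg.Agent.Helper33
open Cfsg.Agent.Helper34.BG
open Cfsg.Agent.Helper55.BGB

variable {G : Type*} [Group G]

theorem le_normalizer_of_comm {A B : Subgroup G} (hcomm : ∀ a ∈ A, ∀ b ∈ B, a * b = b * a) :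
    B ≤ normalizer (A : Set G) := by
  intro y hy
  rw [Subgroup.mem_normalizer_iff]
  intro x
  constructor
  · intro hx
    have : y * x * y⁻¹ = x := by rw [← hcomm x hx y hy, mul_inv_cancel_right]
    rwa [this]
  · intro hx
    have h1 := hcomm _ hx y hy
    have : x = y * x * y⁻¹ := by
      have h2 : y * x * y⁻¹ * y = y * (y * x * y⁻¹) := h1
      have h3 : y * x = y * (y * x * y⁻¹) := by simpa using h2
      exact mul_left_cancel h3
    rw [this]; exact hx

/-- For commuting `x, y` of coprime orders, `x` is a power of `x * y`. -/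
theorem mem_zpowers_mul_of_coprime [Finite G] {x y : G} (hc : Commute x y)
    (hcop : (orderOf x).Coprime (orderOf y)) : x ∈ zpowers (x * y) := by
  have h1 : (x * y) ^ orderOf y = x ^ orderOf y := by
    rw [hc.mul_pow, pow_orderOf_eq_one, mul_one]
  have h2 : orderOf (x ^ orderOf y) = orderOf x := hcop.orderOf_pow
  have h3 : zpowers (x ^ orderOf y) ≤ zpowers x := by
    rw [Subgroup.zpowers_le]; exact Subgroup.pow_mem _ (Subgroup.mem_zpowers x) _
  have h4 : zpowers (x ^ orderOf y) = zpowers x := by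
    apply Subgroup.eq_of_le_of_card_ge h3
    rw [Nat.card_zpowers, Nat.card_zpowers, h2]
  have h5 : x ∈ zpowers (x ^ orderOf y) := by rw [h4]; exact Subgroup.mem_zpowers x
  have h6 : zpowers (x ^ orderOf y) ≤ zpowers (x * y) := by
    rw [Subgroup.zpowers_le, ← h1]; exact Subgroup.pow_mem _ (Subgroup.mem_zpowers _) _
  exact h6 h5

theorem commute_of_mem_zpowers {g a b : G} (h : g * a = a * g) (hb : b ∈ zpowers a) :
    g * b = b * g := by
  obtain ⟨k, rfl⟩ := Subgroup.mem_zpowers_iff.mp hb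
  exact (Commute.zpow_right (show Commute g a from h) k).eq

namespace PPair

variable {M K : Subgroup G}

/-- `M' ≤ M_σ U`. -/
theorem commutator_le [Finite G] (pp : PPair M K) (hKc : IsCyclic K) {U : Subgroup G}
    (hUH : Cfsg.IsPiHallOf {q | q.Prime ∧ q ∉ Cfsg.kappa M ∧ q ∉ Cfsg.sigma M} U M)
    (hKU : K ≤ normalizer (U : Set G)) : ⁅M, M⁆ ≤ Cfsg.sigmaCore M ⊔ U := by
  have hUN : U ≤ normalizer ((Cfsg.sigmaCore M : Subgroup G) : Set G) :=
    hUH.1.trans (le_normalizer_sigmaCore M)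
  have hKN : K ≤ normalizer ((Cfsg.sigmaCore M : Subgroup G) : Set G) :=
    pp.K_le.trans (le_normalizer_sigmaCore M)
  have hHM : Cfsg.sigmaCore M ⊔ U ≤ M := sup_le (sigmaCore_le M) hUH.1
  have hKH : K ≤ normalizer ((Cfsg.sigmaCore M ⊔ U : Subgroup G) : Set G) := by
    intro k hk
    exact normalizer_inf_normalizer_le_normalizer_sup _ _ (Subgroup.mem_inf.mpr ⟨hKN hk, hKU hk⟩)
  -- `M = (M_σ U) K`
  have hcopUK : (Nat.card U).Coprime (Nat.card K * Nat.card (Cfsg.sigmaCore M)) := by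
    apply Nat.coprime_of_dvd
    intro r hr h1 h2
    have hrπ := hUH.2.1 r hr h1
    rcases (Nat.Prime.dvd_mul hr).mp h2 with h | h
    · exact hrπ.2.1 (pp.hall.2.1 r hr h)
    · exact hrπ.2.2 (isPi_sigmaCore M r hr h)
  have hcopKN : (Nat.card K).Coprime (Nat.card (Cfsg.sigmaCore M)) := by
    apply Nat.coprime_of_dvd
    intro r hr h1 h2
    exact not_mem_sigma_of_mem_kappa (pp.hall.2.1 r hr h1) (isPi_sigmaCore M r hr h2)
  have hgen : Cfsg.sigmaCore M ⊔ U ⊔ K = M := by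
    have hle : Cfsg.sigmaCore M ⊔ U ⊔ K ≤ M := sup_le hHM pp.K_le
    apply Subgroup.eq_of_le_of_card_ge hle
    have h1 : Nat.card (Cfsg.sigmaCore M) ∣ Nat.card ↥(Cfsg.sigmaCore M ⊔ U ⊔ K) :=
      Subgroup.card_dvd_of_le (le_sup_left.trans le_sup_left)
    have h2 : Nat.card U ∣ Nat.card ↥(Cfsg.sigmaCore M ⊔ U ⊔ K) :=
      Subgroup.card_dvd_of_le (le_sup_right.trans le_sup_left)
    have h3 : Nat.card K ∣ Nat.card ↥(Cfsg.sigmaCore M ⊔ U ⊔ K) :=
      Subgroup.card_dvd_of_le le_sup_right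
    have h4 := hcopKN.mul_dvd_of_dvd_of_dvd h3 h1
    have h5 := hcopUK.mul_dvd_of_dvd_of_dvd h2 h4
    rw [← pp.card_eq hUH] at h5
    exact Nat.le_of_dvd Nat.card_pos h5
  have hMH : M ≤ normalizer ((Cfsg.sigmaCore M ⊔ U : Subgroup G) : Set G) := by
    intro m hm
    rw [← hgen] at hm
    exact (sup_le Subgroup.le_normalizer hKH :
      Cfsg.sigmaCore M ⊔ U ⊔ K ≤ normalizer ((Cfsg.sigmaCore M ⊔ U : Subgroup G) : Set G)) hm
  have hnormal : ((Cfsg.sigmaCore M ⊔ U).subgroupOf M).Normal :=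
    Subgroup.normal_subgroupOf_of_le_normalizer hMH
  have hsup : (Cfsg.sigmaCore M ⊔ U).subgroupOf M ⊔ K.subgroupOf M = ⊤ := by
    rw [← Subgroup.subgroupOf_sup hHM pp.K_le, hgen, Subgroup.subgroupOf_self]
  have hcomm : IsMulCommutative ↥(K.subgroupOf M) := by
    refine ⟨⟨fun a b => ?_⟩⟩
    apply Subtype.ext
    apply Subtype.ext
    exact commute_of_isCyclic hKc (Subgroup.mem_subgroupOf.mp a.2) (Subgroup.mem_subgroupOf.mp b.2)
  have key := Subgroup.Normal.commutator_le_of_self_sup_commutative_eq_top hsup hcomm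
  rw [← Subgroup.map_subtype_commutator]
  intro x hx
  obtain ⟨m, hm, rfl⟩ := hx
  exact Subgroup.mem_subgroupOf.mp (key hm)

end PPair

/-- Variant of the commutator trick with the commutators given in `N₀`. -/
theorem le_of_commutator_inj' [Finite G] {T N0 : Subgroup G} {y : G}
    (hmemN : ∀ t ∈ T, t * y * t⁻¹ * y⁻¹ ∈ N0) (hyT : y ∈ normalizer (T : Set G))
    (hC : T ⊓ centralizer ({y} : Set G) = ⊥) : T ≤ N0 := by
  have hmem : ∀ t : ↥T, (t : G) * y * (t : G)⁻¹ * y⁻¹ ∈ T ⊓ N0 := by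
    intro t
    refine Subgroup.mem_inf.mpr ⟨?_, hmemN t t.2⟩
    have h1 : y * (t : G)⁻¹ * y⁻¹ ∈ T :=
      (Subgroup.mem_normalizer_iff.mp hyT _).mp (T.inv_mem t.2)
    have h2 := T.mul_mem t.2 h1
    have e : (t : G) * (y * (t : G)⁻¹ * y⁻¹) = (t : G) * y * (t : G)⁻¹ * y⁻¹ := by group
    rwa [e] at h2
  have hinj : Function.Injective (fun t : ↥T =>
      (⟨(t : G) * y * (t : G)⁻¹ * y⁻¹, hmem t⟩ : ↥(T ⊓ N0))) := by
    intro t t' h
    have h1 : (t : G) * y * (t : G)⁻¹ * y⁻¹ = (t' : G) * y * (t' : G)⁻¹ * y⁻¹ :=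
      congrArg Subtype.val h
    have h2 : (t : G) * y * (t : G)⁻¹ = (t' : G) * y * (t' : G)⁻¹ := mul_right_cancel h1
    have h3 : (t' : G)⁻¹ * (t : G) ∈ T ⊓ centralizer ({y} : Set G) := by
      refine Subgroup.mem_inf.mpr ⟨T.mul_mem (T.inv_mem t'.2) t.2, ?_⟩
      rw [Subgroup.mem_centralizer_singleton_iff]
      calc (t' : G)⁻¹ * (t : G) * y = (t' : G)⁻¹ * ((t : G) * y * (t : G)⁻¹) * (t : G) := by group
        _ = (t' : G)⁻¹ * ((t' : G) * y * (t' : G)⁻¹) * (t : G) := by rw [h2]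
        _ = y * ((t' : G)⁻¹ * (t : G)) := by group
    rw [hC, Subgroup.mem_bot] at h3
    apply Subtype.ext
    have := inv_mul_eq_one.mp h3
    exact this.symm
  have hcard : Nat.card ↥T ≤ Nat.card ↥(T ⊓ N0) := Nat.card_le_card_of_injective _ hinj
  have heq : T ⊓ N0 = T := Subgroup.eq_of_le_of_card_ge inf_le_left hcard
  rw [← heq]
  exact inf_le_right

theorem prankLE_one_of_kappa [Finite G] {M : Subgroup G} {p : ℕ} (hp : p ∈ Cfsg.kappa M) :
    Cfsg.PRankLE p 1 ↥M := by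
  intro A _ hAe
  have := Fact.mk hp.1
  have hAp : IsPGroup p A := fun a => ⟨1, by
    rw [pow_one]; exact Subtype.ext (by simpa using hAe a.1 a.2)⟩
  obtain ⟨P, hAP⟩ := hAp.exists_le_sylow
  have hPc : IsCyclic ↥(P : Subgroup M) := (hp.2.2.2 P).1
  have hAcyc : IsCyclic ↥A := isCyclic_of_le hPc hAP
  obtain ⟨g, hg⟩ := hAcyc.exists_generator
  have h1 : orderOf g = Nat.card A := orderOf_eq_card_of_forall_mem_zpowers hg
  have h2 : g ^ p = 1 := Subtype.ext (by simpa using hAe g.1 g.2)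
  rw [pow_one, ← h1]
  exact Nat.le_of_dvd hp.1.pos (orderOf_dvd_of_pow_eq_one h2)

namespace PPair

variable {M K : Subgroup G}

/-- `κ(M) = τ₁(M)` for a `P`-pair with `K` cyclic. -/
theorem kappa_eq_tau1 [Finite G] (pp : PPair M K) (hKc : IsCyclic K) :
    Cfsg.kappa M = Cfsg.tau1 M := by
  obtain ⟨U, -, hUH, hKU, hUreg⟩ := pp.exU
  have hcl := pp.commutator_le hKc hUH hKU
  have hcard := pp.card_eq hUH
  ext p
  constructor
  · intro hp
    refine ⟨hp.1, hp.2.2.1, hp.2.1, ?_, prankLE_one_of_kappa hp⟩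
    intro hdvd
    have h1 : p ∣ Nat.card ↥(Cfsg.sigmaCore M ⊔ U) := hdvd.trans (Subgroup.card_dvd_of_le hcl)
    have h2 := Cfsg.Agent.Helper50.card_sup_dvd_of_le_normalizer (Cfsg.sigmaCore M) U
      (hUH.1.trans (le_normalizer_sigmaCore M))
    rcases (Nat.Prime.dvd_mul hp.1).mp (h1.trans h2) with h | h
    · exact hp.2.2.1 (isPi_sigmaCore M p hp.1 h)
    · exact (hUH.2.1 p hp.1 h).2.1 hp
  · rintro ⟨hp, hpσ, hpM, hpM', -⟩
    have hpK : p ∣ Nat.card K := by
      rw [hcard] at hpM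
      rcases (Nat.Prime.dvd_mul hp).mp hpM with h | h
      · exfalso
        apply hpM'
        obtain ⟨⟨k, hk⟩, hk1⟩ := (Subgroup.ne_bot_iff_exists_ne_one).mp pp.ne
        have hk1' : k ≠ 1 := fun h => hk1 (Subtype.ext h)
        have hUM' : U ≤ ⁅M, M⁆ := by
          apply le_of_commutator_inj' _ (hKU hk) (hUreg k hk hk1')
          intro t ht
          exact Subgroup.commutator_mem_commutator (hUH.1 ht) (pp.K_le hk)
        exact h.trans (Subgroup.card_dvd_of_le hUM')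
      · rcases (Nat.Prime.dvd_mul hp).mp h with h | h
        · exact h
        · exact absurd (isPi_sigmaCore M p hp h) hpσ
    exact pp.hall.2.1 p hp hpK

end PPair

namespace Dual

variable {M K Mstar : Subgroup G}

/-- A `K*`-invariant subgroup of `M*` of order prime to `#K*` has order prime to every
`p ∈ σ(M)` not dividing `#K*`. -/
theorem not_dvd_card_of_invariant [Finite G] (hG : IsMinSimpleOddOrder G) (d : Dual M K Mstar)
    (hT : Cfsg.sigmaCore M ⊓ Cfsg.sigmaCore Mstar = ⊥) {V : Subgroup G} (hVM : V ≤ Mstar)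
    (hVn : Ks M K ≤ normalizer (V : Set G))
    (hcop : (Nat.card ↥(Ks M K)).Coprime (Nat.card V)) {p : ℕ} (hp : p.Prime)
    (hpσ : p ∈ Cfsg.sigma M) (hpK : ¬ p ∣ Nat.card ↥(Ks M K)) : ¬ p ∣ Nat.card V := by
  intro hpV
  have := Fact.mk hp
  have hsolv : Group.IsSolvable ↥(Ks M K) ∨ Group.IsSolvable ↥V :=
    Or.inr (solvable_of_ne_top hG (ne_top_of_le_ne_top d.pp'.coatom.1 hVM))
  obtain ⟨Q, hQV, hQc, hQn⟩ :=
    Cfsg.Agent.Helper52.exists_invariant_sylow (Ks M K) V hVn hcop hsolv p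
  have hY : Q ⊔ Ks M K ≤ Cfsg.sigmaCore M := by
    apply d.pp.sub
    · intro r hr hrd
      have h2 := Cfsg.Agent.Helper50.card_sup_dvd_of_le_normalizer Q (Ks M K) hQn
      rcases (Nat.Prime.dvd_mul hr).mp (hrd.trans h2) with h | h
      · rw [hQc, Cfsg.Agent.Helper52.sylCard] at h
        have := (Nat.prime_dvd_prime_iff_eq hr hp).mp (hr.dvd_of_dvd_pow h)
        rw [this]; exact hpσ
      · exact isPi_sigmaCore M r hr (h.trans (Subgroup.card_dvd_of_le d.pp.Ks_le_sigmaCore))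
    · rw [inf_eq_right.mpr le_sup_right]; exact d.pp.Ks_ne_bot
  have hQK : Q ≤ Ks M K := by
    rw [← d.inf_inf_sigmaCore hT]
    exact le_inf (le_inf ((le_sup_left.trans hY).trans (sigmaCore_le M)) (hQV.trans hVM))
      (le_sup_left.trans hY)
  have h1 : Nat.card Q ∣ Nat.card ↥(Ks M K) := Subgroup.card_dvd_of_le hQK
  rw [hQc, Cfsg.Agent.Helper52.sylCard] at h1
  have hv : 0 < (Nat.card V).factorization p :=
    hp.factorization_pos_of_dvd Nat.card_pos.ne' hpV
  exact hpK ((dvd_pow_self p hv.ne').trans h1)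

/-- `K*` is a Hall `σ(M)`-subgroup of `M*`. -/
theorem hall_sigma [Finite G] (hG : IsMinSimpleOddOrder G) (d : Dual M K Mstar)
    (hT : Cfsg.sigmaCore M ⊓ Cfsg.sigmaCore Mstar = ⊥) :
    Cfsg.IsPiHallOf (Cfsg.sigma M) (Ks M K) Mstar := by
  refine ⟨d.Ks_le', fun p hp hpd => isPi_sigmaCore M p hp
    (hpd.trans (Subgroup.card_dvd_of_le d.pp.Ks_le_sigmaCore)), ?_⟩
  intro p hp hpσ hpidx
  by_cases hpK : p ∣ Nat.card ↥(Ks M K)
  · exact d.pp'.hall.2.2 p hp (d.pp'.hall.2.1 p hp hpK) hpidx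
  · obtain ⟨U, -, hUH, hKU, -⟩ := d.pp'.exU
    have hcard := d.pp'.card_eq hUH
    have hpM : p ∣ Nat.card Mstar := hpidx.trans (Subgroup.relIndex_dvd_card _ _)
    rw [hcard] at hpM
    rcases (Nat.Prime.dvd_mul hp).mp hpM with h | h
    · refine d.not_dvd_card_of_invariant hG hT hUH.1 hKU ?_ hp hpσ hpK h
      apply Nat.coprime_of_dvd
      intro r hr h1 h2
      exact (hUH.2.1 r hr h2).2.1 (d.pp'.hall.2.1 r hr h1)
    · rcases (Nat.Prime.dvd_mul hp).mp h with h | h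
      · exact hpK h
      · refine d.not_dvd_card_of_invariant hG hT (sigmaCore_le Mstar)
          (d.Ks_le'.trans (le_normalizer_sigmaCore Mstar)) ?_ hp hpσ hpK h
        apply Nat.coprime_of_dvd
        intro r hr h1 h2
        exact not_mem_sigma_of_mem_kappa (d.pp'.hall.2.1 r hr h1) (isPi_sigmaCore Mstar r hr h2)

end Dual

namespace PPair

variable {M K : Subgroup G}

/-- `C_M(x) = K K*` for `1 ≠ x ∈ K`. -/
theorem inf_centralizer_singleton [Finite G] (pp : PPair M K) (hKc : IsCyclic K) {x : G}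
    (hx : x ∈ K) (hx1 : x ≠ 1) : M ⊓ centralizer ({x} : Set G) = K ⊔ Ks M K := by
  apply le_antisymm
  · intro g hg
    have hzp : zpowers x ≠ ⊥ := by rwa [Ne, Subgroup.zpowers_eq_bot]
    obtain ⟨X, hXle, hXp⟩ := exists_prime_card_le hzp
    have hXK : X ≤ K := hXle.trans (by rw [Subgroup.zpowers_le]; exact hx)
    rw [← (pp.norm X hXK hXp).1]
    refine Subgroup.mem_inf.mpr ⟨hg.1, ?_⟩
    apply Subgroup.centralizer_le_normalizer
    rw [Subgroup.mem_centralizer_iff]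
    intro a ha
    have hgx : g * x = x * g := Subgroup.mem_centralizer_singleton_iff.mp hg.2
    exact (commute_of_mem_zpowers hgx (hXle ha)).symm
  · apply sup_le
    · intro k hk
      refine Subgroup.mem_inf.mpr ⟨pp.K_le hk, ?_⟩
      rw [Subgroup.mem_centralizer_singleton_iff]
      exact commute_of_isCyclic hKc hk hx
    · intro y hy
      refine Subgroup.mem_inf.mpr ⟨pp.Ks_le hy, ?_⟩
      rw [Subgroup.mem_centralizer_singleton_iff]
      exact (pp.comm hx hy).symm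

end PPair

namespace Dual

variable {M K Mstar : Subgroup G}

theorem mem_zpowers_mul [Finite G] (d : Dual M K Mstar) {x y : G} (hx : x ∈ K)
    (hy : y ∈ Ks M K) : x ∈ zpowers (x * y) ∧ y ∈ zpowers (x * y) := by
  have hc : Commute x y := d.pp.comm hx hy
  have hcop : (orderOf x).Coprime (orderOf y) :=
    Nat.Coprime.coprime_dvd_left (Subgroup.orderOf_dvd_natCard K hx)
      (Nat.Coprime.coprime_dvd_right (Subgroup.orderOf_dvd_natCard _ hy) d.coprime_card)
  refine ⟨mem_zpowers_mul_of_coprime hc hcop, ?_⟩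
  have := mem_zpowers_mul_of_coprime hc.symm hcop.symm
  rwa [← hc.eq] at this

/-- Elements of `Ẑ` are products `x y` with `1 ≠ x ∈ K`, `1 ≠ y ∈ K*`. -/
theorem mem_Zhat (d : Dual M K Mstar) {z : G}
    (hz : z ∈ ((↑(K ⊔ Ks M K) : Set G) \ ((K : Set G) ∪ ↑(Ks M K)))) :
    ∃ x ∈ K, x ≠ 1 ∧ ∃ y ∈ Ks M K, y ≠ 1 ∧ z = x * y := by
  obtain ⟨hzZ, hzn⟩ := hz
  have hn : K ≤ normalizer ((Ks M K : Subgroup G) : Set G) :=
    le_normalizer_of_comm (fun a ha b hb => (d.pp.comm hb ha).symm)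
  rw [Subgroup.coe_mul_of_left_le_normalizer_right K (Ks M K) hn] at hzZ
  obtain ⟨x, hx, y, hy, rfl⟩ := Set.mem_mul.mp hzZ
  refine ⟨x, hx, ?_, y, hy, ?_, rfl⟩
  · rintro rfl; apply hzn; right; simpa using hy
  · rintro rfl; apply hzn; left; simpa using hx

/-- `C_G(x y) = K K*`. -/
theorem centralizer_mul [Finite G] (d : Dual M K Mstar)
    (hT : Cfsg.sigmaCore M ⊓ Cfsg.sigmaCore Mstar = ⊥) (hKc : IsCyclic K)
    (hKsc : IsCyclic ↥(Ks M K)) {x y : G} (hx : x ∈ K) (hx1 : x ≠ 1) (hy : y ∈ Ks M K)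
    (hy1 : y ≠ 1) : centralizer ({x * y} : Set G) = K ⊔ Ks M K := by
  obtain ⟨hxz, hyz⟩ := d.mem_zpowers_mul hx hy
  apply le_antisymm
  · intro g hg
    have hg' : g * (x * y) = (x * y) * g := Subgroup.mem_centralizer_singleton_iff.mp hg
    have hgx := commute_of_mem_zpowers hg' hxz
    have hgy := commute_of_mem_zpowers hg' hyz
    rw [← d.inf_eq hT]
    refine Subgroup.mem_inf.mpr ⟨?_, ?_⟩
    · exact d.pp.centralizer_singleton_le hy hy1 (Subgroup.mem_centralizer_singleton_iff.mpr hgy)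
    · have hxK' : x ∈ Ks Mstar (Ks M K) := by rw [← d.hKst]; exact hx
      exact d.pp'.centralizer_singleton_le hxK' hx1
        (Subgroup.mem_centralizer_singleton_iff.mpr hgx)
  · have hZc := d.isCyclic_Z hKc hKsc
    intro z hz
    rw [Subgroup.mem_centralizer_singleton_iff]
    exact commute_of_isCyclic hZc hz
      (mul_mem ((le_sup_left : K ≤ K ⊔ Ks M K) hx) ((le_sup_right : Ks M K ≤ K ⊔ Ks M K) hy))

/-- `Ẑ ∩ M^g = ∅` for `g ∉ M`. -/
theorem Zhat_not_mem_conj [Finite G] (d : Dual M K Mstar) {g : G} (hg : g ∉ M) {z : G}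
    (hz : z ∈ ((↑(K ⊔ Ks M K) : Set G) \ ((K : Set G) ∪ ↑(Ks M K)))) :
    z ∉ M.map (MulAut.conj g).toMonoidHom := by
  obtain ⟨x, hx, -, y, hy, hy1, rfl⟩ := d.mem_Zhat hz
  intro hmem
  obtain ⟨-, hyz⟩ := d.mem_zpowers_mul hx hy
  have hyM : y ∈ M.map (MulAut.conj g).toMonoidHom :=
    (Subgroup.zpowers_le.mpr hmem) hyz
  have h1 : y ∈ Ks M K ⊓ M.map (MulAut.conj g).toMonoidHom := Subgroup.mem_inf.mpr ⟨hy, hyM⟩
  rw [d.pp.ti g hg, Subgroup.mem_bot] at h1
  exact hy1 h1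

end Dual

end Cfsg.Agent.Helper9.BG147
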