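import Mathlib
import Cfsg.Agent.Lib.Helper9.BG147c

/-!
# Bender–Glauberman Theorem 14.7 (core), part d: the count of the conjugates of `Ẑ`.
-/

set_option autoImplicit false

namespace Cfsg.Agent.Helper9.BG147

open Subgroup Cfsg
open scoped Pointwise
open Cfsg.Agent.Helper33
open Cfsg.Agent.Helper34.BG
open Cfsg.Agent.Helper55.BGB

variable {G : Type*} [Group G]

/-- Abstract count: if `Zh ⊆ Z`, `Z` abelian, and `h z h⁻¹ ∈ Zh` with `z ∈ Zh` forces `h ∈ Z`,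
then `#Z · #(⋃ conjugates of Zh) = #G · #Zh`. -/
theorem card_mul_ncard_conj [Finite G] (Z : Subgroup G) (Zh : Set G) (hZh : Zh ⊆ (Z : Set G))
    (hcomm : ∀ a ∈ Z, ∀ b ∈ Z, a * b = b * a)
    (hF : ∀ h : G, ∀ z ∈ Zh, h * z * h⁻¹ ∈ Zh → h ∈ Z) :
    Nat.card Z * Set.ncard {a : G | ∃ g : G, ∃ z ∈ Zh, a = g * z * g⁻¹}
      = Nat.card G * Set.ncard Zh := by
  classical
  obtain ⟨S, hS⟩ : ∃ S : Set G, S = {a : G | ∃ g : G, ∃ z ∈ Zh, a = g * z * g⁻¹} := ⟨_, rfl⟩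
  rw [← hS]
  have hSmem : ∀ a ∈ S, ∃ g : G, ∃ z ∈ Zh, a = g * z * g⁻¹ := by
    intro a ha; rw [hS] at ha; exact ha
  have hconj : ∀ h ∈ Z, ∀ z ∈ Zh, h * z * h⁻¹ = z := by
    intro h hh z hz
    rw [hcomm h hh z (hZh hz), mul_inv_cancel_right]
  have hconj2 : ∀ g : G, ∀ h ∈ Z, ∀ z ∈ Zh, (g * h) * z * (g * h)⁻¹ = g * z * g⁻¹ := by
    intro g h hh z hz
    have e : (g * h) * z * (g * h)⁻¹ = g * (h * z * h⁻¹) * g⁻¹ := by group
    rw [e, hconj h hh z hz]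
  choose! gf zf hzf using hSmem
  let φ : ↥Z × ↥S → G × ↥Zh :=
    fun p => (gf p.2.1 * p.1.1, ⟨zf p.2.1, (hzf p.2.1 p.2.2).1⟩)
  have hinj : Function.Injective φ := by
    rintro ⟨⟨h, hh⟩, ⟨a, ha⟩⟩ ⟨⟨h', hh'⟩, ⟨b, hb⟩⟩ heq
    simp only [φ, Prod.mk.injEq, Subtype.mk.injEq] at heq
    obtain ⟨h1, h2⟩ := heq
    have hab : a = b := by
      calc a = gf a * zf a * (gf a)⁻¹ := (hzf a ha).2
        _ = (gf a * h) * zf a * (gf a * h)⁻¹ := (hconj2 _ h hh _ (hzf a ha).1).symm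
        _ = (gf b * h') * zf b * (gf b * h')⁻¹ := by rw [h1, h2]
        _ = gf b * zf b * (gf b)⁻¹ := hconj2 _ h' hh' _ (hzf b hb).1
        _ = b := (hzf b hb).2.symm
    subst hab
    have hh2 : h = h' := mul_left_cancel h1
    subst hh2
    rfl
  have hsurj : Function.Surjective φ := by
    rintro ⟨g, ⟨z, hz⟩⟩
    have ha : g * z * g⁻¹ ∈ S := by rw [hS]; exact ⟨g, z, hz, rfl⟩
    obtain ⟨hza, hea⟩ := hzf _ ha
    set ga := gf (g * z * g⁻¹) with hga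
    set za := zf (g * z * g⁻¹) with hza'
    have e1 : (ga⁻¹ * g) * z * (ga⁻¹ * g)⁻¹ = za := by
      have : (ga⁻¹ * g) * z * (ga⁻¹ * g)⁻¹ = ga⁻¹ * (g * z * g⁻¹) * ga := by group
      rw [this, hea]
      group
    have hhZ : ga⁻¹ * g ∈ Z := hF _ z hz (by rw [e1]; exact hza)
    have e2 : za = z := by rw [← e1]; exact hconj _ hhZ z hz
    refine ⟨(⟨ga⁻¹ * g, hhZ⟩, ⟨g * z * g⁻¹, ha⟩), ?_⟩
    simp only [φ]
    refine Prod.ext ?_ ?_
    · simp only
      rw [← hga]; group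
    · apply Subtype.ext
      simp only
      rw [← hza', e2]
  have hcard := Nat.card_congr (Equiv.ofBijective φ ⟨hinj, hsurj⟩)
  rw [Nat.card_prod, Nat.card_prod, Nat.card_coe_set_eq, Nat.card_coe_set_eq] at hcard
  exact hcard

namespace Dual

variable {M K Mstar : Subgroup G}

theorem card_Z [Finite G] (d : Dual M K Mstar) :
    Nat.card ↥(K ⊔ Ks M K) = Nat.card K * Nat.card ↥(Ks M K) := by
  have hn : Ks M K ≤ normalizer (K : Set G) :=
    le_normalizer_of_comm (fun a ha b hb => d.pp.comm ha hb)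
  have h := Cfsg.Agent.Helper50.card_sup_mul_card_inf_of_le_normalizer K (Ks M K) hn
  rwa [d.pp.K_inf_Ks, Subgroup.card_bot, mul_one] at h

theorem ncard_Zhat [Finite G] (d : Dual M K Mstar) :
    Set.ncard ((↑(K ⊔ Ks M K) : Set G) \ ((K : Set G) ∪ ↑(Ks M K)))
      + (Nat.card K + Nat.card ↥(Ks M K)) = Nat.card K * Nat.card ↥(Ks M K) + 1 := by
  have hsub : ((K : Set G) ∪ ↑(Ks M K)) ⊆ (↑(K ⊔ Ks M K) : Set G) := by
    intro a ha
    rcases ha with ha | ha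
    · exact (le_sup_left : K ≤ K ⊔ Ks M K) ha
    · exact (le_sup_right : Ks M K ≤ K ⊔ Ks M K) ha
  have h1 := Set.ncard_sdiff_add_ncard_of_subset hsub
  have h2 := Set.ncard_union_add_ncard_inter (K : Set G) (↑(Ks M K))
  have h3 : ((K : Set G) ∩ ↑(Ks M K)) = {1} := by
    rw [← Subgroup.coe_inf, d.pp.K_inf_Ks, Subgroup.coe_bot]
  rw [h3, Set.ncard_singleton] at h2
  have e1 : Set.ncard (↑(K ⊔ Ks M K) : Set G) = Nat.card ↥(K ⊔ Ks M K) :=
    (Nat.card_coe_set_eq _).symm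
  have e2 : Set.ncard (K : Set G) = Nat.card K := (Nat.card_coe_set_eq _).symm
  have e3 : Set.ncard (↑(Ks M K) : Set G) = Nat.card ↥(Ks M K) := (Nat.card_coe_set_eq _).symm
  rw [e1, d.card_Z] at h1
  rw [e2, e3] at h2
  omega

theorem Zhat_symm (d : Dual M K Mstar) :
    ((↑(Ks M K ⊔ Ks Mstar (Ks M K)) : Set G) \ ((↑(Ks M K) : Set G) ∪ ↑(Ks Mstar (Ks M K))))
      = ((↑(K ⊔ Ks M K) : Set G) \ ((K : Set G) ∪ ↑(Ks M K))) := by
  rw [← d.hKst, sup_comm, Set.union_comm]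

/-- The count of B-G 14.7(e). -/
theorem count [Finite G] (hG : IsMinSimpleOddOrder G) (d : Dual M K Mstar)
    (hT : Cfsg.sigmaCore M ⊓ Cfsg.sigmaCore Mstar = ⊥) (hKc : IsCyclic K)
    (hKsc : IsCyclic ↥(Ks M K)) :
    Nat.card K * Nat.card ↥(Ks M K) * Set.ncard {a : G | ∃ g : G, ∃ z ∈
        ((↑(K ⊔ Ks M K) : Set G) \ ((K : Set G) ∪ ↑(Ks M K))), a = g * z * g⁻¹} =
      (Nat.card K * Nat.card ↥(Ks M K) - Nat.card K - Nat.card ↥(Ks M K) + 1) * Nat.card G ∧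
    Nat.card G < 2 * Set.ncard {a : G | ∃ g : G, ∃ z ∈
        ((↑(K ⊔ Ks M K) : Set G) \ ((K : Set G) ∪ ↑(Ks M K))), a = g * z * g⁻¹} := by
  have hZc := d.isCyclic_Z hKc hKsc
  have hF : ∀ h : G, ∀ z ∈ ((↑(K ⊔ Ks M K) : Set G) \ ((K : Set G) ∪ ↑(Ks M K))),
      h * z * h⁻¹ ∈ ((↑(K ⊔ Ks M K) : Set G) \ ((K : Set G) ∪ ↑(Ks M K))) →
      h ∈ K ⊔ Ks M K := by
    intro h z hz hz0
    rw [← d.inf_eq hT]
    refine Subgroup.mem_inf.mpr ⟨?_, ?_⟩
    · by_contra hne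
      apply d.Zhat_not_mem_conj hne hz0
      rw [map_conj_eq_smul]
      exact conj_mem_conj_smul (d.pp.Z_le hz.1)
    · by_contra hne
      have hz' := hz
      have hz0' := hz0
      rw [← d.Zhat_symm] at hz' hz0'
      apply d.symm.Zhat_not_mem_conj hne hz0'
      rw [map_conj_eq_smul]
      exact conj_mem_conj_smul (d.Z_le' hz.1)
  have hmain := card_mul_ncard_conj (K ⊔ Ks M K)
    ((↑(K ⊔ Ks M K) : Set G) \ ((K : Set G) ∪ ↑(Ks M K))) Set.sdiff_subset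
    (fun a ha b hb => commute_of_isCyclic hZc ha hb) hF
  rw [d.card_Z] at hmain
  have hzh := d.ncard_Zhat
  -- arithmetic
  have hk1 : Nat.card K ≠ 1 := fun h => d.pp.ne (Subgroup.card_eq_one.mp h)
  have hk'1 : Nat.card ↥(Ks M K) ≠ 1 := fun h => d.pp.Ks_ne_bot (Subgroup.card_eq_one.mp h)
  have hkodd : Odd (Nat.card K) := odd_card_subgroup hG K
  have hk'odd : Odd (Nat.card ↥(Ks M K)) := odd_card_subgroup hG _
  have hcop := d.coprime_card
  have hGpos : 0 < Nat.card G := Nat.card_pos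
  generalize Nat.card K = k at *
  generalize Nat.card ↥(Ks M K) = k' at *
  generalize Set.ncard ((↑(K ⊔ Ks M K) : Set G) \ ((K : Set G) ∪ ↑(Ks M K))) = zh at *
  generalize Set.ncard {a : G | ∃ g : G, ∃ z ∈
        ((↑(K ⊔ Ks M K) : Set G) \ ((K : Set G) ∪ ↑(Ks M K))), a = g * z * g⁻¹} = s at *
  generalize Nat.card G = n at *
  obtain ⟨a, ha⟩ := hkodd
  obtain ⟨b, hb⟩ := hk'odd
  have ha1 : 1 ≤ a := by omega
  have hb1 : 1 ≤ b := by omega
  have hne : k ≠ k' := by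
    intro h
    rw [← h, Nat.coprime_self] at hcop
    exact hk1 hcop
  have hab : a ≠ b := by omega
  have hkk : k + k' ≤ k * k' := by
    subst ha hb
    nlinarith
  have hzh' : k * k' - k - k' + 1 = zh := by
    generalize k * k' = P at *
    omega
  constructor
  · rw [hzh', hmain, mul_comm]
  · have h2 : k * k' < 2 * zh := by
      have hzh2 : zh = k * k' + 1 - k - k' := by
        generalize k * k' = P at *
        omega
      subst ha hb
      have hab2 : 2 ≤ a ∨ 2 ≤ b := by omega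
      have e : (2 * a + 1) * (2 * b + 1) + 1 - (2 * a + 1) - (2 * b + 1) = 4 * a * b := by
        have : (2 * a + 1) * (2 * b + 1) = 4 * a * b + 2 * a + 2 * b + 1 := by ring
        omega
      rw [hzh2, e]
      rcases hab2 with h | h <;> nlinarith
    have h3 : n * (k * k') < n * (2 * zh) := Nat.mul_lt_mul_of_pos_left h2 hGpos
    have h4 : n * (2 * zh) = 2 * (k * k' * s) := by rw [hmain]; ring
    have hpos : 0 < k * k' := by
      apply Nat.mul_pos <;> omega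
    by_contra hle
    push Not at hle
    have h5 : 2 * (k * k' * s) ≤ n * (k * k') := by
      have := Nat.mul_le_mul_left (k * k') hle
      nlinarith
    omega

end Dual

end Cfsg.Agent.Helper9.BG147
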