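import Mathlib
import Cfsg.Agent.Lib.Helper9.BG147d
import Cfsg.Agent.Lib.Helper52.CoprimeHall

/-!
# Bender–Glauberman Theorem 14.7 (core), part e: general tools for the existence of the partner `M*`

Hall dominance in solvable subgroups, the general form of `M_σ ∩ H_σ = 1`, `#K` prime when `M` is
not of type `P₁`, and the `TI` count for a non-abelian `Z`.
-/

set_option autoImplicit false

namespace Cfsg.Agent.Helper9.BG147

open Subgroup Cfsg
open scoped Pointwise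
open Cfsg.Agent.Helper33
open Cfsg.Agent.Helper34.BG
open Cfsg.Agent.Helper55.BGB

variable {G : Type*} [Group G]

/-- Hall dominance: a `π`-subgroup of a solvable subgroup lies in a Hall `π`-subgroup. -/
theorem exists_hall_ge [Finite G] {π : Set ℕ} {M Y : Subgroup G} (hs : Group.IsSolvable M)
    (hYM : Y ≤ M) (hY : ∀ p : ℕ, p.Prime → p ∣ Nat.card Y → p ∈ π) :
    ∃ J : Subgroup G, Cfsg.IsPiHallOf π J M ∧ Y ≤ J := by
  have hM0 : Nat.card M ≠ 0 := Nat.card_pos.ne'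
  have hmn := Cfsg.Agent.Helper52.piPart_mul_piPrimePart π hM0
  have hYn : (Nat.card Y).Coprime (Cfsg.Agent.Helper52.piPrimePart π (Nat.card M)) := by
    apply Nat.coprime_of_dvd
    intro q hq h1 h2
    exact Cfsg.Agent.Helper52.not_mem_of_prime_dvd_piPrimePart π hq h2 (hY q hq h1)
  obtain ⟨Q, hQM, hQc, hYQ, -⟩ := Cfsg.Agent.Helper52.exists_invariant_hall_ge
    (⊥ : Subgroup G) M Y bot_le (by rw [Subgroup.card_bot]; exact Nat.coprime_one_left _) hs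
    (Cfsg.Agent.Helper52.piPart π (Nat.card M)) (Cfsg.Agent.Helper52.piPrimePart π (Nat.card M))
    hmn.symm (Cfsg.Agent.Helper52.piPart_coprime π _) hYM bot_le hYn
  exact ⟨Q, (Cfsg.Agent.Helper52.isPiHallOf_iff_card π Q M).mpr ⟨hQM, hQc⟩, hYQ⟩

/-- Hall conjugacy/dominance: a `π`-subgroup of a solvable subgroup `M` lies in an `M`-conjugate of
any given Hall `π`-subgroup. -/
theorem exists_conj_ge_of_hall [Finite G] {π : Set ℕ} {M K Y : Subgroup G}
    (hs : Group.IsSolvable M) (hK : Cfsg.IsPiHallOf π K M)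
    (hYM : Y ≤ M) (hY : ∀ p : ℕ, p.Prime → p ∣ Nat.card Y → p ∈ π) :
    ∃ m ∈ M, Y ≤ K.map (MulAut.conj m).toMonoidHom := by
  obtain ⟨J, hJ, hYJ⟩ := exists_hall_ge hs hYM hY
  have hM0 : Nat.card M ≠ 0 := Nat.card_pos.ne'
  have hmn := Cfsg.Agent.Helper52.piPart_mul_piPrimePart π hM0
  have hKc := (Cfsg.Agent.Helper52.isPiHallOf_iff_card π K M).mp hK
  have hJc := (Cfsg.Agent.Helper52.isPiHallOf_iff_card π J M).mp hJ
  obtain ⟨k, hk, hJK⟩ := Cfsg.Agent.Helper52.hall_conj_internal M hs _ _ hmn.symm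
    (Cfsg.Agent.Helper52.piPart_coprime π _) K J hKc.1 hJc.1 hKc.2 hJc.2
  exact ⟨k, hk, hJK ▸ hYJ⟩

/-- Abstract count, non-abelian version: if `Zh ⊆ Z` is normalized by `Z` and `h z h⁻¹ ∈ Zh` with
`z ∈ Zh` forces `h ∈ Z`, then `#Z · #(⋃ conjugates of Zh) = #G · #Zh`. -/
theorem card_mul_ncard_conj' [Finite G] (Z : Subgroup G) (Zh : Set G)
    (hnorm : ∀ h ∈ Z, ∀ z ∈ Zh, h⁻¹ * z * h ∈ Zh)
    (hF : ∀ h : G, ∀ z ∈ Zh, h * z * h⁻¹ ∈ Zh → h ∈ Z) :
    Nat.card Z * Set.ncard {a : G | ∃ g : G, ∃ z ∈ Zh, a = g * z * g⁻¹}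
      = Nat.card G * Set.ncard Zh := by
  classical
  obtain ⟨S, hS⟩ : ∃ S : Set G, S = {a : G | ∃ g : G, ∃ z ∈ Zh, a = g * z * g⁻¹} := ⟨_, rfl⟩
  rw [← hS]
  have hSmem : ∀ a ∈ S, ∃ g : G, ∃ z ∈ Zh, a = g * z * g⁻¹ := by
    intro a ha; rw [hS] at ha; exact ha
  choose! gf zf hzf using hSmem
  let φ : ↥Z × ↥S → G × ↥Zh :=
    fun p => (gf p.2.1 * p.1.1,
      ⟨(p.1.1)⁻¹ * zf p.2.1 * p.1.1, hnorm _ p.1.2 _ (hzf p.2.1 p.2.2).1⟩)
  have hrec : ∀ (h : G) (a : G), a ∈ S →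
      (gf a * h) * (h⁻¹ * zf a * h) * (gf a * h)⁻¹ = a := by
    intro h a ha
    have e : (gf a * h) * (h⁻¹ * zf a * h) * (gf a * h)⁻¹ = gf a * zf a * (gf a)⁻¹ := by group
    rw [e]; exact (hzf a ha).2.symm
  have hinj : Function.Injective φ := by
    rintro ⟨⟨h, hh⟩, ⟨a, ha⟩⟩ ⟨⟨h', hh'⟩, ⟨b, hb⟩⟩ heq
    simp only [φ, Prod.mk.injEq, Subtype.mk.injEq] at heq
    obtain ⟨h1, h2⟩ := heq
    have hab : a = b := by
      calc a = (gf a * h) * (h⁻¹ * zf a * h) * (gf a * h)⁻¹ := (hrec h a ha).symm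
        _ = (gf b * h') * (h'⁻¹ * zf b * h') * (gf b * h')⁻¹ := by rw [h1, h2]
        _ = b := hrec h' b hb
    subst hab
    have hh2 : h = h' := mul_left_cancel h1
    subst hh2
    rfl
  have hsurj : Function.Surjective φ := by
    rintro ⟨g, ⟨z, hz⟩⟩
    have ha : g * z * g⁻¹ ∈ S := by rw [hS]; exact ⟨g, z, hz, rfl⟩
    obtain ⟨hza, hea⟩ := hzf _ ha
    set ga := gf (g * z * g⁻¹) with hga
    set za := zf (g * z * g⁻¹) with hza'
    have e1 : (ga⁻¹ * g) * z * (ga⁻¹ * g)⁻¹ = za := by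
      have : (ga⁻¹ * g) * z * (ga⁻¹ * g)⁻¹ = ga⁻¹ * (g * z * g⁻¹) * ga := by group
      rw [this, hea]
      group
    have hhZ : ga⁻¹ * g ∈ Z := hF _ z hz (by rw [e1]; exact hza)
    refine ⟨(⟨ga⁻¹ * g, hhZ⟩, ⟨g * z * g⁻¹, ha⟩), ?_⟩
    simp only [φ]
    refine Prod.ext ?_ ?_
    · simp only
      rw [← hga]; group
    · apply Subtype.ext
      simp only
      rw [← hza', ← e1]
      group
  have hcard := Nat.card_congr (Equiv.ofBijective φ ⟨hinj, hsurj⟩)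
  rw [Nat.card_prod, Nat.card_prod, Nat.card_coe_set_eq, Nat.card_coe_set_eq] at hcard
  exact hcard

/-- **(T)**, general form: `M_σ ∩ H_σ = 1` for non-conjugate maximal subgroups `M`, `H`, given
`y ∈ M_σ ∩ H` acting without fixed points on `M_σ ∩ H_σ` and of order prime to it. -/
theorem sigma_inf_sigma_of [Finite G] {M H : Subgroup G} (hM : IsCoatom M) (hH : IsCoatom H)
    (hMs : Cfsg.IsPiHallOf (Cfsg.sigma M) (Cfsg.sigmaCore M) M)
    (hMsG : Cfsg.IsPiHall (Cfsg.sigma M) (Cfsg.sigmaCore M))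
    (hHsG : Cfsg.IsPiHall (Cfsg.sigma H) (Cfsg.sigmaCore H))
    (hnc : ∀ g : G, MulAut.conj g • H ≠ M)
    (h1414 : ∀ p : ℕ, p.Prime → p ∣ Nat.card M → p ∉ Cfsg.beta M →
      Cfsg.HasNormalPComplement p ↥(Cfsg.sigmaCore M))
    (h1403 : ∀ R : Subgroup G, R ≠ ⊤ → ¬ Cfsg.RankLE 1 R → ¬ Cfsg.RankLE 2 R →
      Cfsg.InUniqueMaximal R)
    {y : G} (hyM : y ∈ Cfsg.sigmaCore M) (hyH : y ∈ H)
    (hyr : ∀ r : ℕ, r.Prime → r ∣ Nat.card ↥(Cfsg.sigmaCore M ⊓ Cfsg.sigmaCore H) →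
      (orderOf y).Coprime r)
    (hC : (Cfsg.sigmaCore M ⊓ Cfsg.sigmaCore H) ⊓ centralizer ({y} : Set G) = ⊥) :
    Cfsg.sigmaCore M ⊓ Cfsg.sigmaCore H = ⊥ := by
  by_contra hne
  have hc : Nat.card ↥(Cfsg.sigmaCore M ⊓ Cfsg.sigmaCore H) ≠ 1 :=
    fun h => hne (Subgroup.card_eq_one.mp h)
  obtain ⟨r, hr, hrT⟩ := Nat.exists_prime_and_dvd hc
  have := Fact.mk hr
  have hrσ : r ∈ Cfsg.sigma M :=
    isPi_sigmaCore M r hr (hrT.trans (Subgroup.card_dvd_of_le inf_le_left))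
  have hrσ' : r ∈ Cfsg.sigma H :=
    isPi_sigmaCore H r hr (hrT.trans (Subgroup.card_dvd_of_le inf_le_right))
  have hrM : r ∣ Nat.card M := hrσ.2.1
  by_cases hα : r ∈ Cfsg.alpha M
  · obtain ⟨A, hAM, hAe, hAc⟩ := exists_elemAb_of_not_pRankLE hα.2
    have hAr : IsPGroup r A := isElementaryAbelian_isPGroup hAe
    have hAN : A ≤ Cfsg.sigmaCore M := le_sigmaCore_of_isPGroup hr hMs hrσ hAM hAr
    obtain ⟨R, hR, hAR⟩ := exists_isSylIn_ge hAr hAN
    have hRG : IsSylIn r R ⊤ := isSylIn_top_of_hall hr hR hMsG hrσ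
    obtain ⟨R', hR'⟩ := exists_isSylIn (p := r) (Cfsg.sigmaCore H)
    have hR'G : IsSylIn r R' ⊤ := isSylIn_top_of_hall hr hR' hHsG hrσ'
    obtain ⟨g, -, hg⟩ := hRG.exists_conj_eq hR'G
    have h1 : R ≤ M := hR.1.trans (sigmaCore_le M)
    have hRne : R ≠ ⊤ := ne_top_of_le_ne_top hM.1 h1
    have hAc1 : r ^ 1 < Nat.card A :=
      lt_of_le_of_lt (Nat.pow_le_pow_right hr.pos one_le_two) hAc
    have hU : Cfsg.InUniqueMaximal R :=
      h1403 R hRne (not_rankLE_of_elemAb hr hAR hAe hAc1) (not_rankLE_of_elemAb hr hAR hAe hAc)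
    have h2 : R ≤ MulAut.conj g • H := by
      rw [← hg]; exact conj_smul_le_conj_smul (hR'.1.trans (sigmaCore_le H))
    have h3 : MulAut.conj g • H = M :=
      uniq_eq_of_le hU hM h1 (isCoatom_conj hH g) h2
    exact hnc g h3
  · have hβ : r ∉ Cfsg.beta M := fun h => hα h.1
    obtain ⟨N0, P0, -, -, hAN, -, hcop, -, -, hmem⟩ :=
      Cfsg.Agent.S4043.npc_data (Cfsg.sigmaCore M) (h1414 r hr hrM hβ)
    have hyN0 : y ∈ N0 := hmem y hyM (hyr r hr hrT)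
    have hyT : y ∈ normalizer ((Cfsg.sigmaCore M ⊓ Cfsg.sigmaCore H : Subgroup G) : Set G) :=
      normalizer_inf_mem (le_normalizer_sigmaCore M (sigmaCore_le M hyM))
        (le_normalizer_sigmaCore H hyH)
    have hTN0 : Cfsg.sigmaCore M ⊓ Cfsg.sigmaCore H ≤ N0 :=
      le_of_commutator_inj inf_le_left hAN hyN0 hyT hC
    exact (Nat.Prime.coprime_iff_not_dvd hr).mp hcop.symm
      (hrT.trans (Subgroup.card_dvd_of_le hTN0))

/-- `[d,x] ∈ A ∩ B` when `d ∈ A`, `x ∈ B` normalize each other's subgroup. -/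
theorem comm_mem_inf {A B : Subgroup G} {d x : G} (hdA : d ∈ A)
    (hxA : x ∈ normalizer (A : Set G)) (hxB : x ∈ B) (hdB : d ∈ normalizer (B : Set G)) :
    d * x * d⁻¹ * x⁻¹ ∈ A ⊓ B := by
  refine Subgroup.mem_inf.mpr ⟨?_, ?_⟩
  · have h2 : x * d⁻¹ * x⁻¹ ∈ A := (Subgroup.mem_normalizer_iff.mp hxA _).mp (inv_mem hdA)
    have h3 := mul_mem hdA h2
    have e : d * (x * d⁻¹ * x⁻¹) = d * x * d⁻¹ * x⁻¹ := by group
    rwa [e] at h3
  · have h2 : d * x * d⁻¹ ∈ B := (Subgroup.mem_normalizer_iff.mp hdB _).mp hxB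
    exact mul_mem h2 (inv_mem hxB)

theorem commute_of_inf_eq_bot {A B : Subgroup G} (hAB : A ⊓ B = ⊥) {d x : G} (hdA : d ∈ A)
    (hxA : x ∈ normalizer (A : Set G)) (hxB : x ∈ B) (hdB : d ∈ normalizer (B : Set G)) :
    d * x = x * d := by
  have hc := comm_mem_inf hdA hxA hxB hdB
  rw [hAB, Subgroup.mem_bot] at hc
  have h1 : d * x * d⁻¹ = x := mul_inv_eq_one.mp hc
  exact mul_inv_eq_iff_eq_mul.mp h1

namespace PPair

variable {M K : Subgroup G}

theorem coprime_card [Finite G] (pp : PPair M K) :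
    (Nat.card K).Coprime (Nat.card ↥(Ks M K)) := by
  apply Nat.coprime_of_dvd
  intro r hr h1 h2
  exact not_mem_sigma_of_mem_kappa (pp.hall.2.1 r hr h1)
    (isPi_sigmaCore M r hr (h2.trans (Subgroup.card_dvd_of_le pp.Ks_le_sigmaCore)))

theorem Ks_le_normalizer (pp : PPair M K) : Ks M K ≤ normalizer (K : Set G) :=
  le_normalizer_of_comm (fun _ ha _ hb => pp.comm ha hb)

theorem K_le_normalizer_Ks (pp : PPair M K) : K ≤ normalizer ((Ks M K : Subgroup G) : Set G) :=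
  le_normalizer_of_comm (fun _ ha _ hb => (pp.comm hb ha).symm)

theorem card_Z [Finite G] (pp : PPair M K) :
    Nat.card ↥(K ⊔ Ks M K) = Nat.card K * Nat.card ↥(Ks M K) := by
  have h := Cfsg.Agent.Helper50.card_sup_mul_card_inf_of_le_normalizer K (Ks M K)
    pp.Ks_le_normalizer
  rwa [pp.K_inf_Ks, Subgroup.card_bot, mul_one] at h

/-- Every element of `Z = K K*` is a product `w s`, `w ∈ K`, `s ∈ K*`, both powers of it. -/
theorem exists_mul [Finite G] (pp : PPair M K) {z : G} (hz : z ∈ K ⊔ Ks M K) :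
    ∃ w ∈ K, ∃ s ∈ Ks M K, z = w * s ∧ w ∈ zpowers z ∧ s ∈ zpowers z := by
  have hz' : z ∈ ((K ⊔ Ks M K : Subgroup G) : Set G) := hz
  rw [Subgroup.coe_mul_of_left_le_normalizer_right K (Ks M K) pp.K_le_normalizer_Ks] at hz'
  obtain ⟨w, hw, s, hs, rfl⟩ := Set.mem_mul.mp hz'
  have hc : Commute w s := pp.comm hw hs
  have hcop : (orderOf w).Coprime (orderOf s) :=
    Nat.Coprime.coprime_dvd_left (Subgroup.orderOf_dvd_natCard K hw)
      (Nat.Coprime.coprime_dvd_right (Subgroup.orderOf_dvd_natCard _ hs) pp.coprime_card)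
  refine ⟨w, hw, s, hs, rfl, mem_zpowers_mul_of_coprime hc hcop, ?_⟩
  have := mem_zpowers_mul_of_coprime hc.symm hcop.symm
  rwa [hc.symm.eq] at this

/-- An element of `Z` whose order divides `#K*` lies in `K*`. -/
theorem mem_Ks_of_orderOf [Finite G] (pp : PPair M K) {a : G} (ha : a ∈ K ⊔ Ks M K)
    (ho : orderOf a ∣ Nat.card ↥(Ks M K)) : a ∈ Ks M K := by
  obtain ⟨w, hw, s, hs, rfl, hwz, -⟩ := pp.exists_mul ha
  have h1 : orderOf w ∣ orderOf (w * s) := orderOf_dvd_of_mem_zpowers hwz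
  have h2 : orderOf w ∣ Nat.card K := Subgroup.orderOf_dvd_natCard K hw
  have h3 : orderOf w = 1 :=
    Nat.eq_one_of_dvd_coprimes pp.coprime_card h2 (h1.trans ho)
  rw [orderOf_eq_one_iff] at h3
  rw [h3, one_mul]; exact hs

/-- An element of `Z` whose order divides `#K` lies in `K`. -/
theorem mem_K_of_orderOf [Finite G] (pp : PPair M K) {a : G} (ha : a ∈ K ⊔ Ks M K)
    (ho : orderOf a ∣ Nat.card K) : a ∈ K := by
  obtain ⟨w, hw, s, hs, rfl, -, hsz⟩ := pp.exists_mul ha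
  have h1 : orderOf s ∣ orderOf (w * s) := orderOf_dvd_of_mem_zpowers hsz
  have h2 : orderOf s ∣ Nat.card ↥(Ks M K) := Subgroup.orderOf_dvd_natCard _ hs
  have h3 : orderOf s = 1 :=
    Nat.eq_one_of_dvd_coprimes pp.coprime_card (h1.trans ho) h2
  rw [orderOf_eq_one_iff] at h3
  rw [h3, mul_one]; exact hw

/-- A subgroup of prime order of `K` is the only subgroup of `K` of its order. -/
theorem eq_of_card_eq [Finite G] (pp : PPair M K) {X X' : Subgroup G} (hX : X ≤ K)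
    (hXp : (Nat.card X).Prime) (hX' : X' ≤ K) (hc : Nat.card X' = Nat.card X) : X' = X := by
  obtain ⟨u, hu⟩ : ∃ u, u = Nat.card X := ⟨_, rfl⟩
  rw [← hu] at hXp hc
  have := Fact.mk hXp
  have huκ : u ∈ Cfsg.kappa M := pp.hall.2.1 u hXp (by rw [hu]; exact Subgroup.card_dvd_of_le hX)
  have hKN : K ≤ normalizer (X : Set G) := by
    have h := (pp.norm X hX (by rw [← hu]; exact hXp)).1
    have h2 : K ≤ M ⊓ normalizer (X : Set G) := by rw [h]; exact le_sup_left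
    exact h2.trans inf_le_right
  have hXu : IsPGroup u X := IsPGroup.of_card (n := 1) (by rw [pow_one, hu])
  have hX'u : IsPGroup u X' := IsPGroup.of_card (n := 1) (by rw [pow_one, hc])
  obtain ⟨P, hP, hX'P⟩ := exists_isSylIn_ge hX'u hX'
  obtain ⟨x, hx, hle⟩ := hP.exists_conj_le hXu hX
  rw [smul_eq_of_mem_normalizer (hKN hx)] at hle
  have hPc : IsCyclic ↥P := isCyclic_of_kappa huκ (hP.1.trans pp.K_le) hP.2.1
  have := hPc
  exact (Cfsg.Agent.Helper76.EqOrd.eq_of_card_eq_of_le_isCyclic P X X' hle hX'P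
    (by rw [hc, hu])).symm

/-- If `M` is not of type `P₁` then `#K` is prime (B-G 14.2 via the lemma on prime action). -/
theorem card_prime_of_not_P1 [Finite G] (hG : IsMinSimpleOddOrder G) (pp : PPair M K)
    (h1429 : ¬ (∀ q : ℕ, q.Prime → q ∣ Nat.card M → q ∉ Cfsg.sigma M → q ∈ Cfsg.kappa M) →
      ∀ (p : ℕ) [Fact p.Prime], p ∣ Nat.card M → p ∉ Cfsg.sigma M ∪ Cfsg.kappa M →
      ∀ S : Sylow p M,
        Cfsg.sigmaCore M ⊓ Subgroup.centralizer ((Subgroup.closure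
          {x : G | x ∈ (S : Subgroup M).map M.subtype ∧ x ^ p = 1} : Subgroup G) : Set G) = ⊥ ∧
        Group.IsNilpotent (Cfsg.sigmaCore M))
    (hP1 : ¬ ∀ r : ℕ, r.Prime → r ∣ Nat.card M → r ∉ Cfsg.sigma M → r ∈ Cfsg.kappa M) :
    (Nat.card K).Prime := by
  classical
  obtain ⟨U, hUc, hUH, hKU, hUreg⟩ := pp.exU
  have hcard := pp.card_eq hUH
  have hP1' := hP1
  push Not at hP1'
  obtain ⟨s, hs, hsM, hsσ, hsκ⟩ := hP1'
  have : Fact s.Prime := ⟨hs⟩
  have hsU : s ∣ Nat.card U := by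
    rw [hcard] at hsM
    rcases (Nat.Prime.dvd_mul hs).mp hsM with h | h
    · exact h
    · exfalso
      rcases (Nat.Prime.dvd_mul hs).mp h with h | h
      · exact hsκ (pp.hall.2.1 s hs h)
      · exact hsσ (isPi_sigmaCore M s hs h)
  obtain ⟨T, hT⟩ := exists_isSylIn (p := s) U
  have hTM : IsSylIn s T M := by
    refine ⟨hT.1.trans hUH.1, hT.2.1, ?_⟩
    rw [← Subgroup.relIndex_mul_relIndex T U M hT.1 hUH.1]
    intro h
    rcases (Nat.Prime.dvd_mul hs).mp h with h | h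
    · exact hT.2.2 h
    · exact hUH.2.2 s hs ⟨hs, hsκ, hsσ⟩ h
  have hsM' : s ∣ Nat.card M := hsU.trans (Subgroup.card_dvd_of_le hUH.1)
  obtain ⟨hCA, hnil⟩ := h1429 hP1 s hsM'
    (by simp only [Set.mem_union, not_or]; exact ⟨hsσ, hsκ⟩) hTM.toSylow
  have hmap : (hTM.toSylow : Subgroup M).map M.subtype = T := by
    rw [hTM.coe_toSylow]; exact Subgroup.map_subgroupOf_eq_of_le hTM.1
  have hCU : Cfsg.sigmaCore M ⊓ centralizer (U : Set G) = ⊥ := by
    apply le_antisymm _ bot_le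
    rw [← hCA]
    apply inf_le_inf_left
    apply Subgroup.centralizer_le
    have hcl : closure {x : G | x ∈ (hTM.toSylow : Subgroup M).map M.subtype ∧ x ^ s = 1} ≤ U := by
      rw [Subgroup.closure_le]
      intro y hy
      have h1 := hy.1
      rw [hmap] at h1
      exact hT.1 h1
    exact hcl
  have hU1 : U ≠ ⊥ := by
    intro h
    rw [h, Subgroup.card_bot] at hsU
    exact hs.one_lt.ne' (Nat.dvd_one.mp hsU)
  have hUK : U ⊓ K = ⊥ := by
    refine (Subgroup.disjoint_of_coprime_natCard ?_).eq_bot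
    apply Nat.coprime_of_dvd
    intro r hr h1 h2
    exact (hUH.2.1 r hr h1).2.1 (pp.hall.2.1 r hr h2)
  have hUKM : U ⊔ K ≤ M := sup_le hUH.1 pp.K_le
  have hsolv : Group.IsSolvable ↥(U ⊔ K) :=
    solvable_of_ne_top hG (ne_top_of_le_ne_top pp.coatom.1 hUKM)
  have hodd : Odd (Nat.card ↥(U ⊔ K)) := odd_card_subgroup hG _
  have hW1 : Cfsg.sigmaCore M ≠ ⊥ := by
    intro h
    apply pp.Ks_ne_bot
    apply le_bot_iff.mp
    rw [← h]; exact pp.Ks_le_sigmaCore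
  have hcop : (Nat.card ↥(U ⊔ K)).Coprime (Nat.card ↥(Cfsg.sigmaCore M)) := by
    have hdvd := Cfsg.Agent.Helper50.card_sup_dvd_of_le_normalizer U K hKU
    apply Nat.Coprime.coprime_dvd_left hdvd
    apply Nat.coprime_of_dvd
    intro r hr h1 h2
    have hrσ : r ∈ Cfsg.sigma M := isPi_sigmaCore M r hr h2
    rcases (Nat.Prime.dvd_mul hr).mp h1 with h | h
    · exact (hUH.2.1 r hr h).2.2 hrσ
    · exact not_mem_sigma_of_mem_kappa (pp.hall.2.1 r hr h) hrσ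
  have hMn : M ≤ normalizer ((Cfsg.sigmaCore M : Subgroup G) : Set G) := le_normalizer_sigmaCore M
  exact (Cfsg.Agent.S1446.result (X := G) U K (Cfsg.sigmaCore M) hU1 pp.ne hUK hKU hUreg
    hsolv hodd hW1 hnil (hUH.1.trans hMn) (pp.K_le.trans hMn) hcop hCU
    (fun x hx hx1 => pp.prim x hx hx1)).1

/-- `#M = #M_σ · #K` when `M` is of type `P₁`. -/
theorem card_of_P1 [Finite G] (pp : PPair M K)
    (hP1 : ∀ r : ℕ, r.Prime → r ∣ Nat.card M → r ∉ Cfsg.sigma M → r ∈ Cfsg.kappa M) :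
    Nat.card M = Nat.card ↥(Cfsg.sigmaCore M) * Nat.card K := by
  obtain ⟨U, -, hUH, -, -⟩ := pp.exU
  have hcard := pp.card_eq hUH
  have hU1 : Nat.card U = 1 := by
    by_contra hne
    obtain ⟨r, hr, hrd⟩ := Nat.exists_prime_and_dvd hne
    have hrπ := hUH.2.1 r hr hrd
    have hrM : r ∣ Nat.card M := hrd.trans (Subgroup.card_dvd_of_le hUH.1)
    exact hrπ.2.1 (hP1 r hr hrM hrπ.2.2)
  rw [hU1, one_mul] at hcard
  rw [hcard, mul_comm]

end PPair

end Cfsg.Agent.Helper9.BG147
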