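import Mathlib
import Cfsg.Agent.Lib.Helper9.BG147e

/-!
# Bender–Glauberman Theorem 14.7 (core), part f: the candidate partners `H ∈ 𝓜(N_G(X))`, `X ≤ K`

`Rows G` bundles the conclusions of the earlier rows that are used (in hypothesis form, so that this
file imports none of them).  `lemmaN` analyses a maximal subgroup `H` containing `N_G(X)` for a
subgroup `X` of prime order of `K`, and a Hall `κ(H)`-subgroup `J ⊇ K*`.
-/

set_option autoImplicit false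

namespace Cfsg.Agent.Helper9.BG147

open Subgroup Cfsg
open scoped Pointwise
open Cfsg.Agent.Helper33
open Cfsg.Agent.Helper34.BG
open Cfsg.Agent.Helper55.BGB

variable {G : Type*} [Group G]

/-- The conclusions of the earlier rows, for all maximal subgroups. -/
structure Rows (G : Type*) [Group G] : Prop where
  hall : ∀ L : Subgroup G, IsCoatom L →
    Cfsg.IsPiHallOf (Cfsg.sigma L) (Cfsg.sigmaCore L) L ∧
      Cfsg.IsPiHall (Cfsg.sigma L) (Cfsg.sigmaCore L)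
  pp : ∀ L J : Subgroup G, IsCoatom L → Cfsg.IsPiHallOf (Cfsg.kappa L) J L → J ≠ ⊥ → PPair L J
  h1432 : ∀ M : Subgroup G, IsCoatom M → ∀ x : G, x ∈ Cfsg.sigmaCore M → x ≠ 1 → ∀ x' : G,
    x' ∈ M ⊓ Subgroup.centralizer ({x} : Set G) → x' ≠ 1 →
    (∀ p : ℕ, p.Prime → p ∣ orderOf x' → p ∉ Cfsg.sigma M) →
    ((∀ p : ℕ, p.Prime → p ∣ orderOf x' → p ∈ Cfsg.kappa M) ∧
        Subgroup.centralizer ({x} : Set G) ≤ M) ∨
      ((∀ p : ℕ, p.Prime → p ∣ orderOf x' → p ∈ Cfsg.tau2 M) ∧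
        (∃ L : Subgroup G, IsCoatom L ∧ ∀ p : ℕ, p.Prime → p ∣ orderOf x' → p ∈ Cfsg.sigma L) ∧
        (Subgroup.centralizer ({x'} : Set G) ≤ M ∧ ∀ L : Subgroup G, IsCoatom L →
          Subgroup.centralizer ({x'} : Set G) ≤ L → L = M))
  h1414 : ∀ M : Subgroup G, IsCoatom M → ∀ p : ℕ, p.Prime → p ∣ Nat.card M → p ∉ Cfsg.beta M →
    Cfsg.HasNormalPComplement p ↥(Cfsg.sigmaCore M)
  h1403 : ∀ R : Subgroup G, R ≠ ⊤ → ¬ Cfsg.RankLE 1 R → ¬ Cfsg.RankLE 2 R →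
    Cfsg.InUniqueMaximal R
  h1423 : ∀ M : Subgroup G, IsCoatom M → ∀ (p : ℕ) [Fact p.Prime], p ∈ Cfsg.sigma M →
    ∀ X : Subgroup G, X ≤ M → Nat.card X = p →
    X ≤ ⁅Cfsg.sigmaCore M, Cfsg.sigmaCore M⁆ →
    (Subgroup.centralizer (X : Set G) ≤ M ∧
      ∀ L : Subgroup G, IsCoatom L → Subgroup.centralizer (X : Set G) ≤ L → L = M)
  h1426 : ∀ M : Subgroup G, IsCoatom M → ∀ E : Subgroup G,
    Cfsg.IsComplIn E (Cfsg.sigmaCore M) M →
    Cfsg.sigmaCore M ⊓ Subgroup.centralizer (E : Set G) ≤ ⁅Cfsg.sigmaCore M, Cfsg.sigmaCore M⁆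
  h1429 : ∀ M : Subgroup G, IsCoatom M →
    ¬ (∀ q : ℕ, q.Prime → q ∣ Nat.card M → q ∉ Cfsg.sigma M → q ∈ Cfsg.kappa M) →
    ∀ (p : ℕ) [Fact p.Prime], p ∣ Nat.card M → p ∉ Cfsg.sigma M ∪ Cfsg.kappa M →
    ∀ S : Sylow p M,
      Cfsg.sigmaCore M ⊓ Subgroup.centralizer ((Subgroup.closure
        {x : G | x ∈ (S : Subgroup M).map M.subtype ∧ x ^ p = 1} : Subgroup G) : Set G) = ⊥ ∧
      Group.IsNilpotent (Cfsg.sigmaCore M)

/-- Lemma C for all pairs, from the rows. -/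
theorem Rows.lemmaC [Finite G] (rows : Rows G) (hG : IsMinSimpleOddOrder G) {L J : Subgroup G}
    (pp : PPair L J)
    (hcyc : ∀ (q : ℕ) (A : Subgroup G), q.Prime → A ≤ Ks L J → IsPGroup q A → IsCyclic A)
    (X : Subgroup G) (hX : X ≤ Ks L J) (hXp : (Nat.card X).Prime) :
    Subgroup.centralizer (X : Set G) ≤ L ∧
      ∀ L' : Subgroup G, IsCoatom L' → Subgroup.centralizer (X : Set G) ≤ L' → L' = L :=
  Cfsg.Agent.Helper9.BG147.lemmaC hG pp (rows.h1423 L pp.coatom) (rows.h1426 L pp.coatom)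
    (rows.h1429 L pp.coatom) hcyc X hX hXp

section N

variable [Finite G] {M K : Subgroup G}

/-- **N1–N2.** For `X ≤ K` of prime order and `H ∈ 𝓜(N_G(X))`: `H` is not conjugate to `M`, and
`K*` is a `κ(H)`-group. -/
theorem partner_basic (rows : Rows G) (pp : PPair M K) {X H : Subgroup G} (hXK : X ≤ K)
    (hXp : (Nat.card X).Prime) (hH : IsCoatom H) (hNX : normalizer (X : Set G) ≤ H) :
    X ≤ Cfsg.sigmaCore H ∧ K ⊔ Ks M K ≤ H ∧ (∀ g : G, MulAut.conj g • H ≠ M) ∧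
      (∀ t : ℕ, t.Prime → t ∣ Nat.card ↥(Ks M K) → t ∈ Cfsg.kappa H) := by
  have hXH : X ≤ Cfsg.sigmaCore H := (pp.norm X hXK hXp).2.2 H hH hNX
  have hZN : K ⊔ Ks M K ≤ normalizer (X : Set G) := by
    rw [← (pp.norm X hXK hXp).1]; exact inf_le_right
  have hZH : K ⊔ Ks M K ≤ H := hZN.trans hNX
  have hnc : ∀ g : G, MulAut.conj g • H ≠ M := by
    intro g h
    have hσ : Cfsg.sigma M = Cfsg.sigma H := by
      rw [← h]
      exact Cfsg.Agent.Helper25.BGNat.sigma_cj g H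
    have h1 : Nat.card X ∉ Cfsg.sigma M :=
      not_mem_sigma_of_mem_kappa (pp.hall.2.1 _ hXp (Subgroup.card_dvd_of_le hXK))
    have h2 : Nat.card X ∈ Cfsg.sigma H :=
      isPi_sigmaCore H _ hXp (Subgroup.card_dvd_of_le hXH)
    rw [hσ] at h1
    exact h1 h2
  refine ⟨hXH, hZH, hnc, ?_⟩
  intro t ht htd
  have := Fact.mk ht
  have hX1 : X ≠ ⊥ := by
    intro h; rw [h, Subgroup.card_bot] at hXp; exact Nat.not_prime_one hXp
  obtain ⟨⟨x, hxX⟩, hx1⟩ := (Subgroup.ne_bot_iff_exists_ne_one).mp hX1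
  have hx1' : x ≠ 1 := fun h => hx1 (Subtype.ext h)
  obtain ⟨y, hy⟩ := exists_prime_orderOf_dvd_card' t htd
  have hyo : orderOf (y : G) = t := by rw [Subgroup.orderOf_coe]; exact hy
  have hy1 : (y : G) ≠ 1 := by
    intro h; rw [h, orderOf_one] at hyo; exact ht.one_lt.ne hyo
  have htσM : t ∈ Cfsg.sigma M :=
    isPi_sigmaCore M t ht (htd.trans (Subgroup.card_dvd_of_le pp.Ks_le_sigmaCore))
  -- `t ∉ σ(H)`
  have htσH : t ∉ Cfsg.sigma H := by
    intro htσH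
    obtain ⟨S⟩ : Nonempty (Sylow t ↥(Cfsg.sigmaCore M)) := inferInstance
    obtain ⟨hU, hSM, -⟩ := pp.syl t ht htd S
    have hS : IsSylIn t ((S : Subgroup ↥(Cfsg.sigmaCore M)).map (Cfsg.sigmaCore M).subtype)
        (Cfsg.sigmaCore M) := isSylIn_of_sylow (Cfsg.sigmaCore M) S
    have hSG := isSylIn_top_of_hall ht hS pp.sHallG htσM
    obtain ⟨R', hR'⟩ := exists_isSylIn (p := t) (Cfsg.sigmaCore H)
    have hR'G := isSylIn_top_of_hall ht hR' (rows.hall H hH).2 htσH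
    obtain ⟨g, -, hg⟩ := hSG.exists_conj_eq hR'G
    have h2 : (S : Subgroup ↥(Cfsg.sigmaCore M)).map (Cfsg.sigmaCore M).subtype
        ≤ MulAut.conj g • H := by
      rw [← hg]; exact conj_smul_le_conj_smul (hR'.1.trans (sigmaCore_le H))
    exact hnc g (uniq_eq_of_le hU pp.coatom hSM (isCoatom_conj hH g) h2)
  have hxK : x ∈ K := hXK hxX
  have hyH : (y : G) ∈ H := hZH ((le_sup_right : Ks M K ≤ K ⊔ Ks M K) y.2)
  have hyx : (y : G) ∈ centralizer ({x} : Set G) := by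
    rw [Subgroup.mem_centralizer_singleton_iff]
    exact (pp.comm hxK y.2).symm
  rcases rows.h1432 H hH x (hXH hxX) hx1' (y : G) ⟨hyH, hyx⟩ hy1
      (fun p hp hpd => by
        rw [hyo] at hpd
        rw [(Nat.prime_dvd_prime_iff_eq hp ht).mp hpd]; exact htσH) with h | h
  · exact h.1 t ht (by rw [hyo])
  · exfalso
    have hCM := pp.centralizer_singleton_le y.2 hy1
    have := h.2.2.2 M pp.coatom hCM
    apply hnc 1
    rw [map_one, one_smul, this]

/-- **N3.** `M_σ ∩ H_σ = 1`. -/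
theorem partner_T (rows : Rows G) (pp : PPair M K) {X H : Subgroup G} (hXK : X ≤ K)
    (hXp : (Nat.card X).Prime) (hH : IsCoatom H) (hNX : normalizer (X : Set G) ≤ H) :
    Cfsg.sigmaCore M ⊓ Cfsg.sigmaCore H = ⊥ := by
  obtain ⟨hXH, hZH, hnc, hκ⟩ := partner_basic rows pp hXK hXp hH hNX
  have hX1 : X ≠ ⊥ := by
    intro h; rw [h, Subgroup.card_bot] at hXp; exact Nat.not_prime_one hXp
  obtain ⟨⟨x, hxX⟩, hx1⟩ := (Subgroup.ne_bot_iff_exists_ne_one).mp hX1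
  have hx1' : x ≠ 1 := fun h => hx1 (Subtype.ext h)
  have hxK : x ∈ K := hXK hxX
  have hKsH : Ks M K ⊓ Cfsg.sigmaCore H = ⊥ := by
    refine (Subgroup.disjoint_of_coprime_natCard ?_).eq_bot
    apply Nat.coprime_of_dvd
    intro r hr h1 h2
    exact not_mem_sigma_of_mem_kappa (hκ r hr h1) (isPi_sigmaCore H r hr h2)
  have hnc' : ∀ g : G, MulAut.conj g • M ≠ H := by
    intro g h
    apply hnc g⁻¹
    rw [← h, conj_inv_smul_smul]
  have h := sigma_inf_sigma_of hH pp.coatom (rows.hall H hH).1 (rows.hall H hH).2 pp.sHallG hnc'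
    (rows.h1414 H hH) rows.h1403 (hXH hxX) (pp.K_le hxK)
    (fun r hr hrd => by
      rw [Nat.coprime_comm, Nat.Prime.coprime_iff_not_dvd hr]
      intro hdv
      have h1 : r ∈ Cfsg.kappa M :=
        pp.hall.2.1 r hr (hdv.trans (Subgroup.orderOf_dvd_natCard K hxK))
      exact not_mem_sigma_of_mem_kappa h1
        (isPi_sigmaCore M r hr (hrd.trans (Subgroup.card_dvd_of_le inf_le_right))))
    (by
      apply le_antisymm _ bot_le
      intro t ht
      obtain ⟨⟨ht1, ht2⟩, ht3⟩ := ht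
      have h1 : t ∈ Cfsg.sigmaCore M ⊓ centralizer ({x} : Set G) := ⟨ht2, ht3⟩
      rw [pp.prim x hxK hx1'] at h1
      rw [← hKsH]
      exact ⟨h1, ht1⟩)
  rw [inf_comm]; exact h

/-- **N4.** `M_σ ∩ H = K*`. -/
theorem partner_inf (rows : Rows G) (pp : PPair M K) {X H : Subgroup G} (hXK : X ≤ K)
    (hXp : (Nat.card X).Prime) (hH : IsCoatom H) (hNX : normalizer (X : Set G) ≤ H) :
    Cfsg.sigmaCore M ⊓ H = Ks M K := by
  obtain ⟨hXH, hZH, hnc, hκ⟩ := partner_basic rows pp hXK hXp hH hNX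
  have hT := partner_T rows pp hXK hXp hH hNX
  have hX1 : X ≠ ⊥ := by
    intro h; rw [h, Subgroup.card_bot] at hXp; exact Nat.not_prime_one hXp
  obtain ⟨⟨x, hxX⟩, hx1⟩ := (Subgroup.ne_bot_iff_exists_ne_one).mp hX1
  have hx1' : x ≠ 1 := fun h => hx1 (Subtype.ext h)
  have hxK : x ∈ K := hXK hxX
  apply le_antisymm
  · intro d hd
    rw [← pp.prim x hxK hx1']
    refine Subgroup.mem_inf.mpr ⟨hd.1, ?_⟩
    rw [Subgroup.mem_centralizer_singleton_iff]
    exact commute_of_inf_eq_bot hT hd.1 (le_normalizer_sigmaCore M (pp.K_le hxK)) (hXH hxX)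
      (le_normalizer_sigmaCore H hd.2)
  · exact le_inf pp.Ks_le_sigmaCore (le_sup_right.trans hZH)

/-- **N5–N10.** For a Hall `κ(H)`-subgroup `J ⊇ K*`: `(H,J)` is a `P`-pair, `X ≤ J* ≤ K`,
`J ≤ Z` and `J J* = Z`.  (`K` is not assumed cyclic.) -/
theorem partner_main (rows : Rows G) (hG : IsMinSimpleOddOrder G) (pp : PPair M K)
    {X H J : Subgroup G} (hXK : X ≤ K)
    (hXp : (Nat.card X).Prime) (hH : IsCoatom H) (hNX : normalizer (X : Set G) ≤ H)
    (hJ : Cfsg.IsPiHallOf (Cfsg.kappa H) J H) (hKsJ : Ks M K ≤ J) :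
    PPair H J ∧ X ≤ Ks H J ∧ Ks H J ≤ K ∧ J ≤ K ⊔ Ks M K ∧ J ⊔ Ks H J = K ⊔ Ks M K ∧
      M ⊓ Cfsg.sigmaCore H = Ks H J := by
  obtain ⟨hXH, hZH, hnc, hκ⟩ := partner_basic rows pp hXK hXp hH hNX
  have hT := partner_T rows pp hXK hXp hH hNX
  have hJ1 : J ≠ ⊥ := fun h => pp.Ks_ne_bot (le_bot_iff.mp (h ▸ hKsJ))
  have ppH : PPair H J := rows.pp H J hH hJ hJ1
  obtain ⟨Y, hYle, hYp⟩ := exists_prime_card_le pp.Ks_ne_bot
  have hY1 : Y ≠ ⊥ := by
    intro h; rw [h, Subgroup.card_bot] at hYp; exact Nat.not_prime_one hYp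
  have hYJ : Y ≤ J := hYle.trans hKsJ
  have hnY := ppH.norm Y hYJ hYp
  have hNY : normalizer (Y : Set G) ≤ M := pp.normalizer_le hYle hY1
  have hJJ : J ⊔ Ks H J ≤ M := by
    rw [← hnY.1]; exact inf_le_right.trans hNY
  obtain ⟨⟨y, hyY⟩, hy1⟩ := (Subgroup.ne_bot_iff_exists_ne_one).mp hY1
  have hy1' : y ≠ 1 := fun h => hy1 (Subtype.ext h)
  have hyKs : y ∈ Ks M K := hYle hyY
  have hyJ : y ∈ J := hKsJ hyKs
  -- N6
  have hT' : Cfsg.sigmaCore H ⊓ Cfsg.sigmaCore M = ⊥ := by rw [inf_comm]; exact hT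
  have hMH : M ⊓ Cfsg.sigmaCore H = Ks H J := by
    apply le_antisymm
    · intro d hd
      rw [← ppH.prim y hyJ hy1']
      refine Subgroup.mem_inf.mpr ⟨hd.2, ?_⟩
      rw [Subgroup.mem_centralizer_singleton_iff]
      exact commute_of_inf_eq_bot hT' hd.2 (le_normalizer_sigmaCore H (ppH.K_le hyJ)) hyKs.1
        (le_normalizer_sigmaCore M hd.1)
    · exact le_inf (le_sup_right.trans hJJ) ppH.Ks_le_sigmaCore
  -- N7
  have hXJs : X ≤ Ks H J := by
    rw [← hMH]; exact le_inf (hXK.trans pp.K_le) hXH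
  have hJNX : J ≤ normalizer (X : Set G) :=
    le_normalizer_of_comm (A := X) (B := J) (fun a ha b hb => (ppH.comm hb (hXJs ha)).symm)
  have hJZ : J ≤ K ⊔ Ks M K := by
    rw [← (pp.norm X hXK hXp).1]; exact le_inf (le_sup_left.trans hJJ) hJNX
  -- N8
  have hJsκ : ∀ p : ℕ, p.Prime → p ∣ Nat.card ↥(Ks H J) → p ∈ Cfsg.kappa M := by
    intro p hp hpd
    have := Fact.mk hp
    obtain ⟨x', hx'⟩ := exists_prime_orderOf_dvd_card' p hpd
    have hx'o : orderOf (x' : G) = p := by rw [Subgroup.orderOf_coe]; exact hx'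
    have hx'1 : (x' : G) ≠ 1 := by
      intro h; rw [h, orderOf_one] at hx'o; exact hp.one_lt.ne hx'o
    have hx'M : (x' : G) ∈ M := hJJ ((le_sup_right : Ks H J ≤ J ⊔ Ks H J) x'.2)
    have hpσ : p ∉ Cfsg.sigma M := by
      intro hpσ
      have hz : zpowers (x' : G) ≤ Cfsg.sigmaCore M :=
        le_sigmaCore_of_isPGroup hp pp.sHall hpσ (by rw [Subgroup.zpowers_le]; exact hx'M)
          (IsPGroup.of_card (n := 1) (by rw [pow_one, Nat.card_zpowers, hx'o]))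
      have h2 : (x' : G) ∈ Cfsg.sigmaCore M ⊓ Cfsg.sigmaCore H :=
        ⟨hz (Subgroup.mem_zpowers _), x'.2.1⟩
      rw [hT, Subgroup.mem_bot] at h2
      exact hx'1 h2
    have hx'y : (x' : G) ∈ centralizer ({y} : Set G) := by
      rw [Subgroup.mem_centralizer_singleton_iff]
      exact (ppH.comm hyJ x'.2).symm
    rcases rows.h1432 M pp.coatom y hyKs.1 hy1' (x' : G) ⟨hx'M, hx'y⟩ hx'1
        (fun q hq hqd => by
          rw [hx'o] at hqd
          rw [(Nat.prime_dvd_prime_iff_eq hq hp).mp hqd]; exact hpσ) with h | h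
    · exact h.1 p hp (by rw [hx'o])
    · exfalso
      have hCH := ppH.centralizer_singleton_le x'.2 hx'1
      have := h.2.2.2 H hH hCH
      apply hnc 1
      rw [map_one, one_smul, this]
  -- N9
  have hsolv : Group.IsSolvable ↥M := solvable_of_ne_top hG pp.coatom.1
  obtain ⟨m, hm, hle⟩ := exists_conj_ge_of_hall hsolv pp.hall (le_sup_right.trans hJJ) hJsκ
  rw [map_conj_eq_smul] at hle
  have hX' : MulAut.conj m⁻¹ • X ≤ K := by
    rw [conj_smul_le_iff_le_inv, inv_inv]; exact hXJs.trans hle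
  have hXeq : MulAut.conj m⁻¹ • X = X :=
    pp.eq_of_card_eq hXK hXp hX' (card_conj_smul _ _)
  have hmN : m⁻¹ ∈ normalizer (X : Set G) := mem_normalizer_iff_smul_eq.mpr hXeq
  have hmZ : m⁻¹ ∈ M ⊓ normalizer (X : Set G) := Subgroup.mem_inf.mpr ⟨M.inv_mem hm, hmN⟩
  rw [(pp.norm X hXK hXp).1, ← (pp.norm X hXK hXp).2.1] at hmZ
  have hmK : MulAut.conj m • K = K := by
    have h1 : m ∈ normalizer (K : Set G) := by
      have := Subgroup.inv_mem _ (Subgroup.mem_inf.mp hmZ).2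
      rwa [inv_inv] at this
    exact smul_eq_of_mem_normalizer h1
  rw [hmK] at hle
  -- N10
  have hKNY : K ≤ normalizer (Y : Set G) :=
    le_normalizer_of_comm (A := Y) (B := K) (fun a ha b hb => (pp.comm hb (hYle ha)).symm)
  have hZle : K ⊔ Ks M K ≤ J ⊔ Ks H J := by
    rw [← hnY.1]
    refine le_inf hZH (sup_le hKNY ?_)
    have h1 : Ks M K ≤ H ⊓ normalizer (Y : Set G) := by
      rw [hnY.1]; exact hKsJ.trans le_sup_left
    exact h1.trans inf_le_right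
  exact ⟨ppH, hXJs, hle, hJZ, le_antisymm (sup_le hJZ (hle.trans le_sup_left)) hZle, hMH⟩

/-- **N11.** If moreover `J ∩ K = 1` then `J = K*` and `J* = K`: `H` is the partner `M*`. -/
theorem partner_of_inf_eq_bot (rows : Rows G) (hG : IsMinSimpleOddOrder G) (pp : PPair M K)
    {X H J : Subgroup G} (hXK : X ≤ K)
    (hXp : (Nat.card X).Prime) (hH : IsCoatom H) (hNX : normalizer (X : Set G) ≤ H)
    (hJ : Cfsg.IsPiHallOf (Cfsg.kappa H) J H) (hKsJ : Ks M K ≤ J) (hJK : J ⊓ K = ⊥) :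
    J = Ks M K ∧ Ks H J = K := by
  obtain ⟨ppH, hXJs, hJsK, hJZ, hZeq, -⟩ := partner_main rows hG pp hXK hXp hH hNX hJ hKsJ
  have hc1 := pp.card_Z
  have hc2 := ppH.card_Z
  rw [hZeq, hc1] at hc2
  -- `J` normalizes `K`
  have hZNK : K ⊔ Ks M K ≤ normalizer (K : Set G) := by
    rw [← (pp.norm X hXK hXp).2.1]; exact inf_le_right
  have h3 := Cfsg.Agent.Helper50.card_sup_mul_card_inf_of_le_normalizer K J (hJZ.trans hZNK)
  rw [inf_comm, hJK, Subgroup.card_bot, mul_one] at h3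
  have h4 : Nat.card ↥(K ⊔ J) ≤ Nat.card ↥(K ⊔ Ks M K) :=
    Nat.card_le_card_of_injective _ (Subgroup.inclusion_injective (sup_le le_sup_left hJZ))
  rw [h3, hc1] at h4
  have hKpos : 0 < Nat.card K := Nat.card_pos
  have h5 : Nat.card J ≤ Nat.card ↥(Ks M K) := Nat.le_of_mul_le_mul_left h4 hKpos
  have hJeq : Ks M K = J := Subgroup.eq_of_le_of_card_ge hKsJ h5
  have h6 : Nat.card ↥(Ks H J) = Nat.card K := by
    have hJc : Nat.card J = Nat.card ↥(Ks M K) := by rw [hJeq]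
    have hpos : 0 < Nat.card ↥(Ks M K) := Nat.card_pos
    have : Nat.card ↥(Ks H J) * Nat.card ↥(Ks M K) = Nat.card K * Nat.card ↥(Ks M K) := by
      rw [hc2, hJc, mul_comm]
    exact Nat.eq_of_mul_eq_mul_right hpos this
  exact ⟨hJeq.symm, Subgroup.eq_of_le_of_card_ge hJsK (le_of_eq h6.symm)⟩

end N

end Cfsg.Agent.Helper9.BG147
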