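import Mathlib
import Cfsg.Agent.Lib.Helper9.BG147f

/-!
# Bender–Glauberman Theorem 14.7 (core), part g: there is no clique of maximal subgroups of type `P₁`

A *clique* is a family `(L i, J i)` of `P`-pairs over a common `Z = J i · (J i)*` with
`⋂ J i = 1`, all `L i` of type `P₁` (`#L i = #(L i)_σ · #J i`) and pairwise non-conjugate.  The sets
`(L i)~` and the conjugates of `Ẑ = Z ∖ ⋃ (J i)*` would have more than `#G` elements in total.
The arithmetic (`sum_ncard_add_le'`, `clique_count_false'`) is adapted from helper19's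
`Lib/Helper19/CliqueCount.lean` (inequality instead of equality for `#Ẑ`).
-/

set_option autoImplicit false

namespace Cfsg.Agent.Helper9.BG147

open Subgroup Cfsg
open scoped Pointwise
open Cfsg.Agent.Helper33
open Cfsg.Agent.Helper34.BG
open Cfsg.Agent.Helper55.BGB

variable {G : Type*} [Group G]

omit [Group G] in
/-- Sum of cardinalities of pairwise disjoint sets plus one more disjoint set is at most `#G`. -/
theorem sum_ncard_add_le' [Finite G] {ι : Type*} [Fintype ι] (A : ι → Set G) (B : Set G)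
    (hdisj : Pairwise (fun i j => Disjoint (A i) (A j))) (hB : ∀ i, Disjoint (A i) B) :
    (∑ i, (A i).ncard) + B.ncard ≤ Nat.card G := by
  classical
  let _ : Fintype G := Fintype.ofFinite G
  have h1 : (∑ i, (A i).ncard)
      = ((Finset.univ : Finset ι).biUnion (fun i => (A i).toFinset)).card := by
    rw [Finset.card_biUnion]
    · refine Finset.sum_congr rfl (fun i _ => ?_)
      rw [Set.ncard_eq_toFinset_card']
    · intro i _ j _ hij
      have := hdisj hij
      show Disjoint (A i).toFinset (A j).toFinset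
      rw [Set.disjoint_toFinset]
      exact this
  have h2 : B.ncard = B.toFinset.card := Set.ncard_eq_toFinset_card' B
  have h3 : Disjoint ((Finset.univ : Finset ι).biUnion (fun i => (A i).toFinset)) B.toFinset := by
    rw [Finset.disjoint_biUnion_left]
    intro i _
    rw [Set.disjoint_toFinset]
    exact hB i
  rw [h1, h2, ← Finset.card_union_of_disjoint h3, Nat.card_eq_fintype_card]
  exact Finset.card_le_univ _

/-- The final inequality of the clique count. -/
theorem clique_count_false' [Finite G] {ι : Type*} [Fintype ι] (hι : 2 ≤ Fintype.card ι)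
    (Z : Subgroup G) (c : ι → ℕ) (m : ι → ℕ) (A : ι → Set G)
    (hm : ∀ i, 3 * c i ≤ m i) (hc : ∀ i, 0 < c i)
    (hA : ∀ i, (A i).ncard * (m i * Nat.card Z) = (m i - 1) * Nat.card G * c i)
    (hdisj : Pairwise (fun i j => Disjoint (A i) (A j)))
    (Zh : Set G)
    (hZhcard : Nat.card Z + Fintype.card ι ≤ Zh.ncard + 1 + ∑ i, c i)
    (hZhconj : ∀ h : G, ∀ z ∈ Zh, h * z * h⁻¹ ∈ Zh → h ∈ Z)
    (hZhZ : ∀ h ∈ Z, ∀ z ∈ Zh, h⁻¹ * z * h ∈ Zh)
    (hZhA : ∀ i, ∀ z ∈ Zh, ∀ g : G, g * z * g⁻¹ ∉ A i) : False := by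
  classical
  have hcount := card_mul_ncard_conj' Z Zh hZhZ hZhconj
  obtain ⟨B, hBdef⟩ : ∃ B : Set G, B = {a : G | ∃ g : G, ∃ z ∈ Zh, a = g * z * g⁻¹} := ⟨_, rfl⟩
  rw [← hBdef] at hcount
  have hBdisj : ∀ i, Disjoint (A i) B := by
    intro i
    rw [Set.disjoint_left]
    intro a ha hb
    rw [hBdef] at hb
    obtain ⟨g, z, hz, rfl⟩ := hb
    exact hZhA i z hz g ha
  have hle := sum_ncard_add_le' A B hdisj hBdisj
  -- move to ℚ
  have hG : (0 : ℚ) < Nat.card G := by exact_mod_cast Nat.card_pos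
  have hZ : (0 : ℚ) < Nat.card Z := by exact_mod_cast Nat.card_pos
  have hmpos : ∀ i, (0 : ℚ) < m i := by
    intro i
    have := hm i; have := hc i
    have : 0 < m i := by omega
    exact_mod_cast this
  have hAi : ∀ i, ((A i).ncard : ℚ)
      = ((m i : ℚ) - 1) * Nat.card G * c i / (m i * Nat.card Z) := by
    intro i
    have h := hA i
    have hm1 : 1 ≤ m i := by have := hm i; have := hc i; omega
    have : ((A i).ncard : ℚ) * ((m i : ℚ) * Nat.card Z) = ((m i : ℚ) - 1) * Nat.card G * c i := by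
      have := congrArg (fun n : ℕ => (n : ℚ)) h
      simp only [Nat.cast_mul] at this
      rw [Nat.cast_sub hm1] at this
      simpa using this
    rw [eq_div_iff (by have := hmpos i; positivity)]
    exact this
  have hS : (B.ncard : ℚ) = (Zh.ncard : ℚ) * Nat.card G / Nat.card Z := by
    rw [eq_div_iff (ne_of_gt hZ)]
    have := congrArg (fun n : ℕ => (n : ℚ)) hcount
    simp only [Nat.cast_mul] at this
    linarith
  have hZhq : (Nat.card Z : ℚ) + (Fintype.card ι : ℚ) ≤ (Zh.ncard : ℚ) + 1 + ∑ i, (c i : ℚ) := by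
    have := (Nat.cast_le (α := ℚ)).mpr hZhcard
    simpa using this
  have hleq : (∑ i, ((A i).ncard : ℚ)) + (B.ncard : ℚ) ≤ Nat.card G := by
    have := (Nat.cast_le (α := ℚ)).mpr hle
    simpa using this
  have hterm : ∀ i, ((A i).ncard : ℚ) ≥ ((c i : ℚ) - 1 / 3) * Nat.card G / Nat.card Z := by
    intro i
    rw [hAi i]
    have hmi := hmpos i
    have h3 : (3 : ℚ) * c i ≤ m i := by exact_mod_cast hm i
    rw [ge_iff_le, div_le_div_iff₀ hZ (by positivity)]
    have hcpos : (0 : ℚ) < c i := by exact_mod_cast hc i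
    nlinarith [mul_pos hG hZ, mul_pos (mul_pos hG hZ) hmi, mul_pos (mul_pos hG hZ) hcpos]
  have hsum : (∑ i, ((A i).ncard : ℚ))
      ≥ ∑ i, ((c i : ℚ) - 1 / 3) * Nat.card G / Nat.card Z :=
    Finset.sum_le_sum (fun i _ => hterm i)
  have hsum2 : (∑ i, ((c i : ℚ) - 1 / 3) * Nat.card G / Nat.card Z)
      = ((∑ i, (c i : ℚ)) - (Fintype.card ι : ℚ) / 3) * Nat.card G / Nat.card Z := by
    rw [← Finset.sum_div, ← Finset.sum_mul, Finset.sum_sub_distrib]
    simp [Finset.sum_const, Finset.card_univ]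
    ring
  have hNq : (2 : ℚ) ≤ Fintype.card ι := by exact_mod_cast hι
  -- multiply out
  have h1 : ((∑ i, (c i : ℚ)) - (Fintype.card ι : ℚ) / 3) * Nat.card G / Nat.card Z
      + (Zh.ncard : ℚ) * Nat.card G / Nat.card Z ≤ Nat.card G := by
    rw [← hsum2, ← hS]
    linarith
  rw [← add_div, div_le_iff₀ hZ] at h1
  nlinarith [mul_pos hG hZ]

theorem orderOf_conj_mul (h s : G) : orderOf (h * s * h⁻¹) = orderOf s := by
  have := orderOf_injective (MulAut.conj h).toMonoidHom (MulAut.conj h).injective s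
  simpa using this

section clique

variable [Finite G] {ι : Type*} [Fintype ι]

/-- `Ẑ` for a clique: the elements of `Z` outside all `(J i)* = Z ∩ (L i)_σ`. -/
def cliqueZhat (L J : ι → Subgroup G) (Z : Subgroup G) : Set G :=
  {z | z ∈ Z ∧ ∀ i, z ∉ Ks (L i) (J i)}

variable {L J : ι → Subgroup G} {Z : Subgroup G}

omit [Fintype ι] in
theorem cliqueZhat_components [Nonempty ι] (hpp : ∀ i, PPair (L i) (J i))
    (hZ : ∀ i, J i ⊔ Ks (L i) (J i) = Z)
    (hinf : ∀ z ∈ Z, (∀ i, z ∈ J i) → z = 1) {z : G} (hz : z ∈ cliqueZhat L J Z) :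
    ∃ i, ∃ w ∈ J i, w ≠ 1 ∧ ∃ s ∈ Ks (L i) (J i), s ≠ 1 ∧ z = w * s ∧
      w ∈ zpowers z ∧ s ∈ zpowers z := by
  obtain ⟨hzZ, hzn⟩ := hz
  have hz1 : z ≠ 1 := by
    rintro rfl
    exact hzn (Classical.arbitrary ι) (one_mem _)
  obtain ⟨i, hi⟩ : ∃ i, z ∉ J i := by
    by_contra h
    push Not at h
    exact hz1 (hinf z hzZ h)
  have hz' : z ∈ J i ⊔ Ks (L i) (J i) := by rw [hZ i]; exact hzZ
  obtain ⟨w, hw, s, hs, hzws, hwz, hsz⟩ := (hpp i).exists_mul hz'
  refine ⟨i, w, hw, ?_, s, hs, ?_, hzws, hwz, hsz⟩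
  · rintro rfl
    rw [one_mul] at hzws
    exact hzn i (hzws ▸ hs)
  · rintro rfl
    rw [mul_one] at hzws
    exact hi (hzws ▸ hw)

omit [Fintype ι] in
/-- `Ẑ` is a `TI`-set with normalizer `Z` (weak form). -/
theorem cliqueZhat_TI [Nonempty ι] (hpp : ∀ i, PPair (L i) (J i))
    (hZ : ∀ i, J i ⊔ Ks (L i) (J i) = Z)
    (hinf : ∀ z ∈ Z, (∀ i, z ∈ J i) → z = 1) {z h : G} (hz : z ∈ cliqueZhat L J Z)
    (hz' : h * z * h⁻¹ ∈ Z) : h ∈ Z := by
  obtain ⟨i, w, hw, hw1, s, hs, hs1, hzws, hwz, hsz⟩ := cliqueZhat_components hpp hZ hinf hz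
  have pp := hpp i
  have hconj_mem : ∀ a ∈ zpowers z, h * a * h⁻¹ ∈ J i ⊔ Ks (L i) (J i) := by
    intro a ha
    obtain ⟨k, rfl⟩ := Subgroup.mem_zpowers_iff.mp ha
    rw [hZ i, ← conj_zpow]
    exact Z.zpow_mem hz' k
  have hs'Ks : h * s * h⁻¹ ∈ Ks (L i) (J i) :=
    pp.mem_Ks_of_orderOf (hconj_mem s hsz)
      (by rw [orderOf_conj_mul]; exact Subgroup.orderOf_dvd_natCard _ hs)
  have hhL : h ∈ L i := by
    by_contra hne
    have h1 := pp.ti h hne
    have h2 : h * s * h⁻¹ ∈ Ks (L i) (J i) ⊓ (L i).map (MulAut.conj h).toMonoidHom := by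
      refine Subgroup.mem_inf.mpr ⟨hs'Ks, ?_⟩
      rw [map_conj_eq_smul]
      exact conj_mem_conj_smul (pp.Ks_le hs)
    rw [h1, Subgroup.mem_bot] at h2
    exact hs1 (conj_eq_one_iff.mp h2)
  have hw'J : h * w * h⁻¹ ∈ J i :=
    pp.mem_K_of_orderOf (hconj_mem w hwz)
      (by rw [orderOf_conj_mul]; exact Subgroup.orderOf_dvd_natCard _ hw)
  have hzw : zpowers w ≠ ⊥ := by rwa [Ne, Subgroup.zpowers_eq_bot]
  obtain ⟨X, hXle, hXp⟩ := exists_prime_card_le hzw
  have hXJ : X ≤ J i := hXle.trans (by rw [Subgroup.zpowers_le]; exact hw)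
  have hX'J : MulAut.conj h • X ≤ J i := by
    rw [conj_smul_le_iff]
    intro a ha
    obtain ⟨k, rfl⟩ := Subgroup.mem_zpowers_iff.mp (hXle ha)
    rw [← conj_zpow]
    exact (J i).zpow_mem hw'J k
  have hXeq : MulAut.conj h • X = X := pp.eq_of_card_eq hXJ hXp hX'J (card_conj_smul _ _)
  have hhN : h ∈ normalizer (X : Set G) := mem_normalizer_iff_smul_eq.mpr hXeq
  have hmem : h ∈ L i ⊓ normalizer (X : Set G) := Subgroup.mem_inf.mpr ⟨hhL, hhN⟩
  rw [(pp.norm X hXJ hXp).1, hZ i] at hmem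
  exact hmem

/-- **No clique.** -/
theorem no_clique (hG : IsMinSimpleOddOrder G) (hι : 2 ≤ Fintype.card ι)
    (L J : ι → Subgroup G) (Z : Subgroup G)
    (hpp : ∀ i, PPair (L i) (J i))
    (hZ : ∀ i, J i ⊔ Ks (L i) (J i) = Z)
    (hinf : ∀ z ∈ Z, (∀ i, z ∈ J i) → z = 1)
    (hP1 : ∀ i, Nat.card (L i) = Nat.card ↥(Cfsg.sigmaCore (L i)) * Nat.card (J i))
    (hnc : ∀ i j, i ≠ j → ∀ g : G, L j ≠ (L i).map (MulAut.conj g).toMonoidHom)
    (h1377 : ∀ i, Set.ncard (Cfsg.tildeOf (L i) ((Cfsg.sigmaCore (L i) : Set G) \ {1}))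
      = (Nat.card ↥(Cfsg.sigmaCore (L i)) - 1) * (L i).index)
    (hdisj : ∀ M N : Subgroup G, IsCoatom M → IsCoatom N →
      (∀ g : G, N ≠ M.map (MulAut.conj g).toMonoidHom) →
      Cfsg.tildeOf M ((Cfsg.sigmaCore M : Set G) \ {1}) ∩
        Cfsg.tildeOf N ((Cfsg.sigmaCore N : Set G) \ {1}) = ∅)
    (hT : ∀ i, ∀ k ∈ J i, k ≠ 1 → ∀ y ∈ Ks (L i) (J i), y ≠ 1 → ∀ (j : ι) (g : G),
      g * (k * y) * g⁻¹ ∉ Cfsg.tildeOf (L j) ((Cfsg.sigmaCore (L j) : Set G) \ {1})) : False := by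
  classical
  have hne : Nonempty ι := by
    rw [← Fintype.card_pos_iff]; omega
  refine clique_count_false' hι Z (fun i => Nat.card ↥(Ks (L i) (J i)))
    (fun i => Nat.card ↥(Cfsg.sigmaCore (L i)))
    (fun i => Cfsg.tildeOf (L i) ((Cfsg.sigmaCore (L i) : Set G) \ {1}))
    ?_ (fun i => Nat.card_pos) ?_ ?_ (cliqueZhat L J Z) ?_ ?_ ?_ ?_
  · -- `3 #Z_i ≤ #(L i)_σ`
    intro i
    have pp := hpp i
    have hdvd : Nat.card ↥(Ks (L i) (J i)) ∣ Nat.card ↥(Cfsg.sigmaCore (L i)) :=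
      Subgroup.card_dvd_of_le pp.Ks_le_sigmaCore
    have hneq : Nat.card ↥(Ks (L i) (J i)) ≠ Nat.card ↥(Cfsg.sigmaCore (L i)) := by
      intro heq
      have hKsEq : Ks (L i) (J i) = Cfsg.sigmaCore (L i) :=
        Subgroup.eq_of_le_of_card_ge pp.Ks_le_sigmaCore (le_of_eq heq.symm)
      have hc1 : Nat.card ↥(Ks (L i) (J i)) ≠ 1 :=
        fun h => pp.Ks_ne_bot (Subgroup.card_eq_one.mp h)
      obtain ⟨p, hp, hpd⟩ := Nat.exists_prime_and_dvd hc1
      have := Fact.mk hp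
      obtain ⟨S⟩ : Nonempty (Sylow p ↥(Cfsg.sigmaCore (L i))) := inferInstance
      obtain ⟨-, -, hnot⟩ := pp.syl p hp hpd S
      apply hnot
      rw [hKsEq]
      exact Subgroup.map_subtype_le _
    have hodd : Odd (Nat.card ↥(Cfsg.sigmaCore (L i))) := odd_card_subgroup hG _
    have hpos : 0 < Nat.card ↥(Cfsg.sigmaCore (L i)) := Nat.card_pos
    obtain ⟨k, hk⟩ := hdvd
    rw [hk] at hodd hneq hpos ⊢
    have hkodd : Odd k := (Nat.odd_mul.mp hodd).2
    have hk1 : k ≠ 1 := by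
      intro h; rw [h, mul_one] at hneq; exact hneq rfl
    have hk3 : 3 ≤ k := by
      obtain ⟨a, ha⟩ := hkodd
      omega
    calc 3 * Nat.card ↥(Ks (L i) (J i)) = Nat.card ↥(Ks (L i) (J i)) * 3 := by ring
      _ ≤ Nat.card ↥(Ks (L i) (J i)) * k := Nat.mul_le_mul_left _ hk3
  · -- the cardinality of `(L i)~`
    intro i
    have pp := hpp i
    have h1 := h1377 i
    have h2 := hP1 i
    have h3 : Nat.card Z = Nat.card (J i) * Nat.card ↥(Ks (L i) (J i)) := by
      rw [← hZ i]; exact pp.card_Z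
    have h4 : (L i).index * Nat.card (L i) = Nat.card G := (L i).index_mul_card
    rw [h1, h3, ← h4, h2]
    ring
  · -- pairwise disjoint
    intro i j hij
    rw [Set.disjoint_iff_inter_eq_empty]
    exact hdisj (L i) (L j) (hpp i).coatom (hpp j).coatom (hnc i j hij)
  · -- `#Ẑ`
    have hcov : (Z : Set G) ⊆ cliqueZhat L J Z ∪
        ({1} ∪ ⋃ i ∈ (Finset.univ : Finset ι), ((Ks (L i) (J i) : Set G) \ {1})) := by
      intro z hz
      by_cases h : ∀ i, z ∉ Ks (L i) (J i)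
      · exact Or.inl ⟨hz, h⟩
      · push Not at h
        obtain ⟨i, hi⟩ := h
        right
        by_cases hz1 : z = 1
        · left; exact hz1
        · right
          simp only [Set.mem_iUnion]
          exact ⟨i, Finset.mem_univ i, hi, hz1⟩
    have h1 := Set.ncard_le_ncard hcov (Set.toFinite _)
    have h2 := Set.ncard_union_le (cliqueZhat L J Z)
      ({1} ∪ ⋃ i ∈ (Finset.univ : Finset ι), ((Ks (L i) (J i) : Set G) \ {1}))
    have h3 := Set.ncard_union_le ({1} : Set G)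
      (⋃ i ∈ (Finset.univ : Finset ι), ((Ks (L i) (J i) : Set G) \ {1}))
    have h4 := Finset.set_ncard_biUnion_le (Finset.univ : Finset ι)
      (fun i => ((Ks (L i) (J i) : Set G) \ {1}))
    have h5 : ∀ i, (((Ks (L i) (J i) : Set G) \ {1})).ncard + 1 = Nat.card ↥(Ks (L i) (J i)) := by
      intro i
      have hsub : ({1} : Set G) ⊆ (Ks (L i) (J i) : Set G) := by
        intro a ha; rw [Set.mem_singleton_iff] at ha; rw [ha]; exact one_mem _
      have := Set.ncard_sdiff_add_ncard_of_subset hsub (Set.toFinite _)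
      rw [Set.ncard_singleton] at this
      rw [this]
      exact (Nat.card_coe_set_eq _).symm
    have h6 : (∑ i, (((Ks (L i) (J i) : Set G) \ {1})).ncard) + Fintype.card ι
        = ∑ i, Nat.card ↥(Ks (L i) (J i)) := by
      have : (Fintype.card ι) = ∑ _i : ι, 1 := by simp
      rw [this, ← Finset.sum_add_distrib]
      exact Finset.sum_congr rfl (fun i _ => h5 i)
    have h7 : Set.ncard (Z : Set G) = Nat.card Z := (Nat.card_coe_set_eq _).symm
    rw [Set.ncard_singleton] at h3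
    omega
  · -- TI
    intro h z hz hz'
    exact cliqueZhat_TI hpp hZ hinf hz hz'.1
  · -- `Z` normalizes `Ẑ`
    intro h hh z hz
    refine ⟨Z.mul_mem (Z.mul_mem (Z.inv_mem hh) hz.1) hh, fun i hmem => hz.2 i ?_⟩
    have pp := hpp i
    have hZN : Z ≤ normalizer ((Ks (L i) (J i) : Subgroup G) : Set G) := by
      rw [← hZ i]
      exact sup_le pp.K_le_normalizer_Ks Subgroup.le_normalizer
    have hhN := hZN (Z.inv_mem hh)
    have := (Subgroup.mem_normalizer_iff.mp hhN z).mpr (by rwa [inv_inv])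
    exact this
  · -- `Ẑ^G` misses the `(L j)~`
    intro j z hz g
    obtain ⟨i, w, hw, hw1, s, hs, hs1, hzws, -, -⟩ := cliqueZhat_components hpp hZ hinf hz
    rw [hzws]
    exact hT i w hw hw1 s hs hs1 j g

end clique

end Cfsg.Agent.Helper9.BG147
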