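import Mathlib
import Cfsg.Agent.Lib.Helper9.BG147g

/-!
# Bender–Glauberman Theorem 14.7 (core), part h: existence of the partner `M*`

For a `P`-pair `(M,K)` with `K` cyclic there is a maximal subgroup `M*` with `K = C_{M*_σ}(K*)` and
`K*` a Hall `κ(M*)`-subgroup of `M*`.  Candidates: `H_u ∈ 𝓜(N_G(X_u))` for the primes `u ∣ #K`; if `M`
is not of type `P₁` then `#K` is prime and `H_u` works; if some `H_u` is not of type `P₁` it works;
otherwise `M` and the `H_u` form a clique of type `P₁`, which is impossible.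
-/

set_option autoImplicit false

namespace Cfsg.Agent.Helper9.BG147

open Subgroup Cfsg
open scoped Pointwise
open Cfsg.Agent.Helper33
open Cfsg.Agent.Helper34.BG
open Cfsg.Agent.Helper55.BGB

variable {G : Type*} [Group G]

/-- The type-`P₁` condition: every prime divisor of `#M` outside `σ(M)` lies in `κ(M)`. -/
def IsP1 (M : Subgroup G) : Prop :=
  ∀ r : ℕ, r.Prime → r ∣ Nat.card M → r ∉ Cfsg.sigma M → r ∈ Cfsg.kappa M

/-- For a `P`-pair `(M,K)` (`K` not assumed cyclic) some candidate `H ∈ 𝓜(N_G(X))`, `X ≤ K` of prime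
order, with a Hall `κ(H)`-subgroup `J ⊇ K*`, has `J ∩ K = 1`; and `H` is not of type `P₁` if `M` is. -/
theorem exists_candidate [Finite G] (hG : IsMinSimpleOddOrder G) (rows : Rows G) {M K : Subgroup G}
    (pp : PPair M K)
    (h1377 : ∀ L : Subgroup G, IsCoatom L →
      Set.ncard (Cfsg.tildeOf L ((Cfsg.sigmaCore L : Set G) \ {1}))
        = (Nat.card ↥(Cfsg.sigmaCore L) - 1) * L.index)
    (hdisj : ∀ M N : Subgroup G, IsCoatom M → IsCoatom N →
      (∀ g : G, N ≠ M.map (MulAut.conj g).toMonoidHom) →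
      Cfsg.tildeOf M ((Cfsg.sigmaCore M : Set G) \ {1}) ∩
        Cfsg.tildeOf N ((Cfsg.sigmaCore N : Set G) \ {1}) = ∅)
    (hT : ∀ L J : Subgroup G, IsCoatom L → Cfsg.IsPiHallOf (Cfsg.kappa L) J L → J ≠ ⊥ →
      ∀ k ∈ J, k ≠ 1 → ∀ y ∈ Ks L J, y ≠ 1 → ∀ N : Subgroup G, IsCoatom N → ∀ g : G,
      g * (k * y) * g⁻¹ ∉ Cfsg.tildeOf N ((Cfsg.sigmaCore N : Set G) \ {1})) :
    ∃ X H J : Subgroup G, X ≤ K ∧ (Nat.card X).Prime ∧ IsCoatom H ∧
      normalizer (X : Set G) ≤ H ∧ Cfsg.IsPiHallOf (Cfsg.kappa H) J H ∧ Ks M K ≤ J ∧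
      J ⊓ K = ⊥ ∧ (IsP1 M → ¬ IsP1 H) := by
  classical
  -- the candidates
  have hex : ∀ u : ℕ, u.Prime → u ∣ Nat.card K → ∃ X H : Subgroup G, X ≤ K ∧ Nat.card X = u ∧
      IsCoatom H ∧ normalizer (X : Set G) ≤ H := by
    intro u hu hud
    have := Fact.mk hu
    obtain ⟨k, hk⟩ := exists_prime_orderOf_dvd_card' u hud
    have hXK : zpowers (k : G) ≤ K := by rw [Subgroup.zpowers_le]; exact k.2
    have hXc : Nat.card (zpowers (k : G)) = u := by
      rw [Nat.card_zpowers, Subgroup.orderOf_coe, hk]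
    have hX1 : zpowers (k : G) ≠ ⊥ := by
      intro h
      rw [h, Subgroup.card_bot] at hXc
      exact hu.one_lt.ne hXc
    have hXtop : zpowers (k : G) ≠ ⊤ := ne_top_of_le_ne_top pp.coatom.1 (hXK.trans pp.K_le)
    obtain ⟨H, hH, hle⟩ := exists_coatom_ge (normalizer_ne_top hG hX1 hXtop)
    exact ⟨_, H, hXK, hXc, hH, hle⟩
  choose! Xf Hf hXf using hex
  have hXp : ∀ u : ℕ, u.Prime → u ∣ Nat.card K → (Nat.card (Xf u)).Prime := by
    intro u hu hud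
    rw [(hXf u hu hud).2.1]; exact hu
  have hJex : ∀ u : ℕ, u.Prime → u ∣ Nat.card K →
      ∃ J : Subgroup G, Cfsg.IsPiHallOf (Cfsg.kappa (Hf u)) J (Hf u) ∧ Ks M K ≤ J := by
    intro u hu hud
    obtain ⟨hXK, hXc, hH, hNX⟩ := hXf u hu hud
    obtain ⟨-, hZH, -, hκ⟩ := partner_basic rows pp hXK (hXp u hu hud) hH hNX
    exact exists_hall_ge (solvable_of_ne_top hG hH.1) (le_sup_right.trans hZH) hκ
  obtain ⟨Jof, hJofdef⟩ : ∃ Jof : Subgroup G → Subgroup G, Jof = fun L =>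
      if L = M then K else
        if h : ∃ J : Subgroup G, Cfsg.IsPiHallOf (Cfsg.kappa L) J L ∧ Ks M K ≤ J then
          Classical.choose h else ⊥ := ⟨_, rfl⟩
  have hJofM : Jof M = K := by rw [hJofdef]; simp
  have hHne : ∀ u : ℕ, u.Prime → u ∣ Nat.card K → Hf u ≠ M := by
    intro u hu hud h
    obtain ⟨hXK, hXc, hH, hNX⟩ := hXf u hu hud
    obtain ⟨-, -, hnc, -⟩ := partner_basic rows pp hXK (hXp u hu hud) hH hNX
    apply hnc 1
    rw [map_one, one_smul, h]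
  have hJof : ∀ u : ℕ, u.Prime → u ∣ Nat.card K →
      Cfsg.IsPiHallOf (Cfsg.kappa (Hf u)) (Jof (Hf u)) (Hf u) ∧ Ks M K ≤ Jof (Hf u) := by
    intro u hu hud
    have h := hJex u hu hud
    have e : Jof (Hf u) = Classical.choose h := by
      rw [hJofdef]
      simp only
      rw [if_neg (hHne u hu hud), dif_pos h]
    rw [e]
    exact Classical.choose_spec h
  -- the facts on each candidate
  have hfacts : ∀ u : ℕ, u.Prime → u ∣ Nat.card K →
      PPair (Hf u) (Jof (Hf u)) ∧ Xf u ≤ Ks (Hf u) (Jof (Hf u)) ∧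
      Ks (Hf u) (Jof (Hf u)) ≤ K ∧
      Jof (Hf u) ⊔ Ks (Hf u) (Jof (Hf u)) = K ⊔ Ks M K ∧
      M ⊓ Cfsg.sigmaCore (Hf u) = Ks (Hf u) (Jof (Hf u)) := by
    intro u hu hud
    obtain ⟨hXK, hXc, hH, hNX⟩ := hXf u hu hud
    obtain ⟨hJ, hKsJ⟩ := hJof u hu hud
    obtain ⟨h1, h2, h3, -, h5, h6⟩ :=
      partner_main rows hG pp hXK (hXp u hu hud) hH hNX hJ hKsJ
    exact ⟨h1, h2, h3, h5, h6⟩
  -- the conclusion from `J ∩ K = 1`
  have hfinish : ∀ u : ℕ, u.Prime → u ∣ Nat.card K → Jof (Hf u) ⊓ K = ⊥ →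
      (IsP1 M → ¬ IsP1 (Hf u)) →
      ∃ X H J : Subgroup G, X ≤ K ∧ (Nat.card X).Prime ∧ IsCoatom H ∧
        normalizer (X : Set G) ≤ H ∧ Cfsg.IsPiHallOf (Cfsg.kappa H) J H ∧ Ks M K ≤ J ∧
        J ⊓ K = ⊥ ∧ (IsP1 M → ¬ IsP1 H) := by
    intro u hu hud hJK hP
    obtain ⟨hXK, hXc, hH, hNX⟩ := hXf u hu hud
    obtain ⟨hJ, hKsJ⟩ := hJof u hu hud
    exact ⟨Xf u, Hf u, Jof (Hf u), hXK, hXp u hu hud, hH, hNX, hJ, hKsJ, hJK, hP⟩
  have hK1 : Nat.card K ≠ 1 := fun h => pp.ne (Subgroup.card_eq_one.mp h)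
  by_cases hP1M : IsP1 M
  swap
  · -- `M` not of type `P₁`: `#K` is prime
    have hKp := pp.card_prime_of_not_P1 hG (rows.h1429 M pp.coatom) hP1M
    obtain ⟨hXK, hXc, hH, hNX⟩ := hXf (Nat.card K) hKp dvd_rfl
    have hXeqK : Xf (Nat.card K) = K := Subgroup.eq_of_le_of_card_ge hXK (le_of_eq hXc.symm)
    obtain ⟨ppH, hXJs, -, -, -⟩ := hfacts (Nat.card K) hKp dvd_rfl
    refine hfinish (Nat.card K) hKp dvd_rfl ?_ (fun h => absurd h hP1M)
    apply le_bot_iff.mp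
    rw [← ppH.K_inf_Ks]
    refine inf_le_inf_left _ ?_
    rw [hXeqK] at hXJs
    exact hXJs
  by_cases hall : ∀ u : ℕ, u.Prime → u ∣ Nat.card K → IsP1 (Hf u)
  swap
  · -- some `H_u` is not of type `P₁`: `#J_u` is prime, `J_u = K*`
    obtain ⟨u, hu'⟩ := not_forall.mp hall
    obtain ⟨hu, h2⟩ := Classical.not_imp.mp hu'
    obtain ⟨hud, hnP1⟩ := Classical.not_imp.mp h2
    obtain ⟨hXK, hXc, hH, hNX⟩ := hXf u hu hud
    obtain ⟨hJ, hKsJ⟩ := hJof u hu hud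
    obtain ⟨ppH, -, -, -, -⟩ := hfacts u hu hud
    have hJp := ppH.card_prime_of_not_P1 hG (rows.h1429 (Hf u) hH) hnP1
    have hJeq : Ks M K = Jof (Hf u) := by
      have hd := Subgroup.card_dvd_of_le hKsJ
      rcases (Nat.dvd_prime hJp).mp hd with h | h
      · exact absurd (Subgroup.card_eq_one.mp h) pp.Ks_ne_bot
      · exact Subgroup.eq_of_le_of_card_ge hKsJ (le_of_eq h.symm)
    refine hfinish u hu hud ?_ (fun _ => hnP1)
    rw [← hJeq, inf_comm]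
    exact pp.K_inf_Ks
  -- all of type `P₁`: a clique
  exfalso
  obtain ⟨S, hSdef⟩ : ∃ S : Finset (Subgroup G),
      S = insert M ((Nat.card K).primeFactors.image Hf) := ⟨_, rfl⟩
  have hmemS : ∀ L ∈ S, L = M ∨ ∃ u : ℕ, u.Prime ∧ u ∣ Nat.card K ∧ L = Hf u := by
    intro L hL
    rw [hSdef, Finset.mem_insert, Finset.mem_image] at hL
    rcases hL with h | ⟨u, hu, rfl⟩
    · exact Or.inl h
    · rw [Nat.mem_primeFactors] at hu
      exact Or.inr ⟨u, hu.1, hu.2.1, rfl⟩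
  have hMS : M ∈ S := by rw [hSdef]; exact Finset.mem_insert_self _ _
  have hHS : ∀ u : ℕ, u.Prime → u ∣ Nat.card K → Hf u ∈ S := by
    intro u hu hud
    rw [hSdef]
    apply Finset.mem_insert_of_mem
    rw [Finset.mem_image]
    exact ⟨u, Nat.mem_primeFactors.mpr ⟨hu, hud, Nat.card_pos.ne'⟩, rfl⟩
  have hpos : 0 < Nat.card K := Nat.card_pos
  obtain ⟨u0, hu0, hu0d⟩ := Nat.exists_prime_and_dvd hK1
  have hcard : 2 ≤ Fintype.card ↥S := by
    rw [Fintype.card_coe]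
    exact Finset.one_lt_card.mpr ⟨M, hMS, Hf u0, hHS u0 hu0 hu0d, (hHne u0 hu0 hu0d).symm⟩
  have hpp : ∀ i : ↥S, PPair i.1 (Jof i.1) := by
    rintro ⟨L, hL⟩
    rcases hmemS L hL with rfl | ⟨u, hu, hud, rfl⟩
    · simp only; rw [hJofM]; exact pp
    · exact (hfacts u hu hud).1
  have hZ : ∀ i : ↥S, Jof i.1 ⊔ Ks i.1 (Jof i.1) = K ⊔ Ks M K := by
    rintro ⟨L, hL⟩
    rcases hmemS L hL with rfl | ⟨u, hu, hud, rfl⟩
    · simp only; rw [hJofM]
    · exact (hfacts u hu hud).2.2.2.1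
  have hinf : ∀ z ∈ K ⊔ Ks M K, (∀ i : ↥S, z ∈ Jof i.1) → z = 1 := by
    intro z _ hz
    by_contra hz1
    have hzK : z ∈ K := by
      have := hz ⟨M, hMS⟩
      simp only at this
      rwa [hJofM] at this
    have hzw : zpowers z ≠ ⊥ := by rwa [Ne, Subgroup.zpowers_eq_bot]
    obtain ⟨X', hX'le, hX'p⟩ := exists_prime_card_le hzw
    have hX'K : X' ≤ K := hX'le.trans (by rw [Subgroup.zpowers_le]; exact hzK)
    have hud : Nat.card X' ∣ Nat.card K := Subgroup.card_dvd_of_le hX'K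
    obtain ⟨hXK, hXc, hH, hNX⟩ := hXf _ hX'p hud
    obtain ⟨ppH, hXJs, -, -, -⟩ := hfacts _ hX'p hud
    have hXeq : Xf (Nat.card X') = X' :=
      pp.eq_of_card_eq hX'K hX'p hXK hXc
    have hzJ : z ∈ Jof (Hf (Nat.card X')) := hz ⟨_, hHS _ hX'p hud⟩
    have hX'J : X' ≤ Jof (Hf (Nat.card X')) :=
      hX'le.trans (by rw [Subgroup.zpowers_le]; exact hzJ)
    have hbot : X' ≤ ⊥ := by
      rw [← ppH.K_inf_Ks]
      exact le_inf hX'J ((le_of_eq hXeq.symm).trans hXJs)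
    have : X' = ⊥ := le_bot_iff.mp hbot
    rw [this, Subgroup.card_bot] at hX'p
    exact Nat.not_prime_one hX'p
  have hP1 : ∀ i : ↥S, Nat.card i.1 = Nat.card ↥(Cfsg.sigmaCore i.1) * Nat.card (Jof i.1) := by
    rintro ⟨L, hL⟩
    refine (hpp ⟨L, hL⟩).card_of_P1 ?_
    rcases hmemS L hL with rfl | ⟨u, hu, hud, rfl⟩
    · exact hP1M
    · exact hall u hu hud
  -- non-conjugacy
  have hncM : ∀ u : ℕ, u.Prime → u ∣ Nat.card K → ∀ g : G, MulAut.conj g • Hf u ≠ M := by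
    intro u hu hud
    obtain ⟨hXK, hXc, hH, hNX⟩ := hXf u hu hud
    exact (partner_basic rows pp hXK (hXp u hu hud) hH hNX).2.2.1
  have hncH : ∀ u : ℕ, u.Prime → u ∣ Nat.card K → ∀ u' : ℕ, u'.Prime → u' ∣ Nat.card K →
      Hf u ≠ Hf u' → ∀ g : G, Hf u' ≠ MulAut.conj g • Hf u := by
    intro u hu hud u' hu' hud' hne g hconj
    apply hne
    obtain ⟨hXK, hXc, hH, hNX⟩ := hXf u hu hud
    obtain ⟨hXK', hXc', hH', hNX'⟩ := hXf u' hu' hud'
    obtain ⟨ppH, hXJs, hJsK, hZeq, hMH⟩ := hfacts u hu hud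
    obtain ⟨hXH', -, -, -⟩ := partner_basic rows pp hXK' (hXp u' hu' hud') hH' hNX'
    obtain ⟨-, hZH, -, -⟩ := partner_basic rows pp hXK (hXp u hu hud) hH hNX
    have hσ : Cfsg.sigma (Hf u') = Cfsg.sigma (Hf u) := by
      rw [hconj]
      exact Cfsg.Agent.Helper25.BGNat.sigma_cj g (Hf u)
    have hu'σ : u' ∈ Cfsg.sigma (Hf u) := by
      rw [← hσ]
      apply isPi_sigmaCore (Hf u') u' hu'
      have hdv := Subgroup.card_dvd_of_le hXH'
      rwa [hXc'] at hdv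
    have hX'H : Xf u' ≤ Cfsg.sigmaCore (Hf u) :=
      le_sigmaCore_of_isPGroup hu' (rows.hall (Hf u) hH).1 hu'σ
        ((hXK'.trans le_sup_left).trans hZH)
        (IsPGroup.of_card (n := 1) (by rw [pow_one, hXc']))
    have hX'Ks : Xf u' ≤ Ks (Hf u) (Jof (Hf u)) := by
      rw [← hMH]
      exact le_inf (hXK'.trans pp.K_le) hX'H
    have hC := rows.lemmaC hG ppH
      (fun q A hq hA hAp => isCyclic_of_hall_kappa pp.hall q A hq (hA.trans hJsK) hAp)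
      (Xf u') hX'Ks (hXp u' hu' hud')
    exact (hC.2 (Hf u') hH' ((Subgroup.centralizer_le_normalizer _).trans hNX')).symm
  have hnc : ∀ i j : ↥S, i ≠ j → ∀ g : G, j.1 ≠ i.1.map (MulAut.conj g).toMonoidHom := by
    rintro ⟨L, hL⟩ ⟨L', hL'⟩ hij g
    have hLL' : L ≠ L' := fun h => hij (Subtype.ext h)
    simp only
    rw [map_conj_eq_smul]
    rcases hmemS L hL with rfl | ⟨u, hu, hud, rfl⟩
    · rcases hmemS L' hL' with rfl | ⟨u', hu', hud', rfl⟩
      · exact absurd rfl hLL'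
      · intro h
        apply hncM u' hu' hud' g⁻¹
        rw [h, conj_inv_smul_smul]
    · rcases hmemS L' hL' with rfl | ⟨u', hu', hud', rfl⟩
      · intro h
        exact hncM u hu hud g h.symm
      · exact hncH u hu hud u' hu' hud' hLL' g
  exact no_clique hG hcard (fun i : ↥S => i.1) (fun i : ↥S => Jof i.1) (K ⊔ Ks M K) hpp hZ hinf hP1
    hnc (fun i => h1377 i.1 (hpp i).coatom) hdisj
    (fun i k hk hk1 y hy hy1 j g =>
      hT i.1 (Jof i.1) (hpp i).coatom (hpp i).hall (hpp i).ne k hk hk1 y hy hy1 j.1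
        (hpp j).coatom g)

/-- **Existence of the partner `M*`** (B-G 14.7). -/
theorem exists_partner [Finite G] (hG : IsMinSimpleOddOrder G) (rows : Rows G) {M K : Subgroup G}
    (pp : PPair M K) (_hKc : IsCyclic K)
    (h1377 : ∀ L : Subgroup G, IsCoatom L →
      Set.ncard (Cfsg.tildeOf L ((Cfsg.sigmaCore L : Set G) \ {1}))
        = (Nat.card ↥(Cfsg.sigmaCore L) - 1) * L.index)
    (hdisj : ∀ M N : Subgroup G, IsCoatom M → IsCoatom N →
      (∀ g : G, N ≠ M.map (MulAut.conj g).toMonoidHom) →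
      Cfsg.tildeOf M ((Cfsg.sigmaCore M : Set G) \ {1}) ∩
        Cfsg.tildeOf N ((Cfsg.sigmaCore N : Set G) \ {1}) = ∅)
    (hT : ∀ L J : Subgroup G, IsCoatom L → Cfsg.IsPiHallOf (Cfsg.kappa L) J L → J ≠ ⊥ →
      ∀ k ∈ J, k ≠ 1 → ∀ y ∈ Ks L J, y ≠ 1 → ∀ N : Subgroup G, IsCoatom N → ∀ g : G,
      g * (k * y) * g⁻¹ ∉ Cfsg.tildeOf N ((Cfsg.sigmaCore N : Set G) \ {1})) :
    ∃ Mstar : Subgroup G, IsCoatom Mstar ∧
      K = Cfsg.sigmaCore Mstar ⊓ Subgroup.centralizer ((Ks M K : Subgroup G) : Set G) ∧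
      Cfsg.IsPiHallOf (Cfsg.kappa Mstar) (Ks M K) Mstar := by
  obtain ⟨X, H, J, hXK, hXp, hH, hNX, hJ, hKsJ, hJK, -⟩ :=
    exists_candidate hG rows pp h1377 hdisj hT
  obtain ⟨h1, h2⟩ := partner_of_inf_eq_bot rows hG pp hXK hXp hH hNX hJ hKsJ hJK
  refine ⟨H, hH, ?_, ?_⟩
  · rw [h1] at h2
    exact h2.symm
  · rw [← h1]; exact hJ

/-- **Hall `κ(M)`-subgroups are cyclic** (B-G 14.7(c),(f) → the row S1351), from the rows. -/
theorem isCyclic_of_isPiHallOf_kappa [Finite G] (hG : IsMinSimpleOddOrder G) (rows : Rows G)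
    (h1377 : ∀ L : Subgroup G, IsCoatom L →
      Set.ncard (Cfsg.tildeOf L ((Cfsg.sigmaCore L : Set G) \ {1}))
        = (Nat.card ↥(Cfsg.sigmaCore L) - 1) * L.index)
    (hdisj : ∀ M N : Subgroup G, IsCoatom M → IsCoatom N →
      (∀ g : G, N ≠ M.map (MulAut.conj g).toMonoidHom) →
      Cfsg.tildeOf M ((Cfsg.sigmaCore M : Set G) \ {1}) ∩
        Cfsg.tildeOf N ((Cfsg.sigmaCore N : Set G) \ {1}) = ∅)
    (hT : ∀ L J : Subgroup G, IsCoatom L → Cfsg.IsPiHallOf (Cfsg.kappa L) J L → J ≠ ⊥ →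
      ∀ k ∈ J, k ≠ 1 → ∀ y ∈ Ks L J, y ≠ 1 → ∀ N : Subgroup G, IsCoatom N → ∀ g : G,
      g * (k * y) * g⁻¹ ∉ Cfsg.tildeOf N ((Cfsg.sigmaCore N : Set G) \ {1}))
    {M K : Subgroup G} (hM : IsCoatom M) (hK : Cfsg.IsPiHallOf (Cfsg.kappa M) K M) :
    IsCyclic K := by
  classical
  by_cases hK1 : K = ⊥
  · subst hK1
    exact isCyclic_of_subsingleton
  have pp : PPair M K := rows.pp M K hM hK hK1
  by_cases hP1M : IsP1 M
  swap
  · have hKp := pp.card_prime_of_not_P1 hG (rows.h1429 M hM) hP1M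
    have := Fact.mk hKp
    exact isCyclic_of_prime_card rfl
  obtain ⟨X, H, J, hXK, hXp, hH, hNX, hJ, hKsJ, hJK, hnP1⟩ :=
    exists_candidate hG rows pp h1377 hdisj hT
  have hnP1H := hnP1 hP1M
  obtain ⟨h1, h2⟩ := partner_of_inf_eq_bot rows hG pp hXK hXp hH hNX hJ hKsJ hJK
  have hKle : K ≤ Cfsg.sigmaCore H := by
    rw [← h2]; exact inf_le_left
  -- `H_σ` is nilpotent
  have hnil : Group.IsNilpotent ↥(Cfsg.sigmaCore H) := by
    have hnP1H' := hnP1H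
    unfold IsP1 at hnP1H'
    push Not at hnP1H'
    obtain ⟨s, hs, hsH, hsσ, hsκ⟩ := hnP1H'
    have := Fact.mk hs
    obtain ⟨S⟩ : Nonempty (Sylow s ↥H) := inferInstance
    exact (rows.h1429 H hH hnP1H s hsH
      (by simp only [Set.mem_union, not_or]; exact ⟨hsσ, hsκ⟩) S).2
  -- `K` is a nilpotent `Z`-group
  have hKnil : Group.IsNilpotent ↥K := by
    have h3 : Group.IsNilpotent ↥(K.subgroupOf (Cfsg.sigmaCore H)) := inferInstance
    exact (Group.isNilpotent_congr (Subgroup.subgroupOfEquivOfLe hKle)).mp h3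
  have hKZ : IsZGroup ↥K := by
    refine ⟨fun p hp P => ?_⟩
    have hle : (P : Subgroup ↥K).map K.subtype ≤ K := Subgroup.map_subtype_le _
    have hpg : IsPGroup p ↥((P : Subgroup ↥K).map K.subtype) :=
      P.2.map K.subtype
    have hc := isCyclic_of_hall_kappa hK p _ hp hle hpg
    have e : (P : Subgroup ↥K) ≃* ↥((P : Subgroup ↥K).map K.subtype) :=
      (P : Subgroup ↥K).equivMapOfInjective K.subtype K.subtype_injective
    exact e.isCyclic.mpr hc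
  infer_instance

end Cfsg.Agent.Helper9.BG147
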