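import Mathlib
import Cfsg.Agent.Lib.Helper7.M11LADefs

/-! M11LA piece (K7) `tf` for helper7's S0435 server: pair counting. -/

set_option autoImplicit false

namespace Cfsg.Agent.Helper9.M11LA

open Subgroup Cfsg.Agent.Helper7.M11LA

variable {G : Type*} [Group G] [Finite G]

theorem tf (c Y : Set G) (m : ℕ) (h1 : (1 : G) ∉ Y)
    (h : ∀ y ∈ Y, m ≤ Nat.card {s : G // s ∈ c ∧ s * y ∈ c}) :
    Nat.card c + m * Nat.card Y ≤ Nat.card c ^ 2 := by
  classical
  haveI : Fintype Y := Fintype.ofFinite Y
  let T : Y → Type _ := fun y => {s : G // s ∈ c ∧ s * (y : G) ∈ c}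
  let f : (c ⊕ (Σ y : Y, T y)) → c × c := fun x =>
    match x with
    | Sum.inl s => (s, s)
    | Sum.inr ⟨y, s⟩ => (⟨s.1, s.2.1⟩, ⟨s.1 * (y : G), s.2.2⟩)
  have hf : Function.Injective f := by
    rintro (s | ⟨y, s⟩) (s' | ⟨y', s'⟩) hxy
    · simp only [f, Prod.mk.injEq] at hxy
      rw [hxy.1]
    · exfalso
      simp only [f, Prod.mk.injEq] at hxy
      obtain ⟨ha, hb⟩ := hxy
      have ha' : (s : G) = s'.1 := congrArg Subtype.val ha
      have hb' : (s : G) = s'.1 * (y' : G) := congrArg Subtype.val hb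
      rw [ha'] at hb'
      have : (y' : G) = 1 := by
        have := hb'.symm
        rwa [mul_eq_left] at this
      exact h1 (this ▸ y'.2)
    · exfalso
      simp only [f, Prod.mk.injEq] at hxy
      obtain ⟨ha, hb⟩ := hxy
      have ha' : s.1 = (s' : G) := congrArg Subtype.val ha
      have hb' : s.1 * (y : G) = (s' : G) := congrArg Subtype.val hb
      rw [ha'] at hb'
      have : (y : G) = 1 := by rwa [mul_eq_left] at hb'
      exact h1 (this ▸ y.2)
    · simp only [f, Prod.mk.injEq] at hxy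
      obtain ⟨ha, hb⟩ := hxy
      have ha' : s.1 = s'.1 := congrArg Subtype.val ha
      have hb' : s.1 * (y : G) = s'.1 * (y' : G) := congrArg Subtype.val hb
      rw [ha'] at hb'
      have hy : (y : G) = (y' : G) := mul_left_cancel hb'
      have hyy : y = y' := Subtype.ext hy
      subst hyy
      have : s = s' := Subtype.ext ha'
      rw [this]
  have hle := Nat.card_le_card_of_injective f hf
  rw [Nat.card_prod, Nat.card_sum, Nat.card_sigma] at hle
  have hsum : m * Nat.card Y ≤ ∑ y : Y, Nat.card (T y) := by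
    calc m * Nat.card Y = ∑ _y : Y, m := by
          rw [Finset.sum_const, Finset.card_univ, Nat.card_eq_fintype_card, smul_eq_mul, mul_comm]
      _ ≤ ∑ y : Y, Nat.card (T y) := Finset.sum_le_sum (fun y _ => h y y.2)
  calc Nat.card c + m * Nat.card Y ≤ Nat.card c + ∑ y : Y, Nat.card (T y) :=
        Nat.add_le_add_left hsum _
    _ ≤ Nat.card c * Nat.card c := hle
    _ = Nat.card c ^ 2 := (sq _).symm

end Cfsg.Agent.Helper9.M11LA
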