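import Mathlib
import Cfsg.Prelude.Def_Transfer
import Cfsg.Agent.Lib.Helper2.Frobenius
import Cfsg.Agent.Lib.Helper9.MinNonNilp

set_option autoImplicit false

namespace Cfsg.Agent.Helper9

universe u

/-- A non-abelian finite simple group has no normal `p`-complement for a prime `p` dividing its
order. -/
theorem not_hasNormalPComplement_of_simple {G : Type*} [Group G] [Finite G] [IsSimpleGroup G]
    (hG : ¬ IsMulCommutative G) (p : ℕ) [hp : Fact p.Prime] (hdvd : p ∣ Nat.card G) :
    ¬ Cfsg.HasNormalPComplement p G := by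
  rintro ⟨P, N, hNn, hNc⟩
  rcases hNn.eq_bot_or_eq_top with hN | hN
  · rw [hN, Subgroup.isComplement'_bot_left] at hNc
    -- G is a p-group
    have hGp : IsPGroup p G := by
      intro x
      have hx : x ∈ (P : Subgroup G) := by rw [hNc]; trivial
      obtain ⟨k, hk⟩ := P.isPGroup' ⟨x, hx⟩
      refine ⟨k, ?_⟩
      have := congrArg Subtype.val hk
      simpa using this
    haveI : Nontrivial (Subgroup.center G) := hGp.center_nontrivial
    have hc : Subgroup.center G = ⊤ := by
      rcases (inferInstance : (Subgroup.center G).Normal).eq_bot_or_eq_top with h | h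
      · exfalso
        have : Subsingleton (Subgroup.center G) := by
          rw [h]; infer_instance
        exact not_subsingleton _ this
      · exact h
    exact hG (Subgroup.center_eq_top_iff.mp hc)
  · rw [hN, Subgroup.isComplement'_top_left] at hNc
    have h1 : Nat.card (P : Subgroup G) = 1 := by rw [hNc]; simp
    have h2 := P.card_eq_multiplicity
    rw [h1] at h2
    have h3 : (Nat.card G).factorization p ≠ 0 := by
      have hpos : 0 < (Nat.card G).factorization p :=
        hp.out.factorization_pos_of_dvd Nat.card_pos.ne' hdvd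
      exact hpos.ne'
    have : 1 < p ^ (Nat.card G).factorization p := Nat.one_lt_pow h3 hp.out.one_lt
    omega

/-- In a non-abelian finite simple group, for every prime `p` dividing the order there are a
`p`-subgroup `X` and an element `g` of prime power order `r ^ k`, `r ≠ p`, normalizing but not
centralizing `X`. -/
theorem exists_nontrivial_coprime_action_of_simple {G : Type u} [Group G] [Finite G]
    [IsSimpleGroup G] (hG : ¬ IsMulCommutative G) (p : ℕ) [hp : Fact p.Prime]
    (hdvd : p ∣ Nat.card G) :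
    ∃ (X : Subgroup G) (g : G) (r k : ℕ), IsPGroup p X ∧ r.Prime ∧ r ≠ p ∧ k ≠ 0 ∧
      orderOf g = r ^ k ∧ g ∈ Subgroup.normalizer (X : Set G) ∧
      g ∉ Subgroup.centralizer (X : Set G) := by
  have h2 : ¬ Cfsg.Agent.Helper2.FrobCond p G := fun hF =>
    not_hasNormalPComplement_of_simple hG p hdvd (Cfsg.Agent.Helper2.frobenius p hF)
  unfold Cfsg.Agent.Helper2.FrobCond at h2
  push Not at h2
  obtain ⟨X, hX, g0, hg0N, hg0cop, hg0C⟩ := h2
  obtain ⟨m, r, k, hr, hord, hgC⟩ := exists_pow_prime_pow_not_mem
    (Subgroup.centralizer (X : Set G)) (orderOf g0) g0 rfl (orderOf_pos g0) hg0C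
  have hgN : g0 ^ m ∈ Subgroup.normalizer (X : Set G) := Subgroup.pow_mem _ hg0N m
  have hk0 : k ≠ 0 := by
    rintro rfl
    rw [pow_zero, orderOf_eq_one_iff] at hord
    exact hgC (hord ▸ Subgroup.one_mem _)
  have hrp : r ≠ p := by
    rintro rfl
    have h3 : r ∣ orderOf (g0 ^ m) := by rw [hord]; exact dvd_pow_self r hk0
    have h4 : orderOf (g0 ^ m) ∣ orderOf g0 := orderOf_pow_dvd m
    have h5 : r ∣ Nat.gcd (orderOf g0) r := Nat.dvd_gcd (h3.trans h4) dvd_rfl
    rw [Nat.Coprime] at hg0cop
    rw [hg0cop] at h5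
    exact hr.one_lt.ne' (Nat.dvd_one.mp h5)
  exact ⟨X, g0 ^ m, r, k, hX, hr, hrp, hk0, hord, hgN, hgC⟩

end Cfsg.Agent.Helper9
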