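import Mathlib

set_option autoImplicit false

namespace Cfsg.Agent.Helper9

open Subgroup MulAction

section

variable {G : Type*} [Group G] (M : Subgroup G) [hMn : M.Normal]

/-- minimal normal subgroup of a solvable group is abelian -/
theorem minNormal_comm [Group.IsSolvable G] (hM : M ≠ ⊥)
    (hmin : ∀ K : Subgroup G, K.Normal → K ≤ M → K = ⊥ ∨ K = M) :
    ∀ a ∈ M, ∀ b ∈ M, a * b = b * a := by
  have hlt : ⁅M, M⁆ < M := Group.IsSolvable.commutator_lt_of_ne_bot hM
  have hbot : ⁅M, M⁆ = ⊥ := by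
    rcases hmin ⁅M, M⁆ inferInstance hlt.le with h | h
    · exact h
    · exact absurd h hlt.ne
  rw [Subgroup.commutator_eq_bot_iff_le_centralizer] at hbot
  intro a ha b hb
  have := hbot ha
  rw [mem_centralizer_iff] at this
  exact (this b hb).symm

/-- the `p`-torsion of an abelian normal subgroup as a normal subgroup -/
def torsionIn (hcomm : ∀ a ∈ M, ∀ b ∈ M, a * b = b * a) (p : ℕ) : Subgroup G where
  carrier := {g | g ∈ M ∧ g ^ p = 1}
  one_mem' := ⟨M.one_mem, one_pow p⟩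
  mul_mem' := by
    rintro a b ⟨ha, ha'⟩ ⟨hb, hb'⟩
    refine ⟨M.mul_mem ha hb, ?_⟩
    rw [(show Commute a b from hcomm a ha b hb).mul_pow, ha', hb', one_mul]
  inv_mem' := by
    rintro a ⟨ha, ha'⟩
    exact ⟨M.inv_mem ha, by rw [inv_pow, ha', inv_one]⟩

theorem torsionIn_normal (hcomm : ∀ a ∈ M, ∀ b ∈ M, a * b = b * a) (p : ℕ) :
    (torsionIn M hcomm p).Normal := by
  constructor
  rintro a ⟨ha, ha'⟩ g
  exact ⟨hMn.conj_mem a ha g, by rw [conj_pow, ha', mul_one, mul_inv_cancel]⟩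

theorem minNormal_card [Finite G] [Group.IsSolvable G] (hM : M ≠ ⊥)
    (hmin : ∀ K : Subgroup G, K.Normal → K ≤ M → K = ⊥ ∨ K = M) :
    ∃ p d : ℕ, p.Prime ∧ 0 < d ∧ Nat.card M = p ^ d := by
  have hcomm := minNormal_comm M hM hmin
  have hnt : Nontrivial M := (Subgroup.nontrivial_iff_ne_bot M).mpr hM
  have h1 : 1 < Nat.card M := Finite.one_lt_card_iff_nontrivial.mpr hnt
  obtain ⟨p, hp, hpd⟩ := Nat.exists_prime_and_dvd (ne_of_gt h1)
  have : Fact p.Prime := ⟨hp⟩
  obtain ⟨x, hx⟩ := exists_prime_orderOf_dvd_card' p hpd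
  have hK : torsionIn M hcomm p = M := by
    rcases hmin (torsionIn M hcomm p) (torsionIn_normal M hcomm p) (fun g hg => hg.1) with h | h
    · exfalso
      have hxK : (x : G) ∈ torsionIn M hcomm p := by
        refine ⟨x.2, ?_⟩
        have : x ^ p = 1 := by rw [← hx]; exact pow_orderOf_eq_one x
        have := congrArg Subtype.val this
        simpa using this
      rw [h, mem_bot] at hxK
      have hx1 : x = 1 := Subtype.ext hxK
      rw [hx1, orderOf_one] at hx
      exact hp.one_lt.ne hx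
    · exact h
  have hpg : IsPGroup p M := by
    intro g
    refine ⟨1, ?_⟩
    have hg : (g : G) ∈ torsionIn M hcomm p := by rw [hK]; exact g.2
    rw [pow_one]
    exact Subtype.ext (by simpa using hg.2)
  obtain ⟨d, hd⟩ := IsPGroup.iff_card.mp hpg
  refine ⟨p, d, hp, ?_, hd⟩
  rcases Nat.eq_zero_or_pos d with h0 | h0
  · rw [h0, pow_zero] at hd; omega
  · exact h0

variable {Ω : Type*} [MulAction G Ω] [FaithfulSMul G Ω]

theorem minNormal_pretransitive (hprim : IsPreprimitive G Ω) (hM : M ≠ ⊥) :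
    IsPretransitive M Ω := by
  apply IsQuasiPreprimitive.isPretransitive_of_normal (N := M)
  intro hfix
  apply hM
  rw [eq_bot_iff]
  intro m hm
  rw [mem_bot]
  apply FaithfulSMul.eq_of_smul_eq_smul (α := Ω)
  intro ω
  have : ω ∈ fixedPoints M Ω := by rw [hfix]; trivial
  rw [one_smul]
  exact this ⟨m, hm⟩

theorem minNormal_free [Group.IsSolvable G] (hprim : IsPreprimitive G Ω) (hM : M ≠ ⊥)
    (hmin : ∀ K : Subgroup G, K.Normal → K ≤ M → K = ⊥ ∨ K = M) (ω : Ω) (m : G) (hm : m ∈ M)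
    (hfix : m • ω = ω) : m = 1 := by
  have hcomm := minNormal_comm M hM hmin
  have htr := minNormal_pretransitive M hprim hM
  apply FaithfulSMul.eq_of_smul_eq_smul (α := Ω)
  intro ω'
  obtain ⟨n, hn⟩ := htr.exists_smul_eq ω ω'
  have hn' : (n : G) • ω = ω' := hn
  rw [one_smul, ← hn', ← mul_smul, hcomm m hm n n.2, mul_smul, hfix]

end

end Cfsg.Agent.Helper9
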