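import Mathlib
import Cfsg.Agent.Lib.Helper32.C3Defs
import Cfsg.Agent.Lib.Helper48.SympRep
import Cfsg.Agent.Lib.Helper8.InvCent
import Cfsg.Agent.S0095

set_option autoImplicit false
set_option linter.unusedSectionVars false

namespace Cfsg.Agent.Helper9.C3

open Cfsg.Agent.Helper32.C3 Cfsg.Agent.Helper48.SympRep

universe u v

section S3

variable {G : Type u} [Group G] [Finite G] {V : Type v} [AddCommGroup V]
    [Module (ZMod 3) V] [Finite V]

/-- `1 ≠ -1` on a nonzero module over `F_3` -/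
theorem h9_one_ne_neg_one [Nontrivial V] : (1 : Module.End (ZMod 3) V) ≠ -1 := by
  intro e
  obtain ⟨v, hv⟩ := exists_ne (0 : V)
  apply hv
  have h1 : v = -v := by
    have := congrArg (fun f : Module.End (ZMod 3) V => f v) e
    simpa using this
  have h2 : (2 : ZMod 3) • v = 0 := by
    rw [two_smul]
    nth_rewrite 1 [h1]
    exact neg_add_cancel v
  rcases smul_eq_zero.1 h2 with h | h
  · exact absurd h (by decide)
  · exact h

/-- the restriction of `ρ` to `T` -/
noncomputable def h9_rhoT (ρ : Representation (ZMod 3) G V) (T : Subgroup G) :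
    ↥T →* Module.End (ZMod 3) V :=
  (ρ : G →* Module.End (ZMod 3) V).comp T.subtype

theorem h9_rhoT_apply (ρ : Representation (ZMod 3) G V) (T : Subgroup G) (t : ↥T) :
    h9_rhoT ρ T t = ρ (t : G) := rfl

variable (ρ : Representation (ZMod 3) G V) (T : Subgroup G) (z : G) [Fintype ↥T]

theorem h9_symp (hf : Function.Injective ρ) (hES : ESLike ρ T z) : Symp (h9_rhoT ρ T) := by
  constructor
  · intro u w
    rcases hES.comm u.1 u.2 w.1 w.2 with h | h
    · refine ⟨1, ?_⟩
      rw [one_smul, h9_rhoT_apply, h9_rhoT_apply, ← map_mul, h, map_mul]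
    · refine ⟨-1, ?_⟩
      rw [h9_rhoT_apply, h9_rhoT_apply, ← map_mul, h, map_mul, hES.rz, map_mul]
      simp
  · intro u hu
    have hc : ∀ w ∈ T, (u : G) * w = w * u := by
      intro w hw
      apply hf
      have := hu ⟨w, hw⟩
      rw [h9_rhoT_apply, h9_rhoT_apply] at this
      rw [map_mul, map_mul]
      exact this
    rcases hES.cen u.1 u.2 hc with h | h
    · refine ⟨1, ?_⟩
      rw [h9_rhoT_apply, h, map_one, one_smul]
    · refine ⟨-1, ?_⟩
      rw [h9_rhoT_apply, h, hES.rz]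
      simp

/-- basic facts on `z` -/
theorem h9_z_facts [Nontrivial V] (hf : Function.Injective ρ) (hES : ESLike ρ T z) :
    z ≠ 1 ∧ z * z = 1 := by
  constructor
  · intro e
    have := hES.rz
    rw [e, map_one] at this
    exact h9_one_ne_neg_one this
  · apply hf
    rw [map_mul, hES.rz, map_one]
    simp

/-- elements of `T` commuting with all of `T` are `1` or `z`, so the scalar subgroup is `{1,z}` -/
theorem h9_scalar_eq [Nontrivial V] (hf : Function.Injective ρ) (hES : ESLike ρ T z) :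
    scalarSubgroup (h9_rhoT ρ T) = Subgroup.zpowers (⟨z, hES.zT⟩ : ↥T) := by
  apply le_antisymm
  · intro u hu
    rw [mem_scalarSubgroup] at hu
    have hc : ∀ w ∈ T, (u : G) * w = w * u := by
      intro w hw
      apply hf
      have := hu.comm (h9_rhoT ρ T ⟨w, hw⟩)
      rw [h9_rhoT_apply, h9_rhoT_apply] at this
      rw [map_mul, map_mul]
      exact this
    rcases hES.cen u.1 u.2 hc with h | h
    · have : u = 1 := Subtype.ext h
      rw [this]; exact Subgroup.one_mem _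
    · have : u = ⟨z, hES.zT⟩ := Subtype.ext h
      rw [this]; exact Subgroup.mem_zpowers _
  · rw [Subgroup.zpowers_le, mem_scalarSubgroup]
    refine ⟨-1, ?_⟩
    rw [h9_rhoT_apply]
    show ρ z = _
    rw [hES.rz]
    simp

theorem h9_card_scalar [Nontrivial V] (hf : Function.Injective ρ) (hES : ESLike ρ T z) :
    Nat.card (scalarSubgroup (h9_rhoT ρ T)) = 2 := by
  rw [h9_scalar_eq ρ T z hf hES, Nat.card_zpowers]
  obtain ⟨h1, h2⟩ := h9_z_facts ρ T z hf hES
  apply orderOf_eq_prime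
  · apply Subtype.ext
    rw [pow_two]
    exact h2
  · intro e
    exact h1 (congrArg Subtype.val e)

/-- `T` is a `2`-group -/
theorem h9_isPGroup [Nontrivial V] (hf : Function.Injective ρ) (hES : ESLike ρ T z) :
    IsPGroup 2 ↥T := by
  obtain ⟨h1, h2⟩ := h9_z_facts ρ T z hf hES
  intro t
  refine ⟨2, ?_⟩
  apply Subtype.ext
  have : ((t ^ 2 ^ 2 : ↥T) : G) = ((t : G) * t) * ((t : G) * t) := by
    simp [pow_succ, mul_assoc]
  rw [this]
  rcases hES.sq t.1 t.2 with h | h
  · rw [h, one_mul]; rfl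
  · rw [h, h2]; rfl

/-- `T` is extraspecial, so has order `2^(2m+1)` -/
theorem h9_card_T [Nontrivial V] (hf : Function.Injective ρ) (hES : ESLike ρ T z)
    (hna : ∃ x ∈ T, ∃ y ∈ T, x * y ≠ y * x) :
    ∃ m : ℕ, 1 ≤ m ∧ Nat.card ↥T = 2 ^ (2 * m + 1) := by
  obtain ⟨h1, h2⟩ := h9_z_facts ρ T z hf hES
  have hcardZ : Nat.card (Subgroup.zpowers (⟨z, hES.zT⟩ : ↥T)) = 2 := by
    rw [← h9_scalar_eq ρ T z hf hES]; exact h9_card_scalar ρ T z hf hES
  have hmemZ : ∀ u : ↥T, ((u : G) = 1 ∨ (u : G) = z) → u ∈ Subgroup.zpowers (⟨z, hES.zT⟩ : ↥T) := by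
    intro u hu
    rcases hu with h | h
    · have : u = 1 := Subtype.ext h
      rw [this]; exact Subgroup.one_mem _
    · have : u = ⟨z, hES.zT⟩ := Subtype.ext h
      rw [this]; exact Subgroup.mem_zpowers _
  have hES' : Cfsg.IsExtraspecial 2 ↥T := by
    refine Cfsg.Agent.Helper8.InvC.isExtraspecial_of_crit' (h9_isPGroup ρ T z hf hES)
      (Subgroup.zpowers (⟨z, hES.zT⟩ : ↥T)) hcardZ ?_ ?_ ?_ ?_ ?_
    · rw [Subgroup.zpowers_le, Subgroup.mem_center_iff]
      intro g
      apply Subtype.ext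
      exact hES.zc g
    · intro u hu
      rw [Subgroup.mem_center_iff] at hu
      apply hmemZ
      apply hES.cen u.1 u.2
      intro w hw
      have := hu ⟨w, hw⟩
      exact (congrArg Subtype.val this).symm
    · intro x y
      apply hmemZ
      rw [commutatorElement_def]
      rcases hES.comm x.1 x.2 y.1 y.2 with h | h
      · left
        show (x : G) * y * (x : G)⁻¹ * (y : G)⁻¹ = 1
        rw [h]; group
      · right
        show (x : G) * y * (x : G)⁻¹ * (y : G)⁻¹ = z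
        rw [h]; group
    · intro x
      apply hmemZ
      rcases hES.sq x.1 x.2 with h | h
      · left; show ((x ^ 2 : ↥T) : G) = 1; rw [pow_two]; exact h
      · right; show ((x ^ 2 : ↥T) : G) = z; rw [pow_two]; exact h
    · obtain ⟨x, hx, y, hy, hxy⟩ := hna
      refine ⟨⟨x, hx⟩, ⟨y, hy⟩, ?_⟩
      intro e
      exact hxy (congrArg Subtype.val e)
  exact Cfsg.Agent.S0095.result hES'

theorem h9_mem_scalar [Nontrivial V] (hf : Function.Injective ρ) (hES : ESLike ρ T z) (u : ↥T)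
    (hu : u ∈ scalarSubgroup (h9_rhoT ρ T)) : (u : G) = 1 ∨ (u : G) = z := by
  rw [mem_scalarSubgroup] at hu
  have hc : ∀ w ∈ T, (u : G) * w = w * u := by
    intro w hw
    apply hf
    have := hu.comm (h9_rhoT ρ T ⟨w, hw⟩)
    rw [h9_rhoT_apply, h9_rhoT_apply] at this
    rw [map_mul, map_mul]
    exact this
  exact hES.cen u.1 u.2 hc

theorem h9_normalises [T.Normal] (b : G) :
    Normalises (h9_rhoT ρ T) (MulAut.conjNormal b : ↥T ≃* ↥T) (ρ b) (ρ b⁻¹) := by
  refine ⟨?_, ?_, ?_⟩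
  · rw [← map_mul, mul_inv_cancel, map_one]
  · rw [← map_mul, inv_mul_cancel, map_one]
  · intro u
    rw [h9_rhoT_apply, h9_rhoT_apply, MulAut.conjNormal_apply, ← map_mul, ← map_mul]
    congr 1; group

/-- dimension at least three for a cubic element -/
theorem h9_three_le_finrank (b : G) (hc : Cubic ρ b) : 3 ≤ Module.finrank (ZMod 3) V := by
  obtain ⟨hr, hr2⟩ := hc
  have h2 : Module.finrank (ZMod 3) (LinearMap.range (dl ρ b)) ≤ Module.finrank (ZMod 3) V :=
    Submodule.finrank_le _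
  by_contra hlt
  have hn : Module.finrank (ZMod 3) V = 2 := by omega
  have htop : LinearMap.range (dl ρ b) = ⊤ :=
    Submodule.eq_top_of_finrank_eq (by rw [hr, hn])
  have htop2 : LinearMap.range (dl ρ b * dl ρ b) = ⊤ := by
    rw [Module.End.mul_eq_comp, LinearMap.range_comp, htop, Submodule.map_top, htop]
  rw [htop2, finrank_top, hn] at hr2
  omega

theorem h9_nontrivial (b : G) (hc : Cubic ρ b) : Nontrivial V := by
  have := h9_three_le_finrank ρ b hc
  exact Module.nontrivial_of_finrank_pos (R := ZMod 3) (by omega)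

end S3

/-- **S3.** Counting. -/
theorem card_T_of_eslike {G : Type u} [Group G] [Finite G] {V : Type v} [AddCommGroup V]
    [Module (ZMod 3) V] [Finite V] (ρ : Representation (ZMod 3) G V) (R Q : Subgroup G) (b : G)
    (h : Cfg ρ R Q b) (T : Subgroup G) (hTn : T.Normal) (z : G) (hES : ESLike ρ T z)
    (hbT : ∃ t ∈ T, b * t * b⁻¹ ≠ t ∧ b * t * b⁻¹ ≠ z * t)
    (hS3b : (Module.finrank (ZMod 3) V - 2) ^ 2 + 2 ≤
      Module.finrank (ZMod 3) ↥(Cfsg.Agent.Helper48.SympRep.centr (ρ b)))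
    (hS3c : ∀ {α : Type u} [Finite α] (σ : Equiv.Perm α), σ ^ 3 = 1 →
      3 * Nat.card (MulAction.orbitRel.Quotient (Subgroup.zpowers σ) α) =
        Nat.card α + 2 * Nat.card {x : α // σ x = x})
    (hS3d : ∀ n m c e o : ℕ, 3 ≤ n → 1 ≤ m → c < m → 1 ≤ e → 4 ^ m * e ≤ n * n →
      (n - 2) ^ 2 + 2 ≤ o * e → 3 * o = 4 ^ m + 2 * 4 ^ c → m = 1 ∨ (m = 2 ∧ n = 4)) :
    Nat.card ↥T = 8 ∨ (Nat.card ↥T = 32 ∧ Module.finrank (ZMod 3) V = 4) := by
  classical
  let _ : Fintype ↥T := Fintype.ofFinite _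
  have := hTn
  have : Nontrivial V := h9_nontrivial ρ b h.cubic
  have hf := h.faith
  obtain ⟨hz1, hz2⟩ := h9_z_facts ρ T z hf hES
  have hzinv : z⁻¹ = z := inv_eq_of_mul_eq_one_right hz2
  -- `T` is not abelian
  have hna : ∃ x ∈ T, ∃ y ∈ T, x * y ≠ y * x := by
    by_contra hcon
    push Not at hcon
    obtain ⟨t, ht, h1, h2⟩ := hbT
    rcases hES.cen t ht (fun u hu => hcon t ht u hu) with e | e
    · apply h1; rw [e]; group
    · apply h1; rw [e, hES.zc b]; group
  obtain ⟨m, hm1, hcardT⟩ := h9_card_T ρ T z hf hES hna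
  have hSymp := h9_symp ρ T z hf hES
  have hNorm := h9_normalises ρ T b
  have hQ : (Fintype.card ↥T : ZMod 3) ≠ 0 := by
    rw [← Nat.card_eq_fintype_card, hcardT]
    intro e
    rw [ZMod.natCast_eq_zero_iff] at e
    have := Nat.Prime.dvd_of_dvd_pow Nat.prime_three e
    omega
  have hcardS : Nat.card (scalarSubgroup (h9_rhoT ρ T)) = 2 := h9_card_scalar ρ T z hf hES
  have hcardQ : Nat.card (↥T ⧸ scalarSubgroup (h9_rhoT ρ T)) = 4 ^ m := by
    have := Subgroup.card_eq_card_quotient_mul_card_subgroup (scalarSubgroup (h9_rhoT ρ T))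
    rw [hcardT, hcardS] at this
    have e : 2 ^ (2 * m + 1) = 4 ^ m * 2 := by rw [pow_succ, pow_mul]; norm_num
    omega
  have I1 : 4 ^ m * Module.finrank (ZMod 3) (commutant (h9_rhoT ρ T)) ≤
      Module.finrank (ZMod 3) V * Module.finrank (ZMod 3) V := by
    have := card_mul_finrank_le hSymp hQ
    rwa [hcardQ] at this
  have I2 : (Module.finrank (ZMod 3) V - 2) ^ 2 + 2 ≤
      Nat.card (MulAction.orbitRel.Quotient (Subgroup.zpowers (sigma hNorm))
        (↥T ⧸ scalarSubgroup (h9_rhoT ρ T))) *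
        Module.finrank (ZMod 3) (commutant (h9_rhoT ρ T)) :=
    le_trans hS3b (finrank_centr_le hSymp hQ hNorm)
  have hσ3 : sigma hNorm ^ 3 = 1 :=
    sigma_pow_eq_one hNorm (by rw [← map_pow, h.b3, map_one])
  have I3 := hS3c (sigma hNorm) hσ3
  have he1 : 1 ≤ Module.finrank (ZMod 3) (commutant (h9_rhoT ρ T)) := by
    rw [Nat.succ_le_iff, Module.finrank_pos_iff_exists_ne_zero]
    refine ⟨⟨1, one_mem_commutant _⟩, ?_⟩
    intro e0
    have e1 : (1 : Module.End (ZMod 3) V) = 0 := congrArg Subtype.val e0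
    obtain ⟨v, hv⟩ := exists_ne (0 : V)
    apply hv
    have := congrArg (fun f : Module.End (ZMod 3) V => f v) e1
    simpa using this
  -- the fixed points form a proper subgroup
  set φ : (↥T ⧸ scalarSubgroup (h9_rhoT ρ T)) ≃* (↥T ⧸ scalarSubgroup (h9_rhoT ρ T)) :=
    QuotientGroup.congr _ _ (MulAut.conjNormal b : ↥T ≃* ↥T) hNorm.map_eq with hφ
  set F : Subgroup (↥T ⧸ scalarSubgroup (h9_rhoT ρ T)) :=
    (φ.toMonoidHom).eqLocus (MonoidHom.id _) with hF
  have hFcard : Nat.card {x : ↥T ⧸ scalarSubgroup (h9_rhoT ρ T) // sigma hNorm x = x} =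
      Nat.card F :=
    Nat.card_congr (Equiv.subtypeEquivRight (fun x => Iff.rfl))
  obtain ⟨j, hj, hFj⟩ := (Nat.dvd_prime_pow Nat.prime_two).1
    (show Nat.card F ∣ 2 ^ (2 * m) from by
      have := Subgroup.card_subgroup_dvd_card F
      rwa [hcardQ, show (4 : ℕ) ^ m = 2 ^ (2 * m) from by rw [pow_mul]; norm_num] at this)
  have hFne : F ≠ ⊤ := by
    intro htop
    obtain ⟨t, ht, h1, h2⟩ := hbT
    have hmem : (QuotientGroup.mk (⟨t, ht⟩ : ↥T) : ↥T ⧸ scalarSubgroup (h9_rhoT ρ T)) ∈ F := by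
      rw [htop]; trivial
    have hmem' : φ (QuotientGroup.mk ⟨t, ht⟩) = QuotientGroup.mk ⟨t, ht⟩ := hmem
    rw [hφ, QuotientGroup.congr_mk, QuotientGroup.eq] at hmem'
    rcases h9_mem_scalar ρ T z hf hES _ hmem' with e | e
    · apply h1
      have e' : ((MulAut.conjNormal b (⟨t, ht⟩ : ↥T) : ↥T) : G)⁻¹ * t = 1 := e
      rw [MulAut.conjNormal_apply] at e'
      exact inv_mul_eq_one.1 e'
    · apply h2
      have e' : ((MulAut.conjNormal b (⟨t, ht⟩ : ↥T) : ↥T) : G)⁻¹ * t = z := e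
      rw [MulAut.conjNormal_apply] at e'
      have e1 : b * t * b⁻¹ = t * z⁻¹ := by rw [← e']; group
      rw [e1, hzinv]
      exact hES.zc t
  have hjlt : j < 2 * m := by
    rcases Nat.lt_or_eq_of_le hj with h' | h'
    · exact h'
    · exfalso
      apply hFne
      rw [← Subgroup.card_eq_iff_eq_top, hFj, h', hcardQ, pow_mul]
      norm_num
  rw [hcardQ, hFcard, hFj] at I3
  obtain ⟨c, hc | hc⟩ := Nat.even_or_odd' j
  · have e2 : 2 ^ j = 4 ^ c := by rw [hc, pow_mul]; norm_num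
    rw [e2] at I3
    have hcm : c < m := by omega
    rcases hS3d _ m c _ _ (h9_three_le_finrank ρ b h.cubic) hm1 hcm he1 I1 I2 I3 with
      hm | ⟨hm, hn4⟩
    · left; rw [hcardT, hm]; norm_num
    · right; exact ⟨by rw [hcardT, hm]; norm_num, hn4⟩
  · exfalso
    have e2 : 2 * 2 ^ j = 4 ^ (c + 1) := by
      rw [hc, pow_succ, pow_mul, pow_succ]; norm_num; ring
    have m1 : 4 ^ m % 3 = 1 := by simp [Nat.pow_mod]
    have m2 : 4 ^ (c + 1) % 3 = 1 := by simp [Nat.pow_mod]
    omega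

end Cfsg.Agent.Helper9.C3
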