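import Mathlib

set_option autoImplicit false

namespace Cfsg.Agent.Helper9.ONS
universe u

open scoped Pointwise

/-- (SYL) -/
theorem exists_invariant_sylow {G : Type u} [Group G] [Finite G] (N : Subgroup G) [N.Normal] (s : G)
    (hs : s ^ 19 = 1) (hN : ¬ 19 ∣ Nat.card N) (r : ℕ) [Fact r.Prime] :
    ∃ P : Sylow r N, ∀ x ∈ (P : Subgroup N).map N.subtype,
      s * x * s⁻¹ ∈ (P : Subgroup N).map N.subtype := by
  classical
  let _ : Fintype (Sylow r N) := Fintype.ofFinite _
  have h19 : Fact (Nat.Prime 19) := ⟨by norm_num⟩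
  let σ : Equiv.Perm (Sylow r N) :=
    MulAction.toPermHom (MulAut N) (Sylow r N) (MulAut.conjNormal s)
  have hσ : σ ^ 19 ^ 1 = 1 := by
    show (MulAction.toPermHom (MulAut N) (Sylow r N) (MulAut.conjNormal s)) ^ 19 ^ 1 = 1
    rw [pow_one, ← map_pow, ← map_pow, hs, map_one, map_one]
  have hcard : ¬ 19 ∣ Fintype.card (Sylow r N) := by
    intro h
    apply hN
    rw [← Nat.card_eq_fintype_card] at h
    obtain ⟨P0⟩ : Nonempty (Sylow r N) := inferInstance
    exact h.trans ((Sylow.card_dvd_index P0).trans (Subgroup.index_dvd_card _))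
  obtain ⟨P, hP⟩ := Equiv.Perm.exists_fixed_point_of_prime (p := 19) (n := 1) hcard hσ
  refine ⟨P, ?_⟩
  rintro x ⟨y, hy, rfl⟩
  have hP' : (MulAut.conjNormal s : MulAut N) • P = P := hP
  refine ⟨(MulAut.conjNormal s : MulAut N) y, ?_, ?_⟩
  · have h1 : (MulAut.conjNormal s : MulAut N) • y ∈
        (MulAut.conjNormal s : MulAut N) • (P : Subgroup N) :=
      Subgroup.smul_mem_pointwise_smul _ _ _ hy
    rw [← Sylow.pointwise_smul_def, hP'] at h1
    exact h1
  · simp [MulAut.conjNormal_apply]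

end Cfsg.Agent.Helper9.ONS
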