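import Mathlib
import Cfsg.Prelude.Def_Spor_ON

set_option autoImplicit false

namespace Cfsg.Agent.Helper9.ONS
universe u

/-- Abstract relator computation: in a group where `ab = bc = de = ef = 1` and the `ON` relators
hold, all seven generators are trivial. -/
theorem h9_all_one {Q : Type*} [Group Q] (g a b c d e f : Q)
    (ha : a * a = 1) (hb : b * b = 1) (hd : d * d = 1) (he : e * e = 1)
    (hab : a * b = 1) (hbc : b * c = 1) (hde : d * e = 1) (hef : e * f = 1)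
    (r1 : (a * f) * (g ^ 2)⁻¹ = 1)
    (r5 : (b * c * d * g) ^ 5 = 1)
    (r6 : g * b * (c⁻¹ * g * c) * (b⁻¹ * g * b) * (c⁻¹ * g * c) = 1)
    (r7 : g * e * (d⁻¹ * g * d) * (e⁻¹ * g * e) * (d⁻¹ * g * d) = 1) :
    g = 1 ∧ a = 1 ∧ b = 1 ∧ c = 1 ∧ d = 1 ∧ e = 1 ∧ f = 1 := by
  have hainv : a⁻¹ = a := inv_eq_of_mul_eq_one_right ha
  have hbinv : b⁻¹ = b := inv_eq_of_mul_eq_one_right hb
  have hdinv : d⁻¹ = d := inv_eq_of_mul_eq_one_right hd
  have heinv : e⁻¹ = e := inv_eq_of_mul_eq_one_right he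
  have hba : b = a := by rw [eq_inv_of_mul_eq_one_right hab, hainv]
  have hcb : c = b := by rw [eq_inv_of_mul_eq_one_right hbc, hbinv]
  have hed : e = d := by rw [eq_inv_of_mul_eq_one_right hde, hdinv]
  have hfe : f = e := by rw [eq_inv_of_mul_eq_one_right hef, heinv]
  have hca : c = a := hcb.trans hba
  have hfd : f = d := hfe.trans hed
  rw [hca, hba] at r5 r6
  rw [hfd] at r1
  rw [hed] at r7
  have h6 : g * (g * (g * (g * a))) = 1 := by
    rw [← r6]; simp only [mul_assoc, mul_inv_cancel_left]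
  have h7 : g * (g * (g * (g * d))) = 1 := by
    rw [← r7]; simp only [mul_assoc, mul_inv_cancel_left]
  have had : a = d := by
    have h := h6.trans h7.symm
    exact mul_left_cancel (mul_left_cancel (mul_left_cancel (mul_left_cancel h)))
  rw [← had] at r1 r5
  have hg2 : g * g = 1 := by
    have h : a * a = g ^ 2 := mul_inv_eq_one.mp r1
    rw [← pow_two, ← h, ha]
  have ha1 : a = 1 := by
    have h6' := h6
    rw [← mul_assoc g g a, hg2, one_mul, ← mul_assoc g g a, hg2, one_mul] at h6'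
    exact h6'
  have hg1 : g = 1 := by
    rw [ha1] at r5
    simp only [one_mul] at r5
    have : g ^ 5 = (g * g) * (g * g) * g := by
      simp only [pow_succ, pow_zero, one_mul, mul_assoc]
    rw [this, hg2, one_mul, one_mul] at r5
    exact r5
  have hd1 : d = 1 := by rw [← had, ha1]
  exact ⟨hg1, ha1, by rw [hba, ha1], by rw [hca, ha1], hd1, by rw [hed, hd1], by rw [hfd, hd1]⟩

open Cfsg.Spor in
/-- (A) -/
theorem top_of_even_mem (N : Subgroup Cfsg.Spor.ON) [N.Normal]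
    (hab : (PresentedGroup.mk (Cfsg.Spor.coxRelators Cfsg.Spor.ON.edges ∪ {r | r ∈ Cfsg.Spor.ON.extra})
      (Cfsg.Spor.ON.a * Cfsg.Spor.ON.b) : Cfsg.Spor.ON) ∈ N)
    (hbc : (PresentedGroup.mk (Cfsg.Spor.coxRelators Cfsg.Spor.ON.edges ∪ {r | r ∈ Cfsg.Spor.ON.extra})
      (Cfsg.Spor.ON.b * Cfsg.Spor.ON.c) : Cfsg.Spor.ON) ∈ N)
    (hde : (PresentedGroup.mk (Cfsg.Spor.coxRelators Cfsg.Spor.ON.edges ∪ {r | r ∈ Cfsg.Spor.ON.extra})
      (Cfsg.Spor.ON.d * Cfsg.Spor.ON.e) : Cfsg.Spor.ON) ∈ N)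
    (hef : (PresentedGroup.mk (Cfsg.Spor.coxRelators Cfsg.Spor.ON.edges ∪ {r | r ∈ Cfsg.Spor.ON.extra})
      (Cfsg.Spor.ON.e * Cfsg.Spor.ON.f) : Cfsg.Spor.ON) ∈ N) : N = ⊤ := by
  set rels : Set (FreeGroup ON.Gen) := coxRelators ON.edges ∪ {r | r ∈ ON.extra} with hrels
  let φ : FreeGroup ON.Gen →* (ON ⧸ N) := (QuotientGroup.mk' N).comp (PresentedGroup.mk rels)
  have hφrel : ∀ r ∈ rels, φ r = 1 := by
    intro r hr
    show (QuotientGroup.mk' N) (PresentedGroup.mk rels r) = 1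
    rw [PresentedGroup.one_of_mem hr, map_one]
  have hφN : ∀ w : FreeGroup ON.Gen, (PresentedGroup.mk rels w : ON) ∈ N → φ w = 1 := by
    intro w hw
    show (QuotientGroup.mk' N) (PresentedGroup.mk rels w) = 1
    exact (QuotientGroup.eq_one_iff _).mpr hw
  have hsq : ∀ x ∈ coxNodes ON.edges, φ (FreeGroup.of x) * φ (FreeGroup.of x) = 1 := by
    intro x hx
    have hmem : (FreeGroup.of x * FreeGroup.of x) ^ coxLabel ON.edges x x ∈ rels :=
      Or.inl ⟨x, hx, x, hx, rfl⟩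
    have h1 := hφrel _ hmem
    have hl : coxLabel ON.edges x x = 1 := by simp [coxLabel]
    rw [hl, pow_one, map_mul] at h1
    exact h1
  have hex : ∀ r ∈ ON.extra, φ r = 1 := fun r hr => hφrel r (Or.inr hr)
  have ha := hsq ON.Gen.a (by decide)
  have hb := hsq ON.Gen.b (by decide)
  have hd := hsq ON.Gen.d (by decide)
  have he := hsq ON.Gen.e (by decide)
  have hab' : φ (FreeGroup.of ON.Gen.a) * φ (FreeGroup.of ON.Gen.b) = 1 := by
    rw [← map_mul]; exact hφN _ hab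
  have hbc' : φ (FreeGroup.of ON.Gen.b) * φ (FreeGroup.of ON.Gen.c) = 1 := by
    rw [← map_mul]; exact hφN _ hbc
  have hde' : φ (FreeGroup.of ON.Gen.d) * φ (FreeGroup.of ON.Gen.e) = 1 := by
    rw [← map_mul]; exact hφN _ hde
  have hef' : φ (FreeGroup.of ON.Gen.e) * φ (FreeGroup.of ON.Gen.f) = 1 := by
    rw [← map_mul]; exact hφN _ hef
  have r1 := hex ((ON.a * ON.f) * ((ON.g ^ 2)⁻¹)) (by simp [ON.extra])
  have r5 := hex ((ON.b * ON.c * ON.d * ON.g) ^ 5) (by simp [ON.extra])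
  have r6 := hex (ON.g * ON.b * (ON.c⁻¹ * ON.g * ON.c) * (ON.b⁻¹ * ON.g * ON.b) * (ON.c⁻¹ * ON.g * ON.c))
    (by simp [ON.extra])
  have r7 := hex (ON.g * ON.e * (ON.d⁻¹ * ON.g * ON.d) * (ON.e⁻¹ * ON.g * ON.e) * (ON.d⁻¹ * ON.g * ON.d))
    (by simp [ON.extra])
  simp only [map_mul, map_pow, map_inv] at r1 r5 r6 r7
  obtain ⟨hg1, ha1, hb1, hc1, hd1, he1, hf1⟩ :=
    h9_all_one _ _ _ _ _ _ _ ha hb hd he hab' hbc' hde' hef' r1 r5 r6 r7
  have hφ1 : φ = 1 := by
    apply FreeGroup.ext_hom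
    intro x
    cases x
    · exact hg1
    · exact ha1
    · exact hb1
    · exact hc1
    · exact hd1
    · exact he1
    · exact hf1
  rw [eq_top_iff]
  intro n _
  obtain ⟨w, rfl⟩ := PresentedGroup.mk_surjective rels n
  have : φ w = 1 := by rw [hφ1]; rfl
  exact (QuotientGroup.eq_one_iff _).mp this

end Cfsg.Agent.Helper9.ONS
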