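import Mathlib

/-! STB2 server (helper39, S2313), piece (DC): the fixed-point count on one double coset `A n K`. -/

set_option autoImplicit false
set_option linter.unusedSectionVars false

namespace Cfsg.Agent.Helper9.Stb2

section Pure

variable {G : Type*} [Group G] [Finite G]

theorem doset_fixed_count (A K : Subgroup G) (n b : G) (hb : b ∈ A) :
    Nat.card {x : G // (∃ c ∈ A, ∃ p ∈ K, x = c * n * p) ∧ x⁻¹ * b * x ∈ K} *
        Nat.card {c : G // c ∈ A ∧ n⁻¹ * c * n ∈ K} =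
      Nat.card {c : G // c ∈ A ∧ n⁻¹ * (c⁻¹ * b * c) * n ∈ K} * Nat.card K := by
  classical
  -- chosen representatives
  choose c0 hc0 p0 hp0 hx0 using
    (fun x : {x : G // (∃ c ∈ A, ∃ p ∈ K, x = c * n * p) ∧ x⁻¹ * b * x ∈ K} => x.2.1)
  -- the key membership fact
  have hkey : ∀ c p : G, p ∈ K → ((c * n * p)⁻¹ * b * (c * n * p) ∈ K ↔
      n⁻¹ * (c⁻¹ * b * c) * n ∈ K) := by
    intro c p hp
    have h1 : (c * n * p)⁻¹ * b * (c * n * p) = p⁻¹ * (n⁻¹ * (c⁻¹ * b * c) * n) * p := by group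
    rw [h1]
    constructor
    · intro h
      have := K.mul_mem (K.mul_mem hp h) (K.inv_mem hp)
      have h2 : p * (p⁻¹ * (n⁻¹ * (c⁻¹ * b * c) * n) * p) * p⁻¹ = n⁻¹ * (c⁻¹ * b * c) * n := by
        group
      rwa [h2] at this
    · intro h
      exact K.mul_mem (K.mul_mem (K.inv_mem hp) h) hp
  have hY0 : ∀ x : {x : G // (∃ c ∈ A, ∃ p ∈ K, x = c * n * p) ∧ x⁻¹ * b * x ∈ K},
      n⁻¹ * ((c0 x)⁻¹ * b * (c0 x)) * n ∈ K := by
    intro x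
    have h := x.2.2
    rw [hx0 x] at h
    exact (hkey _ _ (hp0 x)).mp h
  rw [← Nat.card_prod, ← Nat.card_prod]
  apply Nat.card_congr
  -- the map
  let φ : {x : G // (∃ c ∈ A, ∃ p ∈ K, x = c * n * p) ∧ x⁻¹ * b * x ∈ K} ×
      {c : G // c ∈ A ∧ n⁻¹ * c * n ∈ K} →
      {c : G // c ∈ A ∧ n⁻¹ * (c⁻¹ * b * c) * n ∈ K} × K := fun xd =>
    (⟨c0 xd.1 * (xd.2.1)⁻¹, A.mul_mem (hc0 xd.1) (A.inv_mem xd.2.2.1), by
        have h1 : n⁻¹ * ((c0 xd.1 * (xd.2.1)⁻¹)⁻¹ * b * (c0 xd.1 * (xd.2.1)⁻¹)) * n =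
            (n⁻¹ * xd.2.1 * n) * (n⁻¹ * ((c0 xd.1)⁻¹ * b * (c0 xd.1)) * n) *
              (n⁻¹ * xd.2.1 * n)⁻¹ := by group
        rw [h1]
        exact K.mul_mem (K.mul_mem xd.2.2.2 (hY0 xd.1)) (K.inv_mem xd.2.2.2)⟩,
     ⟨n⁻¹ * xd.2.1 * n * p0 xd.1, K.mul_mem xd.2.2.2 (hp0 xd.1)⟩)
  have hprod : ∀ xd, ((φ xd).1.1 * n * ((φ xd).2 : G)) = xd.1.1 := by
    intro xd
    show c0 xd.1 * (xd.2.1)⁻¹ * n * (n⁻¹ * xd.2.1 * n * p0 xd.1) = xd.1.1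
    rw [hx0 xd.1]
    group
  refine Equiv.ofBijective φ ⟨?_, ?_⟩
  · intro xd xd' h
    have hx : xd.1 = xd'.1 := by
      apply Subtype.ext
      rw [← hprod xd, ← hprod xd', h]
    have hd : xd.2 = xd'.2 := by
      apply Subtype.ext
      have h1 : (φ xd).1.1 = (φ xd').1.1 := by rw [h]
      have h2 : c0 xd.1 * (xd.2.1)⁻¹ = c0 xd'.1 * (xd'.2.1)⁻¹ := h1
      rw [hx] at h2
      exact inv_injective (mul_left_cancel h2)
    exact Prod.ext hx hd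
  · rintro ⟨⟨c, hcA, hcK⟩, ⟨p, hp⟩⟩
    have hxX : (∃ c' ∈ A, ∃ p' ∈ K, c * n * p = c' * n * p') ∧
        (c * n * p)⁻¹ * b * (c * n * p) ∈ K :=
      ⟨⟨c, hcA, p, hp, rfl⟩, (hkey c p hp).mpr hcK⟩
    set x : {x : G // (∃ c ∈ A, ∃ p ∈ K, x = c * n * p) ∧ x⁻¹ * b * x ∈ K} :=
      ⟨c * n * p, hxX⟩ with hxdef
    have hx' : c * n * p = c0 x * n * p0 x := hx0 x
    have hdK : n⁻¹ * (c⁻¹ * c0 x) * n ∈ K := by
      have h1 : n⁻¹ * (c⁻¹ * c0 x) * n = p * (p0 x)⁻¹ := by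
        have h2 : c0 x = c * n * p * (p0 x)⁻¹ * n⁻¹ := by rw [hx']; group
        rw [h2]; group
      rw [h1]
      exact K.mul_mem hp (K.inv_mem (hp0 x))
    refine ⟨(x, ⟨c⁻¹ * c0 x, A.mul_mem (A.inv_mem hcA) (hc0 x), hdK⟩), ?_⟩
    apply Prod.ext
    · apply Subtype.ext
      show c0 x * (c⁻¹ * c0 x)⁻¹ = c
      group
    · apply Subtype.ext
      show n⁻¹ * (c⁻¹ * c0 x) * n * p0 x = p
      have h2 : c0 x = c * n * p * (p0 x)⁻¹ * n⁻¹ := by rw [hx']; group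
      rw [h2]; group

end Pure

end Cfsg.Agent.Helper9.Stb2
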