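import Mathlib

/-! STB2 server (helper39, S2313), piece (F1): fixed cosets of `g` on `G/K`, counted in `G`. -/

set_option autoImplicit false
set_option linter.unusedSectionVars false

namespace Cfsg.Agent.Helper9.Stb2

section Pure

variable {G : Type*} [Group G] [Finite G]

theorem card_fixedBy_mul_card (K : Subgroup G) (g : G) :
    Nat.card (MulAction.fixedBy (G ⧸ K) g) * Nat.card K = Nat.card {x : G // x⁻¹ * g * x ∈ K} := by
  have hmem : ∀ x : G, x⁻¹ * g * x ∈ K ↔
      x ∈ (QuotientGroup.mk ⁻¹' (MulAction.fixedBy (G ⧸ K) g) : Set G) := by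
    intro x
    rw [Set.mem_preimage, MulAction.mem_fixedBy]
    have h1 : g • (QuotientGroup.mk x : G ⧸ K) = QuotientGroup.mk (g * x) := rfl
    rw [h1, QuotientGroup.eq]
    have h2 : (g * x)⁻¹ * x = (x⁻¹ * g * x)⁻¹ := by group
    rw [h2, inv_mem_iff]
  have e1 : {x : G // x⁻¹ * g * x ∈ K} ≃
      (QuotientGroup.mk ⁻¹' (MulAction.fixedBy (G ⧸ K) g) : Set G) :=
    Equiv.subtypeEquivRight hmem
  have e2 := QuotientGroup.preimageMkEquivSubgroupProdSet K (MulAction.fixedBy (G ⧸ K) g)
  rw [Nat.card_congr (e1.trans e2), Nat.card_prod, mul_comm]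

end Pure

end Cfsg.Agent.Helper9.Stb2
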