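import Mathlib

set_option autoImplicit false

namespace Cfsg.Agent.Helper9

open Subgroup

theorem index_inf_of_coprime {G : Type*} [Group G] [Finite G] (A B : Subgroup G)
    (h : A.index.Coprime B.index) : (A ⊓ B).index = A.index * B.index := by
  have h1 : A.index ∣ (A ⊓ B).index := Subgroup.index_dvd_of_le inf_le_left
  have h2 : B.index ∣ (A ⊓ B).index := Subgroup.index_dvd_of_le inf_le_right
  have h3 := h.mul_dvd_of_dvd_of_dvd h1 h2
  have h4 := Subgroup.index_inf_le (H := A) (K := B)
  exact le_antisymm h4 (Nat.le_of_dvd (Nat.pos_of_ne_zero Subgroup.index_ne_zero_of_finite) h3)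

theorem relIndex_eq_index_of_coprime {G : Type*} [Group G] [Finite G] (A B : Subgroup G)
    (h : A.index.Coprime B.index) : A.relIndex B = A.index := by
  have h1 := index_inf_of_coprime A B h
  have h2 : (A ⊓ B).relIndex B * B.index = (A ⊓ B).index := relIndex_mul_index inf_le_right
  rw [inf_relIndex_right, h1] at h2
  exact Nat.eq_of_mul_eq_mul_right (Nat.pos_of_ne_zero Subgroup.index_ne_zero_of_finite) h2

/-- subgroups of coprime index: `G = B * A` -/
theorem exists_mul_of_coprime_index {G : Type*} [Group G] [Finite G] (A B : Subgroup G)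
    (h : A.index.Coprime B.index) (x : G) : ∃ b ∈ B, ∃ a ∈ A, x = b * a := by
  have hsmul : ∀ b : B, b • ((1 : G) : G ⧸ A) = ((b : G) : G ⧸ A) := by
    intro b
    show ((b : G) • ((1 : G) : G ⧸ A)) = _
    rw [MulAction.Quotient.smul_mk, smul_eq_mul, mul_one]
  have hstab : MulAction.stabilizer B ((1 : G) : G ⧸ A) = A.subgroupOf B := by
    ext b
    rw [MulAction.mem_stabilizer_iff, mem_subgroupOf, hsmul, QuotientGroup.eq]
    simp
  have h1 := MulAction.index_stabilizer B ((1 : G) : G ⧸ A)
  rw [hstab] at h1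
  have h2 : (A.subgroupOf B).index = A.index := relIndex_eq_index_of_coprime A B h
  have h3 : MulAction.orbit B ((1 : G) : G ⧸ A) = Set.univ := by
    rw [Set.eq_univ_iff_ncard, ← h1, h2]; rfl
  have h4 : ((x : G) : G ⧸ A) ∈ MulAction.orbit B ((1 : G) : G ⧸ A) := by rw [h3]; trivial
  obtain ⟨b, hb⟩ := h4
  have hb' : ((b : G) : G ⧸ A) = ((x : G) : G ⧸ A) := by rw [← hsmul]; exact hb
  rw [QuotientGroup.eq] at hb'
  exact ⟨b, b.2, _, hb', by group⟩

end Cfsg.Agent.Helper9
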