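import Mathlib
import Cfsg.Prelude.Def_SolvableStructure
import Cfsg.Agent.S0004
import Cfsg.Agent.Lib.Helper9.CoprimeIndex

set_option autoImplicit false

namespace Cfsg.Agent.Helper9

open Subgroup Pointwise Cfsg.Agent.Helper1

section
variable {G : Type*} [Group G]

theorem index_conj_smul [Finite G] (g : G) (H : Subgroup G) :
    (MulAut.conj g • H).index = H.index := by
  have h1 := Subgroup.card_mul_index (MulAut.conj g • H)
  have h2 := Subgroup.card_mul_index H
  rw [card_conj_smul, ← h2] at h1
  exact Nat.eq_of_mul_eq_mul_left Nat.card_pos h1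

theorem conj_smul_top (g : G) : MulAut.conj g • (⊤ : Subgroup G) = ⊤ := by
  rw [eq_top_iff]
  intro x _
  rw [mem_conj_smul]; trivial

theorem complementSystem_not_dvd_card [Finite G] (K : Nat.Primes → Subgroup G)
    (hK : Cfsg.IsComplementSystem K) (q : Nat.Primes) : ¬ (q : ℕ) ∣ Nat.card (K q) := by
  intro hdvd
  have h1 := Subgroup.card_mul_index (K q)
  rw [hK q] at h1
  have h2 : (q : ℕ) ^ ((Nat.card G).factorization q + 1) ∣ Nat.card G := by
    obtain ⟨v, hv⟩ : ∃ v, v = (Nat.card G).factorization q := ⟨_, rfl⟩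
    rw [← hv] at h1 ⊢
    rw [← h1, pow_succ, mul_comm]
    exact Nat.mul_dvd_mul hdvd dvd_rfl
  exact Nat.pow_succ_factorization_not_dvd Nat.card_pos.ne' q.2 h2

theorem complementSystem_index_iInf [Finite G] (L : Nat.Primes → Subgroup G)
    (hL : Cfsg.IsComplementSystem L) (s : Finset Nat.Primes) :
    (⨅ p ∈ s, L p).index = ∏ p ∈ s, (p : ℕ) ^ (Nat.card G).factorization p := by
  induction s using Finset.induction_on with
  | empty => simp
  | insert q s hq ih =>
    rw [Finset.iInf_insert, Finset.prod_insert hq]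
    have hcop : (L q).index.Coprime (⨅ p ∈ s, L p).index := by
      rw [ih, hL q]
      apply Nat.Coprime.prod_right
      intro p hp
      apply Nat.Coprime.pow
      rw [Nat.coprime_primes q.2 p.2]
      intro h
      have : q = p := Subtype.ext h
      exact hq (this ▸ hp)
    rw [index_inf_of_coprime _ _ hcop, ih, hL q]

theorem complementSystem_conj [Finite G] (K : Nat.Primes → Subgroup G)
    (hK : Cfsg.IsComplementSystem K) (g : G) :
    Cfsg.IsComplementSystem (fun p => MulAut.conj g • K p) := by
  intro p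
  show (MulAut.conj g • K p).index = _
  rw [index_conj_smul, hK p]

theorem relIndex_dvd_index_of_normal_right' [Finite G] (S N : Subgroup G)
    [N.Normal] : S.relIndex N ∣ S.index := by
  have h1 : (S ⊓ N).relIndex N * N.index = (S ⊓ N).index := relIndex_mul_index inf_le_right
  have h2 : (S ⊓ N).relIndex S * S.index = (S ⊓ N).index := relIndex_mul_index inf_le_left
  rw [inf_relIndex_right] at h1
  rw [inf_relIndex_left] at h2
  obtain ⟨m, hm⟩ := relIndex_dvd_index_of_normal N S
  have hne : N.relIndex S ≠ 0 := by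
    rw [relIndex]; exact index_ne_zero_of_finite
  refine ⟨m, ?_⟩
  have : N.relIndex S * S.index = N.relIndex S * (S.relIndex N * m) := by
    rw [h2, ← h1, hm]; ring
  exact Nat.eq_of_mul_eq_mul_left (Nat.pos_of_ne_zero hne) this

/-- Hall subgroups `A`, `B` with `A ⊔ N = B ⊔ N` are conjugate under `N`. -/
theorem exists_conj_of_sup_eq [Finite G] [Group.IsSolvable G] (N : Subgroup G) [N.Normal]
    (A B : Subgroup G) (q v : ℕ) (hA : A.index = q ^ v) (hcop : (Nat.card A).Coprime q)
    (hcard : Nat.card B = Nat.card A) (hsup : A ⊔ N = B ⊔ N) :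
    ∃ n ∈ N, MulAut.conj n • B = A := by
  set H := A ⊔ N with hH
  have hAH : A ≤ H := le_sup_left
  have hBH : B ≤ H := by rw [hsup]; exact le_sup_left
  have hcA : Nat.card (A.subgroupOf H) = Nat.card A :=
    Nat.card_congr (subgroupOfEquivOfLe hAH).toEquiv
  have hcB : Nat.card (B.subgroupOf H) = Nat.card A := by
    rw [← hcard]; exact Nat.card_congr (subgroupOfEquivOfLe hBH).toEquiv
  have hHcard : Nat.card H = Nat.card A * A.relIndex H := by
    have := Subgroup.card_mul_index (A.subgroupOf H)
    rw [hcA] at this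
    exact this.symm
  have hcop' : (Nat.card A).Coprime (A.relIndex H) := by
    have h1 : A.relIndex H ∣ q ^ v := hA ▸ relIndex_dvd_index_of_le hAH
    exact Nat.Coprime.coprime_dvd_right h1 (Nat.Coprime.pow_right v hcop)
  obtain ⟨x, hx⟩ := Cfsg.Agent.S0004.result (G := H) (Nat.card A) (A.relIndex H) hHcard hcop'
    (B.subgroupOf H) (A.subgroupOf H) hcB hcA
  have hx' : MulAut.conj (x : G) • B = A := by
    have := congrArg (Subgroup.map H.subtype) hx
    rwa [conj_smul_map_subtype, map_subgroupOf_eq_of_le hBH, map_subgroupOf_eq_of_le hAH] at this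
  have hxH : (x : G) ∈ (A ⊔ N : Subgroup G) := x.2
  rw [← SetLike.mem_coe, Subgroup.mul_normal] at hxH
  obtain ⟨a, ha, n, hn, han⟩ := Set.mem_mul.mp hxH
  refine ⟨n, hn, ?_⟩
  rw [← han, ← conj_smul_conj_smul] at hx'
  have h2 : MulAut.conj a⁻¹ • (MulAut.conj a • MulAut.conj n • B) = MulAut.conj a⁻¹ • A := by
    rw [hx']
  rw [conj_smul_conj_smul, inv_mul_cancel, map_one, one_smul,
    conj_smul_eq_self_of_mem (A.inv_mem ha)] at h2
  exact h2

theorem conj_smul_eq_of_mem_normalizer {g : G} {H : Subgroup G}
    (hg : g ∈ normalizer (H : Set G)) : MulAut.conj g • H = H :=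
  (le_normalizer_iff_conj_smul_eq.mp (le_refl (normalizer (H : Set G)))) g hg

theorem mem_normalizer_of_conj_smul_eq {g : G} {H : Subgroup G}
    (hg : MulAut.conj g • H = H) : g ∈ normalizer (H : Set G) := by
  rw [mem_normalizer_iff'']
  intro h
  rw [← mem_conj_smul, hg]

/-- two complement systems that agree modulo `N` are conjugate under `N` -/
theorem exists_conj_in_normal [Finite G] [Group.IsSolvable G] (N : Subgroup G) [N.Normal]
    (K L : Nat.Primes → Subgroup G) (hK : Cfsg.IsComplementSystem K)
    (hL : Cfsg.IsComplementSystem L) (hsup : ∀ p, K p ⊔ N = L p ⊔ N) (s : Finset Nat.Primes) :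
    ∃ n ∈ N, ∀ p ∈ s, MulAut.conj n • L p = K p := by
  induction s using Finset.induction_on with
  | empty => exact ⟨1, N.one_mem, fun p hp => absurd hp (Finset.notMem_empty p)⟩
  | insert q s hq ih =>
    obtain ⟨n₀, hn₀, hg⟩ := ih
    set L' := MulAut.conj n₀ • L q with hL'
    have hL'sup : K q ⊔ N = L' ⊔ N := by
      have h1 : MulAut.conj n₀ • (L q ⊔ N) = L' ⊔ N := by
        rw [Subgroup.smul_sup, conj_smul_eq_self_of_mem hn₀]
      rw [← h1, ← hsup q]
      exact (conj_smul_eq_self_of_mem ((le_sup_right : N ≤ K q ⊔ N) hn₀)).symm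
    have hcardL := Subgroup.card_mul_index (L q)
    have hcardK := Subgroup.card_mul_index (K q)
    rw [hL q] at hcardL
    rw [hK q] at hcardK
    have hcardeq : Nat.card L' = Nat.card (K q) := by
      rw [hL', card_conj_smul]
      have : Nat.card (L q) * (q : ℕ) ^ (Nat.card G).factorization q
          = Nat.card (K q) * (q : ℕ) ^ (Nat.card G).factorization q := by rw [hcardK, hcardL]
      exact Nat.eq_of_mul_eq_mul_right (pow_pos q.2.pos _) this
    have hcop : (Nat.card (K q)).Coprime q :=
      (Nat.Coprime.symm ((Nat.Prime.coprime_iff_not_dvd q.2).mpr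
        (complementSystem_not_dvd_card K hK q)))
    obtain ⟨n₁, hn₁, hconj⟩ := exists_conj_of_sup_eq N (K q) L' q _ (hK q) hcop hcardeq hL'sup
    set T := ⨅ p ∈ s, K p with hT
    have hTidx := complementSystem_index_iInf K hK s
    -- coprime indices inside N
    have hidxA : ((normalizer (K q : Set G)).subgroupOf N).index ∣
        (q : ℕ) ^ (Nat.card G).factorization q := by
      have h1 : (normalizer (K q : Set G)).relIndex N ∣ (normalizer (K q : Set G)).index :=
        relIndex_dvd_index_of_normal_right' _ N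
      have h2 : (normalizer (K q : Set G)).index ∣ (K q).index :=
        Subgroup.index_dvd_of_le le_normalizer
      rw [hK q] at h2
      exact h1.trans h2
    have hidxB : (T.subgroupOf N).index ∣ ∏ p ∈ s, (p : ℕ) ^ (Nat.card G).factorization p := by
      rw [← hTidx]
      exact relIndex_dvd_index_of_normal_right' T N
    have hcop2 : ((normalizer (K q : Set G)).subgroupOf N).index.Coprime (T.subgroupOf N).index := by
      refine Nat.Coprime.coprime_dvd_left hidxA (Nat.Coprime.coprime_dvd_right hidxB ?_)
      apply Nat.Coprime.prod_right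
      intro p hp
      apply Nat.Coprime.pow
      rw [Nat.coprime_primes q.2 p.2]
      intro h
      have : q = p := Subtype.ext h
      exact hq (this ▸ hp)
    obtain ⟨b, hb, a, ha, hba⟩ := exists_mul_of_coprime_index _ _ hcop2
      (⟨n₁⁻¹, N.inv_mem hn₁⟩ : N)
    rw [mem_subgroupOf] at hb ha
    have hba' : n₁⁻¹ = (b : G) * (a : G) := by
      have := congrArg Subtype.val hba
      simpa using this
    have hLK : L' = MulAut.conj (b : G) • K q := by
      have h1 : MulAut.conj n₁⁻¹ • (MulAut.conj n₁ • L') = MulAut.conj n₁⁻¹ • K q := by rw [hconj]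
      rw [conj_smul_conj_smul, inv_mul_cancel, map_one, one_smul] at h1
      rw [h1, hba', ← conj_smul_conj_smul, conj_smul_eq_of_mem_normalizer ha]
    refine ⟨(b : G)⁻¹ * n₀, N.mul_mem (N.inv_mem b.2) hn₀, ?_⟩
    intro p hp
    rw [← conj_smul_conj_smul]
    rcases Finset.mem_insert.mp hp with rfl | hps
    · rw [← hL', hLK, conj_smul_conj_smul, inv_mul_cancel, map_one, one_smul]
    · rw [hg p hps]
      apply conj_smul_eq_self_of_mem
      have : T ≤ K p := iInf₂_le p hps
      exact (K p).inv_mem (this hb)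

end

end Cfsg.Agent.Helper9
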