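import Mathlib
import Cfsg.Prelude.Def_CaseTheorems
import Cfsg.Agent.Lib.Helper19.Klein
import Cfsg.Agent.S0015

set_option autoImplicit false

namespace Cfsg.Agent.Helper9

open Cfsg.Agent.Helper19

/-- The explicit four-group on two distinct commuting involutions is a Klein four-group. -/
theorem isKleinFour_kleinFour {M : Type*} [Group M] [Finite M] {x y : M} (hx : x * x = 1)
    (hy : y * y = 1) (hxy : x * y = y * x) (hx1 : x ≠ 1) (hy1 : y ≠ 1) (hne : x ≠ y) :
    IsKleinFour (kleinFour x y hx hy hxy) := by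
  classical
  have hge : 4 ≤ Nat.card (kleinFour x y hx hy hxy) := kleinFour_card hx hy hxy hx1 hy1 hne
  have hle : Nat.card (kleinFour x y hx hy hxy) ≤ 4 := by
    have hsub : (kleinFour x y hx hy hxy : Set M) ⊆ (({1, x, y, x * y} : Finset M) : Set M) := by
      intro g hg
      simp only [Finset.coe_insert, Finset.coe_singleton, Set.mem_insert_iff,
        Set.mem_singleton_iff]
      exact hg
    have h1 : Nat.card (kleinFour x y hx hy hxy) = (kleinFour x y hx hy hxy : Set M).ncard :=
      (Nat.card_coe_set_eq _)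
    rw [h1]
    have h2 := Set.ncard_le_ncard hsub (Finset.finite_toSet _)
    rw [Set.ncard_coe_finset] at h2
    exact h2.trans (Finset.card_le_four)
  have hcard : Nat.card (kleinFour x y hx hy hxy) = 4 := le_antisymm hle hge
  refine ⟨hcard, ?_⟩
  have hdvd : Monoid.exponent (kleinFour x y hx hy hxy) ∣ 2 := by
    apply Monoid.exponent_dvd_of_forall_pow_eq_one
    intro g
    apply Subtype.ext
    have := kleinFour_sq hx hy hxy g.1 g.2
    simpa using this
  rcases (Nat.dvd_prime Nat.prime_two).mp hdvd with h | h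
  · exfalso
    have hsub : Subsingleton (kleinFour x y hx hy hxy) := Monoid.exp_eq_one_iff.mp h
    have : Nat.card (kleinFour x y hx hy hxy) ≤ 1 := Finite.card_le_one_iff_subsingleton.mpr hsub
    omega
  · exact h

/-- Elements of a Klein four-subgroup are involutions or trivial. -/
theorem mul_self_of_mem_kleinFour {M : Type*} [Group M] (U : Subgroup M) [hU : IsKleinFour U]
    {a : M} (ha : a ∈ U) : a * a = 1 := by
  have := IsKleinFour.mul_self (⟨a, ha⟩ : U)
  exact congrArg Subtype.val this

/-- A Klein four-subgroup is commutative. -/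
theorem mul_comm_of_mem_kleinFour {M : Type*} [Group M] (U : Subgroup M) [hU : IsKleinFour U]
    {a b : M} (ha : a ∈ U) (hb : b ∈ U) : a * b = b * a := by
  have := mul_comm_of_exponent_two (IsKleinFour.exponent_two (G := U)) (⟨a, ha⟩ : U) ⟨b, hb⟩
  exact congrArg Subtype.val this

/-- A Klein four-subgroup has an involution different from a given element. -/
theorem exists_mem_kleinFour_ne {M : Type*} [Group M] (U : Subgroup M) [hU : IsKleinFour U]
    (z : M) : ∃ u ∈ U, u ≠ 1 ∧ u ≠ z := by
  classical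
  haveI : Finite U := Nat.finite_of_card_ne_zero (by rw [IsKleinFour.card_four]; norm_num)
  letI : Fintype U := Fintype.ofFinite U
  have h4 : 2 < Fintype.card U := by
    rw [Fintype.card_eq_nat_card, IsKleinFour.card_four]; norm_num
  obtain ⟨a, b, c, hab, hac, hbc⟩ := Fintype.two_lt_card_iff.mp h4
  have hab' : (a : M) ≠ b := fun h => hab (Subtype.ext h)
  have hac' : (a : M) ≠ c := fun h => hac (Subtype.ext h)
  have hbc' : (b : M) ≠ c := fun h => hbc (Subtype.ext h)
  by_cases ha : (a : M) = 1 ∨ (a : M) = z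
  · by_cases hb : (b : M) = 1 ∨ (b : M) = z
    · refine ⟨c, c.2, ?_, ?_⟩
      · rintro hc
        rcases ha with ha | ha <;> rcases hb with hb | hb
        · exact hab' (ha.trans hb.symm)
        · exact hac' (ha.trans hc.symm)
        · exact hbc' (hb.trans hc.symm)
        · exact hab' (ha.trans hb.symm)
      · rintro hc
        rcases ha with ha | ha <;> rcases hb with hb | hb
        · exact hab' (ha.trans hb.symm)
        · exact hbc' (hb.trans hc.symm)
        · exact hac' (ha.trans hc.symm)
        · exact hab' (ha.trans hb.symm)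
    · push Not at hb
      exact ⟨b, b.2, hb.1, hb.2⟩
  · push Not at ha
    exact ⟨a, a.2, ha.1, ha.2⟩

/-- An involution acting on a normal elementary abelian 2-subgroup `E` of order at least 8
centralizes two distinct involutions of `E`. -/
theorem exists_two_centralized {P : Type*} [Group P] [Finite P] (E : Subgroup P) [hEn : E.Normal]
    (hEc : ∀ a ∈ E, ∀ b ∈ E, a * b = b * a) (hE2 : ∀ e ∈ E, e * e = 1) (hE8 : 8 ≤ Nat.card E)
    (u : P) (hu : u * u = 1) :
    ∃ w₁ w₂ : P, w₁ ∈ E ∧ w₂ ∈ E ∧ w₁ ≠ 1 ∧ w₂ ≠ 1 ∧ w₁ ≠ w₂ ∧ u * w₁ = w₁ * u ∧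
      u * w₂ = w₂ * u := by
  classical
  have huinv : u⁻¹ = u := inv_eq_of_mul_eq_one_left hu
  have hconj : ∀ e ∈ E, u * e * u ∈ E := by
    intro e he
    have := hEn.conj_mem e he u
    rwa [huinv] at this
  let φ : E →* E :=
    { toFun := fun e => ⟨e * (u * e * u), E.mul_mem e.2 (hconj e e.2)⟩
      map_one' := by
        apply Subtype.ext
        show (1 : P) * (u * 1 * u) = 1
        rw [mul_one, one_mul, hu]
      map_mul' := by
        intro e f
        apply Subtype.ext
        show (e : P) * f * (u * (e * f) * u) = e * (u * e * u) * (f * (u * f * u))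
        have h1 : u * ((e : P) * f) * u = (u * e * u) * (u * f * u) := by
          have : (u * (e : P) * u) * (u * f * u) = u * e * (u * u) * f * u := by group
          rw [this, hu]; group
        have h2 : (f : P) * (u * e * u) = (u * e * u) * f := hEc _ f.2 _ (hconj e e.2)
        rw [h1]
        calc (e : P) * f * (u * e * u * (u * f * u))
            = e * (f * (u * e * u)) * (u * f * u) := by group
          _ = e * ((u * e * u) * f) * (u * f * u) := by rw [h2]
          _ = e * (u * e * u) * (f * (u * f * u)) := by group }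
  let C : Subgroup E := (Subgroup.centralizer ({u} : Set P)).subgroupOf E
  have hker : φ.ker = C := by
    ext e
    rw [MonoidHom.mem_ker, Subgroup.mem_subgroupOf, Subgroup.mem_centralizer_singleton_iff]
    constructor
    · intro h
      have h1 : (e : P) * (u * e * u) = 1 := congrArg Subtype.val h
      have h2 : u * (e : P) * u = e := by
        have : u * (e : P) * u = (e : P)⁻¹ := (inv_eq_of_mul_eq_one_right h1).symm
        rw [this]
        exact inv_eq_of_mul_eq_one_left (hE2 e e.2)
      calc (e : P) * u = (u * e * u) * u := by rw [h2]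
        _ = u * e := by rw [mul_assoc, hu, mul_one]
    · intro h
      apply Subtype.ext
      show (e : P) * (u * e * u) = 1
      rw [← h, mul_assoc, hu, mul_one, hE2 e e.2]
  have hrange : φ.range ≤ C := by
    rintro _ ⟨e, rfl⟩
    rw [Subgroup.mem_subgroupOf, Subgroup.mem_centralizer_singleton_iff]
    show (e : P) * (u * e * u) * u = u * ((e : P) * (u * e * u))
    have h2 : (e : P) * (u * e * u) = (u * e * u) * e := hEc _ e.2 _ (hconj e e.2)
    calc (e : P) * (u * e * u) * u = e * u * e * (u * u) := by group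
      _ = e * u * e := by rw [hu, mul_one]
      _ = (u * u) * e * u * e := by rw [hu, one_mul]
      _ = u * ((u * e * u) * e) := by group
      _ = u * ((e : P) * (u * e * u)) := by rw [h2]
  have hcard : Nat.card E ≤ Nat.card C * Nat.card C := by
    have h1 := Subgroup.card_mul_index φ.ker
    rw [Subgroup.index_ker, hker] at h1
    rw [← h1]
    exact Nat.mul_le_mul_left _ (Subgroup.card_le_of_le hrange)
  have hC3 : 2 < Nat.card C := by
    by_contra hle
    push Not at hle
    have : Nat.card C * Nat.card C ≤ 2 * 2 := Nat.mul_le_mul hle hle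
    omega
  letI : Fintype C := Fintype.ofFinite C
  rw [← Fintype.card_eq_nat_card] at hC3
  obtain ⟨a, b, c, hab, hac, hbc⟩ := Fintype.two_lt_card_iff.mp hC3
  have hmem : ∀ x : C, ((x : E) : P) ∈ E ∧ u * ((x : E) : P) = ((x : E) : P) * u := by
    intro x
    refine ⟨(x : E).2, ?_⟩
    have := x.2
    rw [Subgroup.mem_subgroupOf, Subgroup.mem_centralizer_singleton_iff] at this
    exact this.symm
  have hinj : ∀ x y : C, ((x : E) : P) = ((y : E) : P) → x = y := fun x y h =>
    Subtype.ext (Subtype.ext h)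
  have hone : ∀ x : C, ((x : E) : P) = 1 → x = 1 := fun x h => hinj x 1 h
  by_cases ha : a = 1
  · subst ha
    refine ⟨((b : E) : P), ((c : E) : P), (hmem b).1, (hmem c).1, ?_, ?_, ?_, (hmem b).2, (hmem c).2⟩
    · exact fun h => hab (hone b h).symm
    · exact fun h => hac (hone c h).symm
    · exact fun h => hbc (hinj b c h)
  · by_cases hb : b = 1
    · subst hb
      refine ⟨((a : E) : P), ((c : E) : P), (hmem a).1, (hmem c).1, ?_, ?_, ?_, (hmem a).2, (hmem c).2⟩
      · exact fun h => ha (hone a h)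
      · exact fun h => hbc (hone c h).symm
      · exact fun h => hac (hinj a c h)
    · refine ⟨((a : E) : P), ((b : E) : P), (hmem a).1, (hmem b).1, ?_, ?_, ?_, (hmem a).2, (hmem b).2⟩
      · exact fun h => ha (hone a h)
      · exact fun h => hb (hone b h)
      · exact fun h => hab (hinj a b h)

/-- A finite 2-group with a normal elementary abelian subgroup of order at least 8 has a
connected commuting graph on its Klein four-subgroups. -/
theorem isFourConnected_of_normal_elemAb {P : Type*} [Group P] [Finite P] (hP : IsPGroup 2 P)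
    (E : Subgroup P) [hEn : E.Normal] (hE : IsMulCommutative E) (hE2 : ∀ e ∈ E, e ^ 2 = 1)
    (hE8 : 8 ≤ Nat.card E) : Cfsg.IsFourConnected P := by
  classical
  haveI : Fact (Nat.Prime 2) := ⟨Nat.prime_two⟩
  have hEc : ∀ a ∈ E, ∀ b ∈ E, a * b = b * a := fun a ha b hb =>
    Subgroup.mul_comm_of_mem_isMulCommutative E ha hb
  have hE2' : ∀ e ∈ E, e * e = 1 := fun e he => by rw [← pow_two]; exact hE2 e he
  haveI : Group.IsNilpotent P := hP.isNilpotent
  have hEne : E ≠ ⊥ := by
    intro h
    rw [h, Subgroup.card_bot] at hE8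
    omega
  have hz := Cfsg.Agent.S0015.normal_inf_center_ne_bot E hEne
  obtain ⟨z, hzmem, hz1⟩ := (Subgroup.ne_bot_iff_exists_ne_one.mp hz : ∃ a : ↥(E ⊓ Subgroup.center P), a ≠ 1) |> fun ⟨a, ha⟩ => (⟨(a : P), a.2, fun h => ha (Subtype.ext h)⟩ : ∃ z : P, z ∈ E ⊓ Subgroup.center P ∧ z ≠ 1)
  have hzE : z ∈ E := hzmem.1
  have hzc : ∀ g : P, g * z = z * g := fun g => Subgroup.mem_center_iff.mp hzmem.2 g
  have hzz : z * z = 1 := hE2' z hzE
  set r : Subgroup P → Subgroup P → Prop := fun A B =>
    IsKleinFour A ∧ IsKleinFour B ∧ ∀ a ∈ A, ∀ b ∈ B, a * b = b * a with hr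
  have hsymm : ∀ A B, r A B → r B A := fun A B ⟨hA, hB, h⟩ =>
    ⟨hB, hA, fun b hb a ha => (h a ha b hb).symm⟩
  have key : ∀ U : Subgroup P, IsKleinFour U → ∃ W : Subgroup P, IsKleinFour W ∧ W ≤ E ∧
      Relation.ReflTransGen r U W ∧ Relation.ReflTransGen r W U := by
    intro U hU
    obtain ⟨u, huU, hu1, huz⟩ := exists_mem_kleinFour_ne U z
    have hu : u * u = 1 := mul_self_of_mem_kleinFour U huU
    have hcuz : u * z = z * u := hzc u
    have hA : IsKleinFour (kleinFour u z hu hzz hcuz) :=
      isKleinFour_kleinFour hu hzz hcuz hu1 hz1 huz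
    obtain ⟨w₁, w₂, hw₁E, hw₂E, hw₁1, hw₂1, hw12, huw₁, huw₂⟩ :=
      exists_two_centralized E hEc hE2' hE8 u hu
    have hw₁ : w₁ * w₁ = 1 := hE2' w₁ hw₁E
    have hw₂ : w₂ * w₂ = 1 := hE2' w₂ hw₂E
    have hcw : w₁ * w₂ = w₂ * w₁ := hEc w₁ hw₁E w₂ hw₂E
    have hW : IsKleinFour (kleinFour w₁ w₂ hw₁ hw₂ hcw) :=
      isKleinFour_kleinFour hw₁ hw₂ hcw hw₁1 hw₂1 hw12
    have hWE : kleinFour w₁ w₂ hw₁ hw₂ hcw ≤ E := by
      rintro b (rfl | rfl | rfl | rfl)
      · exact E.one_mem
      · exact hw₁E
      · exact hw₂E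
      · exact E.mul_mem hw₁E hw₂E
    have hUA : r U (kleinFour u z hu hzz hcuz) := by
      refine ⟨hU, hA, ?_⟩
      rintro a ha b (rfl | rfl | rfl | rfl)
      · rw [mul_one, one_mul]
      · exact mul_comm_of_mem_kleinFour U ha huU
      · exact hzc a
      · rw [← mul_assoc, mul_comm_of_mem_kleinFour U ha huU, mul_assoc, hzc a, mul_assoc]
    have huW : ∀ b ∈ kleinFour w₁ w₂ hw₁ hw₂ hcw, u * b = b * u := by
      rintro b (rfl | rfl | rfl | rfl)
      · rw [mul_one, one_mul]
      · exact huw₁
      · exact huw₂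
      · rw [← mul_assoc, huw₁, mul_assoc, huw₂, mul_assoc]
    have hAW : r (kleinFour u z hu hzz hcuz) (kleinFour w₁ w₂ hw₁ hw₂ hcw) := by
      refine ⟨hA, hW, ?_⟩
      rintro a (rfl | rfl | rfl | rfl) b hb
      · rw [mul_one, one_mul]
      · exact huW b hb
      · exact (hzc b).symm
      · rw [mul_assoc, ← hzc b, ← mul_assoc, huW b hb, mul_assoc]
    refine ⟨_, hW, hWE, ?_, ?_⟩
    · exact Relation.ReflTransGen.trans (Relation.ReflTransGen.single hUA)
        (Relation.ReflTransGen.single hAW)
    · exact Relation.ReflTransGen.trans (Relation.ReflTransGen.single (hsymm _ _ hAW))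
        (Relation.ReflTransGen.single (hsymm _ _ hUA))
  intro U V hU hV
  obtain ⟨W, hW, hWE, hUW, -⟩ := key U hU
  obtain ⟨W', hW', hW'E, -, hW'V⟩ := key V hV
  have hWW' : r W W' := ⟨hW, hW', fun a ha b hb => hEc a (hWE ha) b (hW'E hb)⟩
  exact Relation.ReflTransGen.trans hUW (Relation.ReflTransGen.head hWW' hW'V)

end Cfsg.Agent.Helper9
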