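import Mathlib
import Cfsg.Prelude.Def_CaseTheorems
import Cfsg.Agent.Lib.Helper1.Basic
import Cfsg.Agent.Lib.Helper9.ComplementSystem
import Cfsg.Agent.Lib.Helper9.FourConnected

set_option autoImplicit false

namespace Cfsg.Agent.Helper9

open scoped Pointwise
open Cfsg.Agent.Helper1 Cfsg.Agent.Helper19

/-- Being a Klein four-group is invariant under isomorphism. -/
theorem isKleinFour_of_mulEquiv {A B : Type*} [Group A] [Group B] (e : A ≃* B)
    (hA : IsKleinFour A) : IsKleinFour B :=
  ⟨by rw [← Nat.card_congr e.toEquiv]; exact hA.card_four,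
   by rw [← Monoid.exponent_eq_of_mulEquiv e]; exact hA.exponent_two⟩

theorem isKleinFour_conj_smul {G : Type*} [Group G] (g : G) {U : Subgroup G}
    (hU : IsKleinFour U) : IsKleinFour (MulAut.conj g • U : Subgroup G) :=
  isKleinFour_of_mulEquiv (Subgroup.equivSMul (MulAut.conj g) U) hU

/-- The adjacency relation of the commuting graph on Klein four-subgroups. -/
def FourAdj {G : Type*} [Group G] (A B : Subgroup G) : Prop :=
  IsKleinFour A ∧ IsKleinFour B ∧ ∀ a ∈ A, ∀ b ∈ B, a * b = b * a

theorem FourAdj.symm {G : Type*} [Group G] {A B : Subgroup G} (h : FourAdj A B) : FourAdj B A :=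
  ⟨h.2.1, h.1, fun b hb a ha => (h.2.2 a ha b hb).symm⟩

theorem FourAdj.conj {G : Type*} [Group G] {A B : Subgroup G} (h : FourAdj A B) (g : G) :
    FourAdj (MulAut.conj g • A) (MulAut.conj g • B) := by
  refine ⟨isKleinFour_conj_smul g h.1, isKleinFour_conj_smul g h.2.1, ?_⟩
  intro a ha b hb
  rw [mem_conj_smul] at ha hb
  have := h.2.2 _ ha _ hb
  have h1 : a * b = g * ((g⁻¹ * a * g) * (g⁻¹ * b * g)) * g⁻¹ := by group
  have h2 : b * a = g * ((g⁻¹ * b * g) * (g⁻¹ * a * g)) * g⁻¹ := by group
  rw [h1, h2, this]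

/-- Connectedness relation of the commuting graph on Klein four-subgroups. -/
def FourConn {G : Type*} [Group G] (A B : Subgroup G) : Prop :=
  Relation.ReflTransGen (FourAdj (G := G)) A B

theorem FourConn.symm {G : Type*} [Group G] {A B : Subgroup G} (h : FourConn A B) :
    FourConn B A := by
  induction h with
  | refl => exact Relation.ReflTransGen.refl
  | tail _ hbc ih => exact Relation.ReflTransGen.head hbc.symm ih

theorem FourConn.trans {G : Type*} [Group G] {A B C : Subgroup G} (h1 : FourConn A B)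
    (h2 : FourConn B C) : FourConn A C := Relation.ReflTransGen.trans h1 h2

theorem FourConn.conj {G : Type*} [Group G] {A B : Subgroup G} (h : FourConn A B) (g : G) :
    FourConn (MulAut.conj g • A) (MulAut.conj g • B) := by
  induction h with
  | refl => exact Relation.ReflTransGen.refl
  | tail _ hbc ih => exact Relation.ReflTransGen.tail ih (hbc.conj g)

theorem isFourConnected_iff {G : Type*} [Group G] :
    Cfsg.IsFourConnected G ↔ ∀ U V : Subgroup G, IsKleinFour U → IsKleinFour V → FourConn U V :=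
  Iff.rfl

/-- `Q` contains a Klein four-subgroup. -/
def HasFour {G : Type*} [Group G] (Q : Subgroup G) : Prop :=
  ∃ U : Subgroup G, U ≤ Q ∧ IsKleinFour U

theorem HasFour.mono {G : Type*} [Group G] {Q R : Subgroup G} (h : HasFour Q) (hQR : Q ≤ R) :
    HasFour R := by
  obtain ⟨U, hU, hK⟩ := h
  exact ⟨U, hU.trans hQR, hK⟩

theorem HasFour.conj {G : Type*} [Group G] {Q : Subgroup G} (h : HasFour Q) (g : G) :
    HasFour (MulAut.conj g • Q) := by
  obtain ⟨U, hU, hK⟩ := h
  exact ⟨MulAut.conj g • U, Subgroup.pointwise_smul_le_pointwise_smul_iff.mpr hU |> fun h => h,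
    isKleinFour_conj_smul g hK⟩

/-- 2-rank at least 2 gives a Klein four-subgroup. -/
theorem exists_kleinFour_of_not_pRankLE {H : Type*} [Group H] [Finite H]
    (h : ¬ Cfsg.PRankLE 2 1 H) : ∃ U : Subgroup H, IsKleinFour U := by
  classical
  unfold Cfsg.PRankLE at h
  push Not at h
  obtain ⟨A, hAc, hA2, hAcard⟩ := h
  rw [pow_one] at hAcard
  letI : Fintype A := Fintype.ofFinite A
  rw [← Fintype.card_eq_nat_card] at hAcard
  obtain ⟨a, b, c, hab, hac, hbc⟩ := Fintype.two_lt_card_iff.mp hAcard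
  have key : ∃ x y : A, x ≠ 1 ∧ y ≠ 1 ∧ x ≠ y := by
    by_cases ha : a = 1
    · subst ha
      exact ⟨b, c, fun h => hab h.symm, fun h => hac h.symm, hbc⟩
    · by_cases hb : b = 1
      · subst hb
        exact ⟨a, c, ha, fun h => hbc h.symm, hac⟩
      · exact ⟨a, b, ha, hb, hab⟩
  obtain ⟨x, y, hx1, hy1, hxy⟩ := key
  have hx2 : (x : H) * x = 1 := by
    have := hA2 (x : H) x.2
    rwa [pow_two] at this
  have hy2 : (y : H) * y = 1 := by
    have := hA2 (y : H) y.2
    rwa [pow_two] at this
  have hcomm : (x : H) * y = y * x := Subgroup.mul_comm_of_mem_isMulCommutative A x.2 y.2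
  have hx1' : (x : H) ≠ 1 := fun h => hx1 (Subtype.ext h)
  have hy1' : (y : H) ≠ 1 := fun h => hy1 (Subtype.ext h)
  have hxy' : (x : H) ≠ y := fun h => hxy (Subtype.ext h)
  exact ⟨kleinFour (x : H) y hx2 hy2 hcomm, isKleinFour_kleinFour hx2 hy2 hcomm hx1' hy1' hxy'⟩

/-- A Klein four-subgroup forces 2-rank at least 2. -/
theorem not_pRankLE_of_kleinFour {H : Type*} [Group H] (U : Subgroup H) (hK : IsKleinFour U) :
    ¬ Cfsg.PRankLE 2 1 H := by
  intro h
  have h1 := h U ?_ ?_
  · rw [hK.card_four] at h1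
    norm_num at h1
  · refine IsMulCommutative.of_setLike_mul_comm ?_
    intro a ha b hb
    exact mul_comm_of_mem_kleinFour U ha hb
  · intro a ha
    rw [pow_two]
    exact mul_self_of_mem_kleinFour U ha

/-- 2-rank at least 2 means containing a Klein four-group. -/
theorem not_pRankLE_iff_hasFour {G : Type*} [Group G] [Finite G] (Q : Subgroup G) :
    ¬ Cfsg.PRankLE 2 1 Q ↔ HasFour Q := by
  constructor
  · intro h
    obtain ⟨U, hU⟩ := exists_kleinFour_of_not_pRankLE h
    exact ⟨U.map Q.subtype, Subgroup.map_subtype_le U,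
      isKleinFour_of_mulEquiv (Subgroup.equivMapOfInjective U Q.subtype Q.subtype_injective) hU⟩
  · rintro ⟨U, hUQ, hK⟩
    exact not_pRankLE_of_kleinFour (U.subgroupOf Q)
      (isKleinFour_of_mulEquiv (Subgroup.subgroupOfEquivOfLe hUQ).symm hK)

/-- Klein four-groups are 2-groups. -/
theorem isPGroup_of_isKleinFour {G : Type*} [Group G] {U : Subgroup G} (hU : IsKleinFour U) :
    IsPGroup 2 U := by
  haveI : Fact (Nat.Prime 2) := ⟨Nat.prime_two⟩
  exact IsPGroup.of_card (n := 2) (by rw [hU.card_four]; norm_num)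

/-- Connectivity of the four-group graph of a subgroup `S` gives paths in the ambient group. -/
theorem fourConn_of_le_of_isFourConnected {G : Type*} [Group G] (S : Subgroup G)
    (hS : Cfsg.IsFourConnected S) {U V : Subgroup G} (hU : IsKleinFour U) (hV : IsKleinFour V)
    (hUS : U ≤ S) (hVS : V ≤ S) : FourConn U V := by
  have hU' : IsKleinFour (U.subgroupOf S) :=
    isKleinFour_of_mulEquiv (Subgroup.subgroupOfEquivOfLe hUS).symm hU
  have hV' : IsKleinFour (V.subgroupOf S) :=
    isKleinFour_of_mulEquiv (Subgroup.subgroupOfEquivOfLe hVS).symm hV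
  have hpath := hS (U.subgroupOf S) (V.subgroupOf S) hU' hV'
  have hlift := Relation.ReflTransGen.lift (p := FourAdj (G := G)) (fun A : Subgroup S => A.map S.subtype)
    (fun A B hAB => ?_) _ _ hpath
  · simp only [Function.onFun, Subgroup.map_subgroupOf_eq_of_le hUS,
      Subgroup.map_subgroupOf_eq_of_le hVS] at hlift
    exact hlift
  · obtain ⟨hA, hB, hc⟩ := hAB
    refine ⟨isKleinFour_of_mulEquiv (Subgroup.equivMapOfInjective A S.subtype S.subtype_injective) hA,
      isKleinFour_of_mulEquiv (Subgroup.equivMapOfInjective B S.subtype S.subtype_injective) hB, ?_⟩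
    rintro _ ⟨a, ha, rfl⟩ _ ⟨b, hb, rfl⟩
    have := hc a ha b hb
    exact congrArg Subtype.val this

/-- Two `p`-subgroups of a subgroup `H` can be conjugated inside `H` to generate a `p`-group. -/
theorem exists_conj_sup_isPGroup {G : Type*} [Group G] [Finite G] (p : ℕ) [Fact p.Prime]
    (H A B : Subgroup G) (hA : A ≤ H) (hB : B ≤ H) (hAp : IsPGroup p A) (hBp : IsPGroup p B) :
    ∃ h ∈ H, IsPGroup p (A ⊔ MulAut.conj h • B : Subgroup G) := by
  have hA' : IsPGroup p (A.subgroupOf H) :=
    hAp.of_equiv (Subgroup.subgroupOfEquivOfLe hA).symm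
  have hB' : IsPGroup p (B.subgroupOf H) :=
    hBp.of_equiv (Subgroup.subgroupOfEquivOfLe hB).symm
  obtain ⟨T₁, hT₁⟩ := hA'.exists_le_sylow
  obtain ⟨T₂, hT₂⟩ := hB'.exists_le_sylow
  obtain ⟨h, hh⟩ := MulAction.exists_smul_eq H T₂ T₁
  refine ⟨(h : G), h.2, ?_⟩
  have hT : IsPGroup p ((T₁ : Subgroup H).map H.subtype) :=
    T₁.isPGroup'.of_equiv (Subgroup.equivMapOfInjective _ H.subtype H.subtype_injective)
  refine hT.to_le (sup_le ?_ ?_)
  · rw [← Subgroup.map_subgroupOf_eq_of_le hA]
    exact Subgroup.map_mono hT₁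
  · have h1 : (MulAut.conj h • (T₂ : Subgroup H)) = (T₁ : Subgroup H) := by
      rw [← hh]
      rfl
    rw [← h1, conj_smul_map_subtype, ← Subgroup.map_subgroupOf_eq_of_le hB]
    exact Subgroup.pointwise_smul_le_pointwise_smul_iff.mpr (Subgroup.map_mono hT₂)

theorem card_lt_card_of_le_of_ne {G : Type*} [Group G] [Finite G] {A B : Subgroup G} (h : A ≤ B)
    (hne : A ≠ B) : Nat.card A < Nat.card B := by
  by_contra hle
  push Not at hle
  exact hne (Subgroup.eq_of_le_of_card_ge h hle)

/-- Normalizers grow in finite `p`-groups (relative form). -/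
theorem card_lt_card_inf_normalizer {G : Type*} [Group G] [Finite G] {p : ℕ} [Fact p.Prime]
    {P D : Subgroup G} (hP : IsPGroup p P) (hDP : D ≤ P) (hne : D ≠ P) :
    Nat.card D < Nat.card (P ⊓ Subgroup.normalizer (D : Set G) : Subgroup G) := by
  haveI : Group.IsNilpotent P := hP.isNilpotent
  have hlt : D.subgroupOf P < ⊤ := by
    rw [lt_top_iff_ne_top, Ne, Subgroup.subgroupOf_eq_top]
    intro h
    exact hne (le_antisymm hDP h)
  have h1 := Group.normalizerCondition_of_isNilpotent (G := P) (D.subgroupOf P) hlt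
  rw [← Subgroup.subgroupOf_normalizer_eq hDP] at h1
  obtain ⟨s, hs1, hs2⟩ := SetLike.exists_of_lt h1
  apply card_lt_card_of_le_of_ne (le_inf hDP Subgroup.le_normalizer)
  intro heq
  apply hs2
  rw [Subgroup.mem_subgroupOf, heq]
  exact ⟨s.2, Subgroup.mem_subgroupOf.mp hs1⟩

section Fusion

variable {G : Type*} [Group G] [Finite G] (S : Sylow 2 G) (M : Subgroup G)

/-- Key step of the fusion argument: Sylow 2-subgroups meeting `S` in a subgroup of 2-rank at
least 2 are conjugate to `S` under the 2-generated core. -/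
theorem exists_mem_conj_sylow_eq
    (hM : ∀ Q : Subgroup G, Q ≤ S → HasFour Q → Subgroup.normalizer (Q : Set G) ≤ M) :
    ∀ (n : ℕ) (S' : Sylow 2 G),
      Nat.card (S : Subgroup G) - Nat.card ((S : Subgroup G) ⊓ S' : Subgroup G) = n →
      HasFour ((S : Subgroup G) ⊓ S') → ∃ m ∈ M, MulAut.conj m • (S' : Subgroup G) = S := by
  haveI : Fact (Nat.Prime 2) := ⟨Nat.prime_two⟩
  intro n
  induction n using Nat.strong_induction_on with
  | _ n ih =>
    intro S' hn hfour
    set D : Subgroup G := (S : Subgroup G) ⊓ S' with hD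
    by_cases hDS : D = S
    · have hle : (S : Subgroup G) ≤ S' := by rw [← hDS]; exact inf_le_right
      have heq : (S' : Subgroup G) = S := S.is_maximal' S'.isPGroup' hle
      exact ⟨1, M.one_mem, by rw [map_one, one_smul, heq]⟩
    · have hDS' : D ≠ S' := by
        intro h
        have hle : (S' : Subgroup G) ≤ S := by rw [← h]; exact inf_le_left
        have heq : (S : Subgroup G) = S' := S'.is_maximal' S.isPGroup' hle
        apply hDS
        rw [hD, ← heq, inf_idem]
      set H : Subgroup G := Subgroup.normalizer (D : Set G) with hH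
      set A : Subgroup G := (S : Subgroup G) ⊓ H with hA
      set B : Subgroup G := (S' : Subgroup G) ⊓ H with hB
      have hcA : Nat.card D < Nat.card A :=
        card_lt_card_inf_normalizer S.isPGroup' inf_le_left hDS
      have hcB : Nat.card D < Nat.card B :=
        card_lt_card_inf_normalizer S'.isPGroup' inf_le_right hDS'
      have hAp : IsPGroup 2 A := S.isPGroup'.to_le inf_le_left
      have hBp : IsPGroup 2 B := S'.isPGroup'.to_le inf_le_left
      obtain ⟨k, hkH, hT⟩ := exists_conj_sup_isPGroup 2 H A B inf_le_right inf_le_right hAp hBp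
      have hkM : k ∈ M := hM D inf_le_left hfour hkH
      obtain ⟨S₁, hS₁⟩ := hT.exists_le_sylow
      have hAS₁ : A ≤ S₁ := le_sup_left.trans hS₁
      have hkBS₁ : MulAut.conj k • B ≤ S₁ := le_sup_right.trans hS₁
      have hDA : D ≤ A := le_inf inf_le_left Subgroup.le_normalizer
      have hDB : D ≤ B := le_inf inf_le_right Subgroup.le_normalizer
      have hcS : Nat.card D < Nat.card (S : Subgroup G) :=
        card_lt_card_of_le_of_ne inf_le_left hDS
      -- first induction step
      have hA1 : A ≤ (S : Subgroup G) ⊓ S₁ := le_inf inf_le_left hAS₁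
      have hc1 : Nat.card A ≤ Nat.card ((S : Subgroup G) ⊓ S₁ : Subgroup G) :=
        Subgroup.card_le_of_le hA1
      have hc1' : Nat.card ((S : Subgroup G) ⊓ S₁ : Subgroup G) ≤ Nat.card (S : Subgroup G) :=
        Subgroup.card_le_of_le inf_le_left
      obtain ⟨m₁, hm₁M, hm₁⟩ := ih _ (by omega) S₁ rfl (hfour.mono (hDA.trans hA1))
      -- second induction step
      set S'' : Sylow 2 G := (m₁ * k) • S' with hS''
      have hS''coe : (S'' : Subgroup G) = MulAut.conj (m₁ * k) • (S' : Subgroup G) := rfl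
      set X : Subgroup G := MulAut.conj m₁ • (MulAut.conj k • B) with hX
      have hXS : X ≤ S := by
        rw [← hm₁]
        exact Subgroup.pointwise_smul_le_pointwise_smul_iff.mpr hkBS₁
      have hXS'' : X ≤ S'' := by
        rw [hS''coe, ← conj_smul_conj_smul]
        exact Subgroup.pointwise_smul_le_pointwise_smul_iff.mpr
          (Subgroup.pointwise_smul_le_pointwise_smul_iff.mpr inf_le_left)
      have hXcard : Nat.card X = Nat.card B := by
        rw [hX, card_conj_smul, card_conj_smul]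
      have hX1 : X ≤ (S : Subgroup G) ⊓ S'' := le_inf hXS hXS''
      have hc2 : Nat.card X ≤ Nat.card ((S : Subgroup G) ⊓ S'' : Subgroup G) :=
        Subgroup.card_le_of_le hX1
      have hc2' : Nat.card ((S : Subgroup G) ⊓ S'' : Subgroup G) ≤ Nat.card (S : Subgroup G) :=
        Subgroup.card_le_of_le inf_le_left
      have hfourX : HasFour X := by
        have h1 : MulAut.conj k • D = D := conj_smul_eq_of_mem_normalizer hkH
        have h2 : D ≤ MulAut.conj k • B := by
          rw [← h1]
          exact Subgroup.pointwise_smul_le_pointwise_smul_iff.mpr hDB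
        have h3 : MulAut.conj m₁ • D ≤ X :=
          Subgroup.pointwise_smul_le_pointwise_smul_iff.mpr h2
        exact (hfour.conj m₁).mono h3
      obtain ⟨m₂, hm₂M, hm₂⟩ := ih _ (by omega) S'' rfl (hfourX.mono hX1)
      refine ⟨m₂ * (m₁ * k), M.mul_mem hm₂M (M.mul_mem hm₁M hkM), ?_⟩
      rw [← conj_smul_conj_smul, ← hS''coe, hm₂]

/-- The 2-generated core controls fusion of subgroups of `S` of 2-rank at least 2. -/
theorem mem_of_conj_smul_le
    (hM : ∀ Q : Subgroup G, Q ≤ S → HasFour Q → Subgroup.normalizer (Q : Set G) ≤ M)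
    {Q : Subgroup G} (hQS : Q ≤ S) (hQ : HasFour Q) {x : G}
    (hx : MulAut.conj x • Q ≤ S) : x ∈ M := by
  set S' : Sylow 2 G := x⁻¹ • S with hS'
  have hS'coe : (S' : Subgroup G) = MulAut.conj x⁻¹ • (S : Subgroup G) := rfl
  have hQS' : Q ≤ S' := by
    rw [hS'coe]
    have := Subgroup.pointwise_smul_le_pointwise_smul_iff (a := MulAut.conj x⁻¹) |>.mpr hx
    rwa [conj_smul_conj_smul, inv_mul_cancel, map_one, one_smul] at this
  obtain ⟨m, hmM, hm⟩ := exists_mem_conj_sylow_eq S M hM _ S' rfl (hQ.mono (le_inf hQS hQS'))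
  rw [hS'coe, conj_smul_conj_smul] at hm
  have h1 : m * x⁻¹ ∈ Subgroup.normalizer ((S : Subgroup G) : Set G) :=
    mem_normalizer_of_conj_smul_eq hm
  have h2 : m * x⁻¹ ∈ M := hM S le_rfl (hQ.mono hQS) h1
  have h3 : x = (m * x⁻¹)⁻¹ * m := by group
  rw [h3]
  exact M.mul_mem (M.inv_mem h2) hmM

/-- Every 2-subgroup is conjugate into the Sylow 2-subgroup `S`. -/
theorem exists_conj_smul_le_sylow {R : Subgroup G} (hR : IsPGroup 2 R) :
    ∃ h : G, MulAut.conj h • R ≤ S := by
  haveI : Fact (Nat.Prime 2) := ⟨Nat.prime_two⟩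
  obtain ⟨S₁, hS₁⟩ := hR.exists_le_sylow
  obtain ⟨h, hh⟩ := MulAction.exists_smul_eq G S₁ S
  refine ⟨h, ?_⟩
  have h1 : MulAut.conj h • (S₁ : Subgroup G) = S := by rw [← hh]; rfl
  rw [← h1]
  exact Subgroup.pointwise_smul_le_pointwise_smul_iff.mpr hS₁

/-- Along a path of the four-group graph starting inside `S`, every vertex can be moved into `S`
by an element of the 2-generated core. -/
theorem exists_mem_conj_le_of_fourConn
    (hM : ∀ Q : Subgroup G, Q ≤ S → HasFour Q → Subgroup.normalizer (Q : Set G) ≤ M)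
    {U₀ V : Subgroup G} (hU₀ : U₀ ≤ S) (h : FourConn U₀ V) :
    ∃ m ∈ M, MulAut.conj m • V ≤ S := by
  haveI : Fact (Nat.Prime 2) := ⟨Nat.prime_two⟩
  induction h with
  | refl => exact ⟨1, M.one_mem, by rw [map_one, one_smul]; exact hU₀⟩
  | @tail B C _ hBC ih =>
    obtain ⟨m, hmM, hmB⟩ := ih
    have hadj := hBC.conj m
    set B' := MulAut.conj m • B with hB'
    set C' := MulAut.conj m • C with hC'
    have hB'2 : IsPGroup 2 B' := isPGroup_of_isKleinFour hadj.1
    have hC'2 : IsPGroup 2 C' := isPGroup_of_isKleinFour hadj.2.1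
    have hnorm : B' ≤ Subgroup.normalizer (C' : Set G) := by
      intro b hb
      apply Subgroup.centralizer_le_normalizer (C' : Set G)
      rw [Subgroup.mem_centralizer_iff]
      intro c hc
      exact (hadj.2.2 b hb c hc).symm
    have hR : IsPGroup 2 (B' ⊔ C' : Subgroup G) :=
      IsPGroup.to_sup_of_normal_right' hB'2 hC'2 hnorm
    obtain ⟨h, hh⟩ := exists_conj_smul_le_sylow S hR
    have hhB : MulAut.conj h • B' ≤ S :=
      (Subgroup.pointwise_smul_le_pointwise_smul_iff.mpr le_sup_left).trans hh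
    have hhC : MulAut.conj h • C' ≤ S :=
      (Subgroup.pointwise_smul_le_pointwise_smul_iff.mpr le_sup_right).trans hh
    have hhM : h ∈ M := mem_of_conj_smul_le S M hM hmB ⟨B', le_rfl, hadj.1⟩ hhB
    refine ⟨h * m, M.mul_mem hhM hmM, ?_⟩
    rw [← conj_smul_conj_smul]
    exact hhC

/-- If the four-group graph of `G` is connected, the 2-generated core is the whole group. -/
theorem eq_top_of_isFourConnected
    (hM : ∀ Q : Subgroup G, Q ≤ S → HasFour Q → Subgroup.normalizer (Q : Set G) ≤ M)
    (h2 : ¬ Cfsg.PRankLE 2 1 G) (hconn : Cfsg.IsFourConnected G) : M = ⊤ := by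
  obtain ⟨U, hU⟩ := exists_kleinFour_of_not_pRankLE h2
  obtain ⟨g₀, hg₀⟩ := exists_conj_smul_le_sylow S (isPGroup_of_isKleinFour hU)
  set U₀ := MulAut.conj g₀ • U with hU₀
  have hU₀K : IsKleinFour U₀ := isKleinFour_conj_smul g₀ hU
  rw [eq_top_iff]
  intro g _
  have hpath : FourConn U₀ (MulAut.conj g • U₀) :=
    hconn U₀ _ hU₀K (isKleinFour_conj_smul g hU₀K)
  obtain ⟨m, hmM, hm⟩ := exists_mem_conj_le_of_fourConn S M hM hg₀ hpath
  rw [conj_smul_conj_smul] at hm
  have h3 : m * g ∈ M := mem_of_conj_smul_le S M hM hg₀ ⟨U₀, le_rfl, hU₀K⟩ hm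
  have h4 : g = m⁻¹ * (m * g) := by group
  rw [h4]
  exact M.mul_mem (M.inv_mem hmM) h3

/-- If the 2-generated core is the whole group and `S` has a connected four-group graph, then so
has `G`. -/
theorem isFourConnected_of_core_eq_top (hS : Cfsg.IsFourConnected (S : Subgroup G))
    (hMle : ∀ K : Subgroup G,
      (∀ Q : Subgroup G, Q ≤ S → HasFour Q → Subgroup.normalizer (Q : Set G) ≤ K) → M ≤ K)
    (h2 : ¬ Cfsg.PRankLE 2 1 G) (hMtop : M = ⊤) : Cfsg.IsFourConnected G := by
  obtain ⟨U, hU⟩ := exists_kleinFour_of_not_pRankLE h2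
  obtain ⟨g₀, hg₀⟩ := exists_conj_smul_le_sylow S (isPGroup_of_isKleinFour hU)
  set U₀ := MulAut.conj g₀ • U with hU₀
  have hU₀K : IsKleinFour U₀ := isKleinFour_conj_smul g₀ hU
  -- the stabilizer of the component of `U₀`
  let H : Subgroup G :=
    { carrier := {g | ∀ V : Subgroup G, FourConn U₀ V ↔ FourConn U₀ (MulAut.conj g • V)}
      one_mem' := by
        intro V
        rw [map_one, one_smul]
      mul_mem' := by
        intro a b ha hb V
        rw [← conj_smul_conj_smul]
        exact (hb V).trans (ha _)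
      inv_mem' := by
        intro a ha V
        have := ha (MulAut.conj a⁻¹ • V)
        rw [conj_smul_conj_smul, mul_inv_cancel, map_one, one_smul] at this
        exact this.symm }
  have hfwd : ∀ Q : Subgroup G, Q ≤ S → HasFour Q → ∀ g ∈ Subgroup.normalizer (Q : Set G),
      ∀ V : Subgroup G, FourConn U₀ V → FourConn U₀ (MulAut.conj g • V) := by
    intro Q hQS hQ g hg V hV
    obtain ⟨U₁, hU₁Q, hU₁K⟩ := hQ
    have hΔ1 : FourConn U₀ U₁ :=
      fourConn_of_le_of_isFourConnected (S : Subgroup G) hS hU₀K hU₁K hg₀ (hU₁Q.trans hQS)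
    have hgQ : MulAut.conj g • Q = Q := conj_smul_eq_of_mem_normalizer hg
    have hgU₁ : MulAut.conj g • U₁ ≤ S := by
      refine le_trans ?_ hQS
      rw [← hgQ]
      exact Subgroup.pointwise_smul_le_pointwise_smul_iff.mpr hU₁Q
    have hΔ2 : FourConn U₀ (MulAut.conj g • U₁) :=
      fourConn_of_le_of_isFourConnected (S : Subgroup G) hS hU₀K (isKleinFour_conj_smul g hU₁K)
        hg₀ hgU₁
    exact hΔ2.trans ((hΔ1.symm.trans hV).conj g)
  have hle : ∀ Q : Subgroup G, Q ≤ S → HasFour Q → Subgroup.normalizer (Q : Set G) ≤ H := by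
    intro Q hQS hQ g hg V
    constructor
    · exact hfwd Q hQS hQ g hg V
    · intro h
      have := hfwd Q hQS hQ g⁻¹ (Subgroup.inv_mem _ hg) _ h
      rwa [conj_smul_conj_smul, inv_mul_cancel, map_one, one_smul] at this
  have hHtop : H = ⊤ := by
    rw [eq_top_iff, ← hMtop]
    exact hMle H hle
  have hall : ∀ V : Subgroup G, IsKleinFour V → FourConn U₀ V := by
    intro V hV
    obtain ⟨g, hg⟩ := exists_conj_smul_le_sylow S (isPGroup_of_isKleinFour hV)
    have h1 : FourConn U₀ (MulAut.conj g • V) :=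
      fourConn_of_le_of_isFourConnected (S : Subgroup G) hS hU₀K (isKleinFour_conj_smul g hV)
        hg₀ hg
    have hgH : g ∈ H := by rw [hHtop]; trivial
    exact (hgH V).mpr h1
  intro A B hA hB
  exact (hall A hA).symm.trans (hall B hB)

end Fusion

end Cfsg.Agent.Helper9
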