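import Mathlib
import Cfsg.Prelude.Def_SolvableStructure

set_option autoImplicit false

namespace Cfsg.Agent.Helper9

open Subgroup

/-- `Reach A`: the subgroup `A` is reachable from `⊥` through a chain of normal subgroups of `G`
with cyclic steps. -/
inductive Reach {G : Type*} [Group G] : Subgroup G → Prop
  | bot : Reach ⊥
  | step (A : Subgroup G) (g : G) : Reach A → (A ⊔ zpowers g).Normal → Reach (A ⊔ zpowers g)

theorem Reach.normal {G : Type*} [Group G] {A : Subgroup G} (h : Reach A) : A.Normal := by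
  induction h with
  | bot => exact Subgroup.normal_bot
  | step A g _ hn _ => exact hn

theorem reach_of_chain {G : Type*} [Group G] (n : ℕ) (H : Fin (n + 1) → Subgroup G)
    (h0 : H 0 = ⊥) (hn : ∀ i, (H i).Normal)
    (hs : ∀ i : Fin n, ∃ g : G, H i.succ = H i.castSucc ⊔ Subgroup.zpowers g) :
    ∀ i, Reach (H i) := by
  intro i
  induction i using Fin.induction with
  | zero => rw [h0]; exact Reach.bot
  | succ i ih =>
    obtain ⟨g, hg⟩ := hs i
    have := hn i.succ
    rw [hg] at this ⊢
    exact Reach.step _ g ih this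

theorem chain_of_reach {G : Type*} [Group G] {A : Subgroup G} (h : Reach A) :
    ∃ (n : ℕ) (H : Fin (n + 1) → Subgroup G),
      H 0 = ⊥ ∧ H (Fin.last n) = A ∧ (∀ i, (H i).Normal) ∧
        ∀ i : Fin n, ∃ g : G, H i.succ = H i.castSucc ⊔ Subgroup.zpowers g := by
  induction h with
  | bot =>
    exact ⟨0, fun _ => ⊥, rfl, rfl, fun _ => Subgroup.normal_bot, fun i => i.elim0⟩
  | step A g hA hN ih =>
    obtain ⟨n, H, h0, hl, hnorm, hstep⟩ := ih
    refine ⟨n + 1, Fin.snoc H (A ⊔ zpowers g), ?_, ?_, ?_, ?_⟩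
    · have : (0 : Fin (n + 1 + 1)) = Fin.castSucc (0 : Fin (n + 1)) := rfl
      rw [this, Fin.snoc_castSucc]; exact h0
    · rw [Fin.snoc_last]
    · intro i
      induction i using Fin.lastCases with
      | last => rw [Fin.snoc_last]; exact hN
      | cast j => rw [Fin.snoc_castSucc]; exact hnorm j
    · intro i
      induction i using Fin.lastCases with
      | last =>
        refine ⟨g, ?_⟩
        rw [Fin.succ_last, Fin.snoc_last, Fin.snoc_castSucc, hl]
      | cast j =>
        obtain ⟨g', hg'⟩ := hstep j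
        refine ⟨g', ?_⟩
        rw [← Fin.castSucc_succ, Fin.snoc_castSucc, Fin.snoc_castSucc, hg']

theorem isSupersolvable_iff_reach {G : Type*} [Group G] :
    Cfsg.IsSupersolvable G ↔ Reach (⊤ : Subgroup G) := by
  constructor
  · rintro ⟨n, H, h0, hl, hn, hs⟩
    rw [← hl]
    exact reach_of_chain n H h0 hn hs _
  · intro h
    obtain ⟨n, H, h0, hl, hn, hs⟩ := chain_of_reach h
    exact ⟨n, H, h0, hl, hn, hs⟩

theorem Reach.map {G G' : Type*} [Group G] [Group G'] (f : G →* G') (hf : Function.Surjective f)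
    {A : Subgroup G} (h : Reach A) : Reach (A.map f) := by
  induction h with
  | bot => rw [Subgroup.map_bot]; exact Reach.bot
  | step A g hA hN ih =>
    have hN' : ((A ⊔ zpowers g).map f).Normal := hN.map f hf
    rw [Subgroup.map_sup, MonoidHom.map_zpowers] at hN' ⊢
    exact Reach.step _ _ ih hN'

theorem isSupersolvable_of_surjective {G G' : Type*} [Group G] [Group G'] (f : G →* G')
    (hf : Function.Surjective f) (h : Cfsg.IsSupersolvable G) : Cfsg.IsSupersolvable G' := by
  rw [isSupersolvable_iff_reach] at h ⊢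
  have := h.map f hf
  rwa [Subgroup.map_top_of_surjective f hf] at this

/-- key step for comap. -/
theorem comap_sup_zpowers {K G : Type*} [Group K] [Group G] (f : K →* G) (A : Subgroup G)
    [hA : A.Normal] (g : G) :
    ∃ h : K, (A ⊔ zpowers g).comap f = A.comap f ⊔ zpowers h := by
  set B := A ⊔ zpowers g with hB
  let π := QuotientGroup.mk' A
  set M : Subgroup (G ⧸ A) := (B.comap f).map (π.comp f) with hM
  have hMle : M ≤ zpowers (π g) := by
    rintro _ ⟨x, hx, rfl⟩
    have hx' : f x ∈ B := hx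
    have : (B.map π) = zpowers (π g) := by
      rw [hB, Subgroup.map_sup, MonoidHom.map_zpowers]
      have : A.map π = ⊥ := by
        rw [eq_bot_iff]
        rintro _ ⟨a, ha, rfl⟩
        rw [Subgroup.mem_bot, QuotientGroup.mk'_apply, QuotientGroup.eq_one_iff]
        exact ha
      rw [this, bot_sup_eq]
    rw [← this]
    exact ⟨f x, hx', rfl⟩
  have hcyc : IsCyclic M := Subgroup.isCyclic_of_le hMle
  obtain ⟨y, hy⟩ := (Subgroup.isCyclic_iff_exists_zpowers_eq_top M).mp hcyc
  have hyM : y ∈ M := by rw [← hy]; exact mem_zpowers y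
  obtain ⟨h, hh, rfl⟩ := hyM
  refine ⟨h, le_antisymm ?_ ?_⟩
  · intro x hx
    have hxM : (π.comp f) x ∈ M := ⟨x, hx, rfl⟩
    rw [← hy] at hxM
    obtain ⟨m, hm⟩ := mem_zpowers_iff.mp hxM
    have hker : (π.comp f) (h ^ (-m) * x) = 1 := by
      rw [map_mul, map_zpow, ← hm, zpow_neg, inv_mul_cancel]
    have hmemA : f (h ^ (-m) * x) ∈ A := by
      have : π (f (h ^ (-m) * x)) = 1 := hker
      rwa [QuotientGroup.mk'_apply, QuotientGroup.eq_one_iff] at this
    have : x = h ^ m * (h ^ (-m) * x) := by group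
    rw [this]
    exact (A.comap f ⊔ zpowers h).mul_mem
      ((le_sup_right : zpowers h ≤ _) (zpow_mem_zpowers h m))
      ((le_sup_left : A.comap f ≤ _) hmemA)
  · apply sup_le
    · exact Subgroup.comap_mono le_sup_left
    · rw [zpowers_le]; exact hh

theorem Reach.comap {K G : Type*} [Group K] [Group G] (f : K →* G) (hker : Reach f.ker)
    {A : Subgroup G} (h : Reach A) : Reach (A.comap f) := by
  induction h with
  | bot => rw [MonoidHom.comap_bot]; exact hker
  | step A g hA hN ih =>
    have := hA.normal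
    obtain ⟨h, hh⟩ := comap_sup_zpowers f A g
    have hN' : ((A ⊔ zpowers g).comap f).Normal := hN.comap f
    rw [hh] at hN' ⊢
    exact Reach.step _ _ ih hN'

theorem isSupersolvable_subgroup {G : Type*} [Group G] (h : Cfsg.IsSupersolvable G)
    (H : Subgroup G) : Cfsg.IsSupersolvable H := by
  rw [isSupersolvable_iff_reach] at h ⊢
  have hker : Reach (H.subtype).ker := by
    rw [Subgroup.ker_subtype]; exact Reach.bot
  have := Reach.comap H.subtype hker h
  rwa [Subgroup.comap_top] at this

theorem isSupersolvable_quotient {G : Type*} [Group G] (h : Cfsg.IsSupersolvable G)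
    (N : Subgroup G) [N.Normal] : Cfsg.IsSupersolvable (G ⧸ N) :=
  isSupersolvable_of_surjective (QuotientGroup.mk' N) (QuotientGroup.mk'_surjective N) h

theorem isSupersolvable_of_reach_of_quotient {G : Type*} [Group G] (N : Subgroup G) [N.Normal]
    (hN : Reach N) (h : Cfsg.IsSupersolvable (G ⧸ N)) : Cfsg.IsSupersolvable G := by
  rw [isSupersolvable_iff_reach] at h ⊢
  have hker : Reach (QuotientGroup.mk' N).ker := by
    rw [QuotientGroup.ker_mk']; exact hN
  have := Reach.comap (QuotientGroup.mk' N) hker h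
  rwa [Subgroup.comap_top] at this

theorem reach_zpowers {G : Type*} [Group G] (g : G) (h : (zpowers g).Normal) :
    Reach (zpowers g) := by
  have h' : ((⊥ : Subgroup G) ⊔ zpowers g).Normal := by rwa [bot_sup_eq]
  have := Reach.step ⊥ g Reach.bot h'
  rwa [bot_sup_eq] at this

theorem isSupersolvable_of_cyclic_normal_of_quotient {G : Type*} [Group G] (N : Subgroup G)
    [hn : N.Normal] [hc : IsCyclic N] (h : Cfsg.IsSupersolvable (G ⧸ N)) :
    Cfsg.IsSupersolvable G := by
  obtain ⟨g, hg⟩ := (Subgroup.isCyclic_iff_exists_zpowers_eq_top N).mp hc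
  apply isSupersolvable_of_reach_of_quotient N _ h
  rw [← hg]
  apply reach_zpowers
  rw [hg]; exact hn

theorem map_inl_eq_prod_bot {G H : Type*} [Group G] [Group H] (A : Subgroup G) :
    A.map (MonoidHom.inl G H) = A.prod ⊥ := by
  ext ⟨x, y⟩
  simp only [Subgroup.mem_map, MonoidHom.inl_apply, Prod.mk.injEq, Subgroup.mem_prod,
    Subgroup.mem_bot]
  constructor
  · rintro ⟨a, ha, rfl, rfl⟩; exact ⟨ha, rfl⟩
  · rintro ⟨ha, rfl⟩; exact ⟨x, ha, rfl, rfl⟩

theorem Reach.prod_bot {G H : Type*} [Group G] [Group H] {A : Subgroup G} (h : Reach A) :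
    Reach (A.prod (⊥ : Subgroup H)) := by
  rw [← map_inl_eq_prod_bot]
  induction h with
  | bot => rw [Subgroup.map_bot]; exact Reach.bot
  | step A g hA hN ih =>
    have hN' : ((A ⊔ zpowers g).map (MonoidHom.inl G H)).Normal := by
      rw [map_inl_eq_prod_bot]
      have : (⊥ : Subgroup H).Normal := Subgroup.normal_bot
      exact Subgroup.prod_normal _ _
    rw [Subgroup.map_sup, MonoidHom.map_zpowers] at hN' ⊢
    exact Reach.step _ _ ih hN'

theorem isSupersolvable_prod {G H : Type*} [Group G] [Group H] (hG : Cfsg.IsSupersolvable G)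
    (hH : Cfsg.IsSupersolvable H) : Cfsg.IsSupersolvable (G × H) := by
  rw [isSupersolvable_iff_reach] at hG hH ⊢
  have hker : Reach (MonoidHom.snd G H).ker := by
    rw [MonoidHom.ker_snd]; exact hG.prod_bot
  have := Reach.comap (MonoidHom.snd G H) hker hH
  rwa [Subgroup.comap_top] at this

end Cfsg.Agent.Helper9
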