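import Mathlib
import Cfsg.Agent.Lib.Helper9.Supersolvable

set_option autoImplicit false

namespace Cfsg.Agent.Helper9

open Subgroup
open scoped Pointwise

theorem Reach.exists_normal_zpowers {G : Type*} [Group G] {A : Subgroup G} (h : Reach A)
    (hne : A ≠ ⊥) : ∃ g : G, g ≠ 1 ∧ (zpowers g).Normal ∧ zpowers g ≤ A := by
  induction h with
  | bot => exact absurd rfl hne
  | step A g hA hN ih =>
    by_cases hAb : A = ⊥
    · subst hAb
      rw [bot_sup_eq] at hN hne ⊢
      refine ⟨g, ?_, hN, le_rfl⟩
      rintro rfl
      exact hne zpowers_one_eq_bot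
    · obtain ⟨g', h1, h2, h3⟩ := ih hAb
      exact ⟨g', h1, h2, h3.trans le_sup_left⟩

/-- A normal cyclic subgroup contains normal subgroups `zpowers (g ^ m)`. -/
theorem normal_zpowers_pow {G : Type*} [Group G] (g : G) (hN : (zpowers g).Normal) (m : ℕ) :
    (zpowers (g ^ m)).Normal := by
  constructor
  intro w hw x
  obtain ⟨j, rfl⟩ := mem_zpowers_iff.mp hw
  have := hN.conj_mem g (mem_zpowers g) x
  obtain ⟨k, hk⟩ := mem_zpowers_iff.mp this
  have : x * (g ^ m) ^ j * x⁻¹ = ((g ^ m) ^ k) ^ j := by
    rw [← conj_zpow, ← conj_pow, ← hk]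
    rw [← zpow_natCast, ← zpow_natCast, ← zpow_mul, ← zpow_mul, ← zpow_mul, ← zpow_mul]
    congr 1; ring
  rw [this]
  exact zpow_mem (zpow_mem (mem_zpowers _) k) j

theorem exists_normal_prime_card {G : Type*} [Group G] [Finite G] [Nontrivial G]
    (hG : Cfsg.IsSupersolvable G) : ∃ C : Subgroup G, C.Normal ∧ (Nat.card C).Prime := by
  rw [isSupersolvable_iff_reach] at hG
  obtain ⟨g, hg1, hgN, -⟩ := hG.exists_normal_zpowers top_ne_bot
  have hn0 : orderOf g ≠ 0 := (orderOf_pos g).ne'
  have hn1 : orderOf g ≠ 1 := by
    intro h; exact hg1 (orderOf_eq_one_iff.mp h)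
  set p := (orderOf g).minFac with hp
  have hpp : p.Prime := Nat.minFac_prime hn1
  have hpd : p ∣ orderOf g := Nat.minFac_dvd _
  refine ⟨zpowers (g ^ (orderOf g / p)), normal_zpowers_pow g hgN _, ?_⟩
  rw [Nat.card_zpowers, orderOf_pow_orderOf_div hn0 hpd]
  exact hpp

theorem card_quotient_lt {G : Type*} [Group G] [Finite G] (C : Subgroup G) [C.Normal]
    (hC : 1 < Nat.card C) : Nat.card (G ⧸ C) < Nat.card G := by
  have h := Subgroup.card_eq_card_quotient_mul_card_subgroup C
  have hpos : 0 < Nat.card (G ⧸ C) := Nat.card_pos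
  rw [h]
  nlinarith

theorem index_prime_of_isCoatom {G : Type*} [Group G] [Finite G] (hG : Cfsg.IsSupersolvable G)
    (M : Subgroup G) (hM : IsCoatom M) : M.index.Prime := by
  induction' h : Nat.card G using Nat.strong_induction_on with n ih generalizing G
  have : Nontrivial G := by
    by_contra hnt
    rw [not_nontrivial_iff_subsingleton] at hnt
    exact hM.1 (Subsingleton.elim _ _)
  obtain ⟨C, hCn, hCp⟩ := exists_normal_prime_card hG
  by_cases hCM : C ≤ M
  · let π := QuotientGroup.mk' C
    have hsurj : Function.Surjective π := QuotientGroup.mk'_surjective C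
    have hker : π.ker ≤ M := by rw [QuotientGroup.ker_mk']; exact hCM
    have hcomap : (M.map π).comap π = M := by
      rw [Subgroup.comap_map_eq, QuotientGroup.ker_mk', sup_eq_left.mpr hCM]
    have hcoatom : IsCoatom (M.map π) := by
      constructor
      · intro htop
        rw [htop, Subgroup.comap_top] at hcomap
        exact hM.1 hcomap.symm
      · intro X hX
        have h1 : M ≤ X.comap π := by
          rw [← hcomap]; exact Subgroup.comap_mono hX.le
        have h2 : M ≠ X.comap π := by
          intro heq
          have : X = M.map π := by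
            rw [heq, Subgroup.map_comap_eq_self_of_surjective hsurj]
          exact hX.ne this.symm
        have h3 := hM.2 _ (lt_of_le_of_ne h1 h2)
        rw [← Subgroup.map_comap_eq_self_of_surjective hsurj X, h3,
          Subgroup.map_top_of_surjective π hsurj]
    have hidx : (M.map π).index = M.index := Subgroup.index_map_eq _ hsurj hker
    rw [← hidx]
    have hlt : Nat.card (G ⧸ C) < n := by
      rw [← h]; exact card_quotient_lt C hCp.one_lt
    exact ih _ hlt (isSupersolvable_quotient hG C) (M.map π) hcoatom rfl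
  · have hsup : M ⊔ C = ⊤ := by
      by_contra hne
      have : M = M ⊔ C := by
        by_contra h2
        exact hne (hM.2 _ (lt_of_le_of_ne le_sup_left h2))
      exact hCM (by rw [this]; exact le_sup_right)
    have hdisj : Disjoint C M := by
      rw [disjoint_iff]
      have : Fact (Nat.card C).Prime := ⟨hCp⟩
      rcases (Subgroup.eq_bot_or_eq_top_of_prime_card ((C ⊓ M).subgroupOf C)) with h1 | h1
      · rwa [Subgroup.subgroupOf_eq_bot, disjoint_iff, inf_assoc, inf_comm M C, ← inf_assoc,
          inf_idem] at h1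
      · rw [Subgroup.subgroupOf_eq_top] at h1
        exact absurd (h1.trans inf_le_right) hCM
    have hmul : (C : Set G) * (M : Set G) = Set.univ := by
      rw [← Subgroup.normal_mul, sup_comm, hsup]; rfl
    have hcompl := isComplement'_of_disjoint_and_mul_eq_univ hdisj hmul
    rw [hcompl.index_eq_card]
    exact hCp

end Cfsg.Agent.Helper9
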