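import Mathlib
import Cfsg.Agent.Lib.Helper9.SupersolvablePrime

set_option autoImplicit false

namespace Cfsg.Agent.Helper9

open Subgroup

theorem isSupersolvable_of_subsingleton {G : Type*} [Group G] [Subsingleton G] :
    Cfsg.IsSupersolvable G := by
  rw [isSupersolvable_iff_reach]
  have : (⊤ : Subgroup G) = ⊥ := Subsingleton.elim _ _
  rw [this]; exact Reach.bot

theorem isSupersolvable_of_isCyclic {G : Type*} [Group G] [hc : IsCyclic G] :
    Cfsg.IsSupersolvable G := by
  rw [isSupersolvable_iff_reach]
  obtain ⟨g, hg⟩ := isCyclic_iff_exists_zpowers_eq_top.mp hc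
  rw [← hg]
  apply reach_zpowers
  rw [hg]; infer_instance

/-- finite `p`-groups are supersolvable -/
theorem isSupersolvable_of_isPGroup {G : Type*} [Group G] [Finite G] (p : ℕ) [hp : Fact p.Prime]
    (hG : IsPGroup p G) : Cfsg.IsSupersolvable G := by
  induction' h : Nat.card G using Nat.strong_induction_on with n ih generalizing G
  by_cases hnt : Nontrivial G
  · have hc : Nontrivial (center G) := hG.center_nontrivial
    have hcp : IsPGroup p (center G) := hG.to_subgroup _
    have hdvd : p ∣ Nat.card (center G) := by
      obtain ⟨k, hk⟩ := IsPGroup.iff_card.mp hcp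
      have hk0 : k ≠ 0 := by
        rintro rfl
        rw [pow_zero] at hk
        have : Subsingleton (center G) := (Nat.card_eq_one_iff_unique.mp hk).1
        exact not_subsingleton _ this
      rw [hk]; exact dvd_pow_self p hk0
    obtain ⟨z, hz⟩ := exists_prime_orderOf_dvd_card' p hdvd
    have hzG : orderOf (z : G) = p := by rw [Subgroup.orderOf_coe]; exact hz
    have hN : (zpowers (z : G)).Normal := by
      constructor
      intro w hw x
      have hwc : w ∈ center G := by
        obtain ⟨k, rfl⟩ := mem_zpowers_iff.mp hw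
        exact zpow_mem z.2 k
      rw [mem_center_iff] at hwc
      rw [hwc x, mul_inv_cancel_right]; exact hw
    have hC1 : 1 < Nat.card (zpowers (z : G)) := by
      rw [Nat.card_zpowers, hzG]; exact hp.out.one_lt
    have hlt : Nat.card (G ⧸ zpowers (z : G)) < n := by
      rw [← h]; exact card_quotient_lt _ hC1
    have hQ := ih _ hlt (hG.to_quotient (zpowers (z : G))) rfl
    exact isSupersolvable_of_cyclic_normal_of_quotient (zpowers (z : G)) hQ
  · rw [not_nontrivial_iff_subsingleton] at hnt
    exact isSupersolvable_of_subsingleton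

theorem mem_normalizer_zpowers {G : Type*} [Group G] (x u : G)
    (h1 : x * u * x⁻¹ ∈ zpowers u) (h2 : x⁻¹ * u * x ∈ zpowers u) :
    x ∈ normalizer (zpowers u : Set G) := by
  rw [mem_normalizer_iff]
  intro w
  constructor
  · intro hw
    obtain ⟨k, rfl⟩ := mem_zpowers_iff.mp hw
    rw [← conj_zpow]; exact zpow_mem h1 k
  · intro hw
    obtain ⟨k, hk⟩ := mem_zpowers_iff.mp hw
    have : w = x⁻¹ * u ^ k * x := by rw [hk]; group
    rw [this]
    have h3 : x⁻¹ * u ^ k * x = (x⁻¹ * u * x⁻¹⁻¹) ^ k := by rw [conj_zpow, inv_inv]
    rw [h3]; rw [inv_inv]; exact zpow_mem h2 k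

theorem isSupersolvable_of_card_two_mul_odd_prime_pow {G : Type*} [Group G] [Finite G] (p n : ℕ)
    (hp : p.Prime) (hp2 : p ≠ 2) (hG : Nat.card G = 2 * p ^ n) : Cfsg.IsSupersolvable G := by
  induction n generalizing G with
  | zero =>
    have : Fact (Nat.Prime 2) := ⟨Nat.prime_two⟩
    have h2 : Nat.card G = 2 := by simpa using hG
    have := isCyclic_of_prime_card h2
    exact isSupersolvable_of_isCyclic
  | succ n ih =>
    have : Fact p.Prime := ⟨hp⟩
    have hcop : Nat.Coprime 2 p := by
      rw [Nat.coprime_primes Nat.prime_two hp]; exact hp2.symm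
    obtain P : Sylow p G := default
    have hPcard : Nat.card P = p ^ (n + 1) := by
      rw [Sylow.card_eq_multiplicity, hG, Nat.factorization_mul (by norm_num) (pow_pos hp.pos _).ne']
      simp [Nat.factorization_eq_zero_of_not_dvd
        (fun h => hp2 ((Nat.prime_dvd_prime_iff_eq hp Nat.prime_two).mp h)), hp.factorization_self]
    have hPidx : (P : Subgroup G).index = 2 := by
      have := Subgroup.card_mul_index (P : Subgroup G)
      rw [hPcard, hG, mul_comm] at this
      exact Nat.eq_of_mul_eq_mul_right (pow_pos hp.pos _) this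
    have hPn : (P : Subgroup G).Normal := Subgroup.normal_of_index_eq_two hPidx
    -- a central element of order p in P
    obtain ⟨z, hzP, hzo, hzc⟩ : ∃ z : G, z ∈ (P : Subgroup G) ∧ orderOf z = p ∧
        ∀ x ∈ (P : Subgroup G), x * z = z * x := by
      have hPp : IsPGroup p (P : Subgroup G) := P.isPGroup'
      have hPnt : Nontrivial (P : Subgroup G) := by
        rw [← Finite.one_lt_card_iff_nontrivial, hPcard]
        exact Nat.one_lt_pow (Nat.succ_ne_zero n) hp.one_lt
      have hc : Nontrivial (center (P : Subgroup G)) := hPp.center_nontrivial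
      have hcp : IsPGroup p (center (P : Subgroup G)) := hPp.to_subgroup _
      have hdvd : p ∣ Nat.card (center (P : Subgroup G)) := by
        obtain ⟨k, hk⟩ := IsPGroup.iff_card.mp hcp
        have hk0 : k ≠ 0 := by
          rintro rfl
          rw [pow_zero] at hk
          have : Subsingleton (center (P : Subgroup G)) := (Nat.card_eq_one_iff_unique.mp hk).1
          exact not_subsingleton _ this
        rw [hk]; exact dvd_pow_self p hk0
      obtain ⟨z, hz⟩ := exists_prime_orderOf_dvd_card' p hdvd
      refine ⟨((z : (P : Subgroup G)) : G), (z : (P : Subgroup G)).2, ?_, ?_⟩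
      · rw [Subgroup.orderOf_coe, Subgroup.orderOf_coe]; exact hz
      · intro x hx
        have := mem_center_iff.mp z.2 ⟨x, hx⟩
        exact congrArg Subtype.val this
    obtain ⟨t, ht⟩ := exists_prime_orderOf_dvd_card' (G := G) 2 (by rw [hG]; exact dvd_mul_right 2 _)
    have htt : t * t = 1 := by rw [← pow_two, ← ht, pow_orderOf_eq_one]
    have htinv : t⁻¹ = t := inv_eq_of_mul_eq_one_right htt
    set z' := t * z * t⁻¹ with hz'
    have hz'P : z' ∈ (P : Subgroup G) := hPn.conj_mem z hzP t
    have hz'c : ∀ x ∈ (P : Subgroup G), x * z' = z' * x := by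
      intro x hx
      have h1 : t⁻¹ * x * t ∈ (P : Subgroup G) := by
        have := hPn.conj_mem x hx t⁻¹
        rwa [inv_inv] at this
      have h2 := hzc _ h1
      calc x * z' = t * ((t⁻¹ * x * t) * z) * t⁻¹ := by rw [hz']; group
        _ = t * (z * (t⁻¹ * x * t)) * t⁻¹ := by rw [h2]
        _ = z' * x := by rw [hz']; group
    have hzz' : z * z' = z' * z := (hz'c z hzP)
    obtain ⟨u, huP, huo, huc, hut⟩ : ∃ u : G, u ∈ (P : Subgroup G) ∧ orderOf u = p ∧
        (∀ x ∈ (P : Subgroup G), x * u = u * x) ∧ (t * u * t⁻¹ ∈ zpowers u) := by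
      by_cases hw : z * z' = 1
      · refine ⟨z, hzP, hzo, hzc, ?_⟩
        have : t * z * t⁻¹ = z⁻¹ := by
          rw [← hz']; exact (inv_eq_of_mul_eq_one_right hw).symm
        rw [this]; exact inv_mem (mem_zpowers z)
      · refine ⟨z * z', mul_mem hzP hz'P, ?_, ?_, ?_⟩
        · have hpow : (z * z') ^ p = 1 := by
            rw [(show Commute z z' from hzz').mul_pow, hz', conj_pow, ← hzo, pow_orderOf_eq_one]
            group
          have hdvd := orderOf_dvd_of_pow_eq_one hpow
          rcases (Nat.dvd_prime hp).mp hdvd with h1 | h1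
          · exact absurd (orderOf_eq_one_iff.mp h1) hw
          · exact h1
        · intro x hx
          calc x * (z * z') = (x * z) * z' := by rw [mul_assoc]
            _ = z * (x * z') := by rw [hzc x hx, mul_assoc]
            _ = z * (z' * x) := by rw [hz'c x hx]
            _ = z * z' * x := (mul_assoc z z' x).symm
        · have : t * (z * z') * t⁻¹ = z * z' := by
            have h3 : t * z' * t⁻¹ = z := by
              rw [hz', htinv]
              calc t * (t * z * t) * t = (t * t) * z * (t * t) := by group
                _ = z := by rw [htt]; group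
            calc t * (z * z') * t⁻¹ = (t * z * t⁻¹) * (t * z' * t⁻¹) := by group
              _ = z' * z := by rw [h3]
              _ = z * z' := hzz'.symm
          rw [this]; exact mem_zpowers _
    have hNu : (zpowers u).Normal := by
      rw [← normalizer_eq_top_iff, eq_top_iff]
      have hsup : (P : Subgroup G) ⊔ zpowers t = ⊤ := by
        apply Subgroup.eq_top_of_le_card
        have h1 : Nat.card (P : Subgroup G) ∣ Nat.card ((P : Subgroup G) ⊔ zpowers t : Subgroup G) :=
          Subgroup.card_dvd_of_le le_sup_left
        have h2 : Nat.card (zpowers t) ∣ Nat.card ((P : Subgroup G) ⊔ zpowers t : Subgroup G) :=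
          Subgroup.card_dvd_of_le le_sup_right
        rw [Nat.card_zpowers, ht] at h2
        rw [hPcard] at h1
        have hc2 : Nat.Coprime 2 (p ^ (n + 1)) := Nat.Coprime.pow_right _ hcop
        have := hc2.mul_dvd_of_dvd_of_dvd h2 h1
        rw [hG]
        exact Nat.le_of_dvd Nat.card_pos this
      rw [← hsup]
      apply sup_le
      · intro x hx
        apply mem_normalizer_zpowers
        · have : x * u * x⁻¹ = u := by rw [huc x hx]; group
          rw [this]; exact mem_zpowers u
        · have : x⁻¹ * u * x = u := by rw [mul_assoc, ← huc x hx]; group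
          rw [this]; exact mem_zpowers u
      · rw [zpowers_le]
        apply mem_normalizer_zpowers
        · exact hut
        · rw [htinv]; rw [htinv] at hut; exact hut
    have hcardQ : Nat.card (G ⧸ zpowers u) = 2 * p ^ n := by
      have h1 := Subgroup.card_eq_card_quotient_mul_card_subgroup (zpowers u)
      rw [Nat.card_zpowers, huo, hG, pow_succ, ← mul_assoc] at h1
      exact (Nat.eq_of_mul_eq_mul_right hp.pos h1).symm
    have hQ := ih hcardQ
    exact isSupersolvable_of_cyclic_normal_of_quotient (zpowers u) hQ

theorem isSupersolvable_of_card_two_mul_prime_pow {G : Type*} [Group G] [Finite G] (p n : ℕ)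
    (hp : p.Prime) (hG : Nat.card G = 2 * p ^ n) : Cfsg.IsSupersolvable G := by
  by_cases hp2 : p = 2
  · subst hp2
    have : Fact (Nat.Prime 2) := ⟨hp⟩
    apply isSupersolvable_of_isPGroup 2
    apply IsPGroup.of_card (n := n + 1)
    rw [hG, pow_succ, mul_comm]
  · exact isSupersolvable_of_card_two_mul_odd_prime_pow p n hp hp2 hG

end Cfsg.Agent.Helper9
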