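import Mathlib
import Cfsg.Prelude.Def_SolvableStructure
import Cfsg.Agent.Lib.Helper9.Supersolvable
import Cfsg.Agent.Lib.Helper9.SupersolvablePrime
import Cfsg.Agent.Lib.Helper9.SupersolvableTwoP
import Cfsg.Agent.Lib.Helper62.MinNormal

set_option autoImplicit false

namespace Cfsg.Agent.Helper9

universe u v

open scoped Pointwise

/-- A group has a subgroup of index `p` for every prime divisor `p` of its order. -/
def HasPrimeIdx (G : Type*) [Group G] : Prop :=
  ∀ p : ℕ, p.Prime → p ∣ Nat.card G → ∃ K : Subgroup G, K.index = p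

/-- Every subgroup has subgroups of index `p` for every prime divisor `p` of its order. -/
def HeredPrimeIdx (G : Type*) [Group G] : Prop :=
  ∀ H : Subgroup G, HasPrimeIdx H

theorem hasPrimeIdx_of_mulEquiv {A B : Type*} [Group A] [Group B] (e : A ≃* B)
    (h : HasPrimeIdx A) : HasPrimeIdx B := by
  intro p hp hd
  rw [← Nat.card_congr e.toEquiv] at hd
  obtain ⟨K, hK⟩ := h p hp hd
  exact ⟨K.map (e : A →* B), by rw [Subgroup.index_map_equiv, hK]⟩

theorem HeredPrimeIdx.top {G : Type*} [Group G] (h : HeredPrimeIdx G) : HasPrimeIdx G :=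
  hasPrimeIdx_of_mulEquiv (Subgroup.topEquiv (G := G)) (h ⊤)

theorem HeredPrimeIdx.subgroup {G : Type*} [Group G] (h : HeredPrimeIdx G) (M : Subgroup G) :
    HeredPrimeIdx M := by
  intro H
  have e := Subgroup.equivMapOfInjective H M.subtype M.subtype_injective
  exact hasPrimeIdx_of_mulEquiv e.symm (h (H.map M.subtype))

theorem heredPrimeIdx_of_hered {G : Type*} [Group G] [Finite G]
    (h : ∀ H : Subgroup G, Cfsg.HasSubgroupOfEveryOrder H) : HeredPrimeIdx G := by
  intro H p hp hd
  obtain ⟨m, hm⟩ := hd
  obtain ⟨K, hK⟩ := h H m ⟨p, by rw [hm, mul_comm]⟩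
  refine ⟨K, ?_⟩
  have h1 := Subgroup.card_mul_index K
  rw [hK, hm, mul_comm] at h1
  have hm0 : 0 < m := by
    rcases Nat.eq_zero_or_pos m with h0 | h0
    · rw [h0, mul_zero] at hm; exact absurd hm (Nat.card_pos (α := H)).ne'
    · exact h0
  exact Nat.eq_of_mul_eq_mul_right hm0 h1

theorem index_prime_sup_eq_top {G : Type*} [Group G] {L N : Subgroup G} (hL : L.index.Prime)
    (hN : ¬ N ≤ L) : L ⊔ N = ⊤ := by
  have h1 : (L ⊔ N).index ∣ L.index := Subgroup.index_dvd_of_le le_sup_left
  rcases (Nat.dvd_prime hL).mp h1 with h | h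
  · exact Subgroup.index_eq_one.mp h
  · exfalso
    have h2 := Subgroup.relIndex_mul_index (le_sup_left : L ≤ L ⊔ N)
    rw [h] at h2
    have h3 : L.relIndex (L ⊔ N) = 1 := by
      have hpos : 0 < L.index := hL.pos
      nlinarith [Nat.eq_of_mul_eq_mul_right hpos (by rw [one_mul]; exact h2 : L.relIndex (L ⊔ N) * L.index = 1 * L.index)]
    rw [Subgroup.relIndex_eq_one] at h3
    exact hN (le_sup_right.trans h3)

theorem card_lt_of_index_prime {G : Type*} [Group G] [Finite G] {L : Subgroup G}
    (hL : L.index.Prime) : Nat.card L < Nat.card G := by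
  have h1 := Subgroup.card_mul_index L
  have h2 := hL.two_le
  have h3 : 0 < Nat.card L := Nat.card_pos
  nlinarith

theorem card_lt_of_ne_top {G : Type*} [Group G] [Finite G] {H : Subgroup G} (hH : H ≠ ⊤) :
    Nat.card H < Nat.card G := by
  rcases lt_or_eq_of_le (Subgroup.card_le_card_group H) with h | h
  · exact h
  · exact absurd (Subgroup.eq_top_of_card_eq H h) hH

/-- The hereditary prime-index property passes to homomorphic images. -/
theorem HeredPrimeIdx.of_surjective_aux : ∀ (n : ℕ) (G : Type u) [Group G] [Finite G]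
    (G' : Type v) [Group G'] (f : G →* G'), Function.Surjective f → Nat.card G = n →
    HeredPrimeIdx G → HeredPrimeIdx G' := by
  intro n
  induction n using Nat.strong_induction_on with
  | _ n ih =>
    intro G _ _ G' _ f hf hcard hG H' p hp hdvd
    by_cases hH : H'.comap f = ⊤
    · have hH' : H' = ⊤ := by
        apply Subgroup.comap_injective hf
        rw [hH, Subgroup.comap_top]
      have hpG : p ∣ Nat.card G := by
        refine dvd_trans ?_ (Subgroup.card_dvd_of_surjective f hf)
        rw [hH'] at hdvd
        rwa [Nat.card_congr (Subgroup.topEquiv (G := G')).toEquiv] at hdvd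
      obtain ⟨L, hL⟩ := hG.top p hp hpG
      have hLp : L.index.Prime := hL ▸ hp
      by_cases hk : f.ker ≤ L
      · refine ⟨(L.map f).subgroupOf H', ?_⟩
        show (L.map f).relIndex H' = p
        rw [hH', Subgroup.relIndex_top_right, Subgroup.index_map_eq L hf hk, hL]
      · have htop : L ⊔ f.ker = ⊤ := index_prime_sup_eq_top hLp hk
        have hsurj : Function.Surjective (f.comp L.subtype) := by
          intro y
          obtain ⟨x, rfl⟩ := hf y
          have hx : x ∈ ((L ⊔ f.ker : Subgroup G) : Set G) := by rw [htop]; trivial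
          rw [Subgroup.mul_normal] at hx
          obtain ⟨l, hl, k, hk', rfl⟩ := Set.mem_mul.mp hx
          refine ⟨⟨l, hl⟩, ?_⟩
          have : f k = 1 := hk'
          simp [this]
        have hlt : Nat.card L < n := hcard ▸ card_lt_of_index_prime hLp
        exact ih _ hlt L G' (f.comp L.subtype) hsurj rfl (hG.subgroup L) H' p hp hdvd
    · have hlt : Nat.card (H'.comap f) < n := hcard ▸ card_lt_of_ne_top hH
      have h1 : HeredPrimeIdx H' :=
        ih _ hlt (H'.comap f) H' (f.subgroupComap H')
          (f.subgroupComap_surjective_of_surjective H' hf) rfl (hG.subgroup _)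
      exact h1.top p hp hdvd

theorem HeredPrimeIdx.of_surjective {G : Type u} [Group G] [Finite G] {G' : Type v} [Group G']
    (f : G →* G') (hf : Function.Surjective f) (hG : HeredPrimeIdx G) : HeredPrimeIdx G' :=
  HeredPrimeIdx.of_surjective_aux (Nat.card G) G G' f hf rfl hG

theorem sylow_normal_of_heredPrimeIdx_aux : ∀ (n : ℕ) (G : Type u) [Group G] [Finite G],
    Nat.card G = n → HeredPrimeIdx G →
    ∀ (p : ℕ) [Fact p.Prime], p ∣ Nat.card G → (∀ q : ℕ, q.Prime → q ∣ Nat.card G → q ≤ p) →
    ∀ P : Sylow p G, (P : Subgroup G).Normal := by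
  intro n
  induction n using Nat.strong_induction_on with
  | _ n ih =>
    intro G _ _ hcard h p hp hdvd hmax P
    have hpp : p.Prime := hp.out
    have hG1 : Nat.card G ≠ 1 := by
      intro h1; rw [h1] at hdvd; exact hpp.one_lt.ne' (Nat.dvd_one.mp hdvd)
    set q := (Nat.card G).minFac with hq
    have hqp : q.Prime := Nat.minFac_prime hG1
    have hqd : q ∣ Nat.card G := Nat.minFac_dvd _
    by_cases hqeq : q = p
    · -- G is a p-group
      have hpg : IsPGroup p G := by
        have : ∀ r : ℕ, r.Prime → r ∣ Nat.card G → r = p := by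
          intro r hr hrd
          have h1 : q ≤ r := Nat.minFac_le_of_dvd hr.two_le hrd
          have h2 : r ≤ p := hmax r hr hrd
          omega
        have hpow := Nat.eq_prime_pow_of_unique_prime_dvd (Nat.card_pos (α := G)).ne'
          (fun {r} hr hrd => this r hr hrd)
        exact IsPGroup.of_card hpow
      have : (P : Subgroup G) = ⊤ := by
        have h1 := P.is_maximal' (Q := ⊤) (IsPGroup.of_surjective hpg (Subgroup.topEquiv (G := G)).symm.toMonoidHom (Subgroup.topEquiv (G := G)).symm.surjective) le_top
        exact h1.symm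
      rw [this]; infer_instance
    · have hqlt : q < p := lt_of_le_of_ne (hmax q hqp hqd) hqeq
      obtain ⟨M, hMidx⟩ := h.top q hqp hqd
      set m := Nat.card M with hM
      have hm : Nat.card G = q * m := by
        have := Subgroup.card_mul_index M
        rw [hMidx] at this
        rw [← this, mul_comm]
      have hMn : M.Normal := Subgroup.normal_of_index_eq_minFac_card hMidx
      have hm0 : 0 < m := Nat.card_pos
      have hMlt : Nat.card M < n := by
        rw [← hcard, ← hM, hm]
        have := hqp.two_le
        nlinarith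
      have hpM : p ∣ Nat.card M := by
        rw [← hM]
        have : p ∣ q * m := hm ▸ hdvd
        have hcop : Nat.Coprime p q := (Nat.coprime_primes hpp hqp).mpr (Ne.symm hqeq)
        exact hcop.dvd_of_dvd_mul_left this
      have hmaxM : ∀ r : ℕ, r.Prime → r ∣ Nat.card M → r ≤ p := by
        intro r hr hrd
        exact hmax r hr (hrd.trans (Subgroup.card_subgroup_dvd_card M))
      obtain Q : Sylow p M := default
      have hQn : (Q : Subgroup M).Normal := ih _ hMlt M rfl (h.subgroup M) p hpM hmaxM Q
      have hQc : (Q : Subgroup M).Characteristic := Q.characteristic_of_normal hQn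
      have hRn : ((Q : Subgroup M).map M.subtype).Normal := inferInstance
      have hfac : (Nat.card G).factorization p = (Nat.card M).factorization p := by
        rw [← hM, hm, Nat.factorization_mul hqp.ne_zero hm0.ne']
        simp [Nat.factorization_eq_zero_of_not_dvd
            (fun hd => hqeq ((Nat.prime_dvd_prime_iff_eq hpp hqp).mp hd).symm)]
      have hRcard : Nat.card ((Q : Subgroup M).map M.subtype) = p ^ (Nat.card G).factorization p := by
        rw [Subgroup.card_map_of_injective M.subtype_injective, Q.card_eq_multiplicity, hfac]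
      let R : Sylow p G := Sylow.ofCard _ hRcard
      have hRn' : (R : Subgroup G).Normal := by
        rw [Sylow.coe_ofCard]; exact hRn
      have := Sylow.unique_of_normal R hRn'
      have hPR : P = R := Subsingleton.elim _ _
      rw [hPR]; exact hRn'

theorem sylow_normal_of_heredPrimeIdx {G : Type u} [Group G] [Finite G]
    (h : HeredPrimeIdx G) (p : ℕ) [Fact p.Prime]
    (hdvd : p ∣ Nat.card G) (hmax : ∀ q : ℕ, q.Prime → q ∣ Nat.card G → q ≤ p) (P : Sylow p G) :
    (P : Subgroup G).Normal :=
  sylow_normal_of_heredPrimeIdx_aux (Nat.card G) G rfl h p hdvd hmax P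

open Subgroup in
/-- A chief-type series with cyclic steps can be intersected with a normal subgroup. -/
theorem Reach.inf_normal {G : Type*} [Group G] (N : Subgroup G) [hNn : N.Normal] {A : Subgroup G}
    (h : Reach A) : Reach (A ⊓ N) := by
  induction h with
  | bot => rw [bot_inf_eq]; exact Reach.bot
  | step A g hA hN ih =>
    haveI : A.Normal := hA.normal
    obtain ⟨k, hk⟩ := comap_sup_zpowers N.subtype A g
    have h1 : (A ⊔ zpowers g) ⊓ N = (A ⊓ N) ⊔ zpowers (k : G) := by
      have h2 := congrArg (Subgroup.map N.subtype) hk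
      rw [Subgroup.map_comap_eq, Subgroup.map_sup, Subgroup.map_comap_eq, MonoidHom.map_zpowers,
        Subgroup.range_subtype] at h2
      rw [inf_comm, h2, inf_comm]
      rfl
    have h3 : ((A ⊔ zpowers g) ⊓ N).Normal := by
      haveI := hN
      infer_instance
    rw [h1] at h3 ⊢
    exact Reach.step _ _ ih h3

open Subgroup in
/-- In a finite supersolvable group every nontrivial normal subgroup contains a normal subgroup
of prime order. -/
theorem exists_normal_prime_card_le {L : Type*} [Group L] [Finite L]
    (hL : Cfsg.IsSupersolvable L) (N : Subgroup L) [N.Normal] (hN : N ≠ ⊥) :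
    ∃ C : Subgroup L, C.Normal ∧ C ≤ N ∧ (Nat.card C).Prime := by
  rw [isSupersolvable_iff_reach] at hL
  have hR : Reach N := by
    have := Reach.inf_normal N hL
    rwa [top_inf_eq] at this
  obtain ⟨g, hg1, hgN, hgle⟩ := hR.exists_normal_zpowers hN
  have hn0 : orderOf g ≠ 0 := (orderOf_pos g).ne'
  have hn1 : orderOf g ≠ 1 := by
    intro h; exact hg1 (orderOf_eq_one_iff.mp h)
  set p := (orderOf g).minFac with hp
  have hpp : p.Prime := Nat.minFac_prime hn1
  have hpd : p ∣ orderOf g := Nat.minFac_dvd _
  refine ⟨zpowers (g ^ (orderOf g / p)), normal_zpowers_pow g hgN _, ?_, ?_⟩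
  · refine le_trans ?_ hgle
    rw [zpowers_le]
    exact Subgroup.pow_mem _ (mem_zpowers g) _
  · rw [Nat.card_zpowers, orderOf_pow_orderOf_div hn0 hpd]
    exact hpp

/-- A finite group in which every subgroup has subgroups of every prime index dividing its order
is supersolvable. -/
theorem isSupersolvable_of_heredPrimeIdx_aux : ∀ (n : ℕ) (G : Type u) [Group G] [Finite G],
    Nat.card G = n → HeredPrimeIdx G → Cfsg.IsSupersolvable G := by
  intro n
  induction n using Nat.strong_induction_on with
  | _ n ih =>
    intro G _ _ hcard hG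
    by_cases hsub : Subsingleton G
    · exact isSupersolvable_of_subsingleton
    rw [not_subsingleton_iff_nontrivial] at hsub
    have hc1 : 1 < Nat.card G := Finite.one_lt_card
    obtain ⟨p, hpmem, hpmax⟩ := Finset.exists_max_image (Nat.card G).primeFactors id
      (Nat.nonempty_primeFactors.mpr hc1)
    have hpp : p.Prime := Nat.prime_of_mem_primeFactors hpmem
    have hpd : p ∣ Nat.card G := Nat.dvd_of_mem_primeFactors hpmem
    have hmax : ∀ q : ℕ, q.Prime → q ∣ Nat.card G → q ≤ p := fun q hq hqd =>
      hpmax q (Nat.mem_primeFactors.mpr ⟨hq, hqd, Nat.card_pos.ne'⟩)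
    haveI : Fact p.Prime := ⟨hpp⟩
    let P : Sylow p G := default
    have hPn : (P : Subgroup G).Normal := sylow_normal_of_heredPrimeIdx hG p hpd hmax P
    haveI := hPn
    have hPcard : 1 < Nat.card (P : Subgroup G) := by
      rw [P.card_eq_multiplicity]
      exact Nat.one_lt_pow (hpp.factorization_pos_of_dvd Nat.card_pos.ne' hpd).ne' hpp.one_lt
    haveI : Nontrivial (P : Subgroup G) := Finite.one_lt_card_iff_nontrivial.mp hPcard
    haveI : Nontrivial (Subgroup.center (P : Subgroup G)) := P.isPGroup'.center_nontrivial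
    set Z : Subgroup G := (Subgroup.center (P : Subgroup G)).map (P : Subgroup G).subtype with hZ
    have hZn : Z.Normal := inferInstance
    have hZne : Z ≠ ⊥ := by
      rw [hZ, Ne, Subgroup.map_eq_bot_iff_of_injective _ (Subgroup.subtype_injective _)]
      exact (Subgroup.nontrivial_iff_ne_bot _).mp inferInstance
    obtain ⟨N, ⟨hNn, hNne, hNmin⟩, hNZ⟩ := Cfsg.Agent.Helper62.exists_isMinNormal_le Z hZn hZne
    haveI := hNn
    have hZP : Z ≤ (P : Subgroup G) := Subgroup.map_subtype_le _
    have hNP : N ≤ (P : Subgroup G) := hNZ.trans hZP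
    have hNcent : ∀ x ∈ N, ∀ y ∈ (P : Subgroup G), y * x = x * y := by
      intro x hx y hy
      obtain ⟨z, hz, rfl⟩ := Subgroup.mem_map.mp (hNZ hx)
      have := Subgroup.mem_center_iff.mp hz ⟨y, hy⟩
      exact congrArg Subtype.val this
    obtain ⟨L, hL⟩ := hG.top p hpp hpd
    have hLp : L.index.Prime := hL ▸ hpp
    have hPL : ¬ (P : Subgroup G) ≤ L := by
      intro hle
      have h1 : L.index ∣ (P : Subgroup G).index := Subgroup.index_dvd_of_le hle
      rw [hL] at h1
      exact P.not_dvd_index h1
    have hLP : L ⊔ (P : Subgroup G) = ⊤ := index_prime_sup_eq_top hLp hPL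
    have hLlt : Nat.card L < n := hcard ▸ card_lt_of_index_prime hLp
    have hNcard : Nat.card N = p := by
      by_cases hNL : N ≤ L
      · have hLss : Cfsg.IsSupersolvable L := ih _ hLlt L rfl (hG.subgroup L)
        have hN'ne : N.subgroupOf L ≠ ⊥ := by
          rw [Ne, Subgroup.subgroupOf_eq_bot]
          intro hd
          exact hNne (disjoint_self.mp (hd.mono_right hNL) |> fun h => h)
        obtain ⟨C, hCn, hCle, hCp⟩ := exists_normal_prime_card_le hLss (N.subgroupOf L) hN'ne
        set N₁ : Subgroup G := C.map L.subtype with hN₁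
        have hN₁card : Nat.card N₁ = Nat.card C :=
          Subgroup.card_map_of_injective L.subtype_injective
        have hN₁N : N₁ ≤ N := by
          intro x hx
          obtain ⟨c, hc, rfl⟩ := Subgroup.mem_map.mp hx
          exact Subgroup.mem_subgroupOf.mp (hCle hc)
        have hN₁n : N₁.Normal := by
          constructor
          intro x hx g
          have hg : g ∈ ((L ⊔ (P : Subgroup G) : Subgroup G) : Set G) := by rw [hLP]; trivial
          rw [Subgroup.mul_normal] at hg
          obtain ⟨l, hl, y, hy, rfl⟩ := Set.mem_mul.mp hg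
          have hxN : x ∈ N := hN₁N hx
          have h1 : l * y * x * (l * y)⁻¹ = l * x * l⁻¹ := by
            rw [mul_inv_rev, mul_assoc l y x, hNcent x hxN y hy]; group
          rw [h1]
          obtain ⟨c, hc, rfl⟩ := Subgroup.mem_map.mp hx
          refine Subgroup.mem_map.mpr ⟨⟨l, hl⟩ * c * ⟨l, hl⟩⁻¹, hCn.conj_mem c hc ⟨l, hl⟩, ?_⟩
          simp
        rcases hNmin N₁ hN₁n hN₁N with h0 | h0
        · exfalso
          rw [h0, Subgroup.card_bot] at hN₁card
          rw [← hN₁card] at hCp
          exact Nat.not_prime_one hCp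
        · rw [← h0, hN₁card]
          have hdvd : Nat.card C ∣ Nat.card (P : Subgroup G) := by
            rw [← hN₁card, h0]; exact Subgroup.card_dvd_of_le hNP
          rw [P.card_eq_multiplicity] at hdvd
          exact (Nat.prime_dvd_prime_iff_eq hCp hpp).mp (hCp.dvd_of_dvd_pow hdvd)
      · have hLN : L ⊔ N = ⊤ := index_prime_sup_eq_top hLp hNL
        have hDn : (L ⊓ N).Normal := by
          constructor
          intro x hx g
          have hg : g ∈ ((L ⊔ N : Subgroup G) : Set G) := by rw [hLN]; trivial
          rw [Subgroup.mul_normal] at hg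
          obtain ⟨l, hl, y, hy, rfl⟩ := Set.mem_mul.mp hg
          have h1 : l * y * x * (l * y)⁻¹ = l * x * l⁻¹ := by
            rw [mul_inv_rev, mul_assoc l y x, hNcent x hx.2 y (hNP hy)]; group
          rw [h1]
          exact ⟨L.mul_mem (L.mul_mem hl hx.1) (L.inv_mem hl), hNn.conj_mem x hx.2 l⟩
        rcases hNmin (L ⊓ N) hDn inf_le_right with h0 | h0
        · have hdis : Disjoint N L := by rw [disjoint_iff, inf_comm]; exact h0
          have hmul : ((N : Set G) * (L : Set G)) = Set.univ := by
            rw [← Subgroup.normal_mul, sup_comm, hLN]; rfl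
          have hcomp : N.IsComplement' L :=
            Subgroup.isComplement'_of_disjoint_and_mul_eq_univ hdis hmul
          rw [← hcomp.index_eq_card, hL]
        · exfalso
          exact hNL (h0 ▸ inf_le_left)
    haveI : IsCyclic N := isCyclic_of_prime_card hNcard
    have hQ : HeredPrimeIdx (G ⧸ N) :=
      hG.of_surjective (QuotientGroup.mk' N) (QuotientGroup.mk'_surjective N)
    have hlt : Nat.card (G ⧸ N) < n := by
      rw [← hcard]
      exact card_quotient_lt N (by rw [hNcard]; exact hpp.one_lt)
    have hQss : Cfsg.IsSupersolvable (G ⧸ N) := ih _ hlt (G ⧸ N) rfl hQ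
    exact isSupersolvable_of_cyclic_normal_of_quotient N hQss

theorem isSupersolvable_of_heredPrimeIdx {G : Type u} [Group G] [Finite G]
    (h : HeredPrimeIdx G) : Cfsg.IsSupersolvable G :=
  isSupersolvable_of_heredPrimeIdx_aux (Nat.card G) G rfl h

end Cfsg.Agent.Helper9
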