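import Mathlib
import Cfsg.Agent.Lib.Helper9.SupersolvablePrime

set_option autoImplicit false

namespace Cfsg.Agent.Helper9

open Subgroup

theorem card_comap_mk' {G : Type*} [Group G] [Finite G] (C : Subgroup G) [C.Normal]
    (X : Subgroup (G ⧸ C)) :
    Nat.card (X.comap (QuotientGroup.mk' C)) = Nat.card X * Nat.card C := by
  have h1 : (X.comap (QuotientGroup.mk' C)).index = X.index :=
    Subgroup.index_comap_of_surjective X (QuotientGroup.mk'_surjective C)
  have h2 := Subgroup.card_mul_index (X.comap (QuotientGroup.mk' C))
  have h3 := Subgroup.card_mul_index X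
  have h4 := Subgroup.card_eq_card_quotient_mul_card_subgroup C
  have hpos : 0 < X.index := Nat.pos_of_ne_zero (Subgroup.index_ne_zero_of_finite)
  rw [h1] at h2
  have : Nat.card (X.comap (QuotientGroup.mk' C)) * X.index
      = (Nat.card X * Nat.card C) * X.index := by
    rw [h2, h4, ← h3]; ring
  exact Nat.eq_of_mul_eq_mul_right hpos this

theorem hasSubgroupOfEveryOrder_of_isSupersolvable {G : Type*} [Group G] [Finite G]
    (hG : Cfsg.IsSupersolvable G) : Cfsg.HasSubgroupOfEveryOrder G := by
  induction' h : Nat.card G using Nat.strong_induction_on with n ih generalizing G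
  intro d hd
  by_cases hnt : Nontrivial G
  · obtain ⟨C, hCn, hCp⟩ := exists_normal_prime_card hG
    set p := Nat.card C with hp
    have hcard := Subgroup.card_eq_card_quotient_mul_card_subgroup C
    have hlt : Nat.card (G ⧸ C) < n := by
      rw [← h]; exact card_quotient_lt C hCp.one_lt
    have hQ := isSupersolvable_quotient hG C
    by_cases hpd : p ∣ d
    · obtain ⟨d', rfl⟩ := hpd
      have hd' : d' ∣ Nat.card (G ⧸ C) := by
        rw [hcard, mul_comm p d'] at hd
        exact Nat.dvd_of_mul_dvd_mul_right hCp.pos hd
      obtain ⟨X, hX⟩ := ih _ hlt hQ rfl d' hd'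
      refine ⟨X.comap (QuotientGroup.mk' C), ?_⟩
      rw [card_comap_mk', hX, mul_comm]
    · have hcop : Nat.Coprime d p := (Nat.Coprime.symm ((Nat.Prime.coprime_iff_not_dvd hCp).mpr hpd))
      have hd' : d ∣ Nat.card (G ⧸ C) := by
        rw [hcard] at hd
        exact hcop.dvd_of_dvd_mul_right hd
      obtain ⟨X, hX⟩ := ih _ hlt hQ rfl d hd'
      set K := X.comap (QuotientGroup.mk' C) with hK
      have hKcard : Nat.card K = d * p := by rw [hK, card_comap_mk', hX]
      by_cases hKtop : K = ⊤
      · -- Schur-Zassenhaus
        have hGcard : Nat.card G = d * p := by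
          rw [← hKcard, hKtop, Subgroup.card_top]
        have hidx : C.index = d := by
          have := Subgroup.card_mul_index C
          rw [hGcard, mul_comm] at this
          exact Nat.eq_of_mul_eq_mul_right hCp.pos this
        have hcop' : Nat.Coprime (Nat.card C) C.index := by rw [hidx]; exact hcop.symm
        obtain ⟨H, hH⟩ := Subgroup.exists_right_complement'_of_coprime hcop'
        refine ⟨H, ?_⟩
        have := hH.card_mul_card
        rw [hGcard, mul_comm] at this
        exact Nat.eq_of_mul_eq_mul_right hCp.pos this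
      · have hKlt : Nat.card K < n := by
          rw [← h]
          by_contra hle
          exact hKtop (Subgroup.eq_top_of_le_card K (not_lt.mp hle))
        have hdK : d ∣ Nat.card K := by rw [hKcard]; exact dvd_mul_right d p
        obtain ⟨Y, hY⟩ := ih _ hKlt (isSupersolvable_subgroup hG K) rfl d hdK
        refine ⟨Y.map K.subtype, ?_⟩
        rw [Subgroup.card_map_of_injective K.subtype_injective, hY]
  · rw [not_nontrivial_iff_subsingleton] at hnt
    have h1 : Nat.card G = 1 := Nat.card_eq_one_iff_unique.mpr ⟨hnt, ⟨1⟩⟩
    rw [h1, Nat.dvd_one] at hd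
    subst hd
    exact ⟨⊥, Subgroup.card_bot⟩

end Cfsg.Agent.Helper9
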