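import Mathlib
import Cfsg.Agent.Lib.Helper62.SLN0

/-!
# SLNC piece SIG (S2332, helper93's sub-server of helper62's SLN server): the mirror automorphism
`σ g = P (g⁻¹)ᵀ P` of `SL (Unit ⊕ κ) F`, `P` the permutation matrix of `swap (inl ()) (inr jn)`.
-/

set_option autoImplicit false
set_option linter.unusedSectionVars false
set_option linter.unusedSimpArgs false

namespace Cfsg.Agent.Helper9.SLNC

open Matrix Module Cfsg.Agent.Helper93.U2 Cfsg.Agent.Helper62.SLN

section GRP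

variable {F : Type*} [Field F] {κ : Type} [Fintype κ] [DecidableEq κ]

/-- the matrix map `A ↦ P Aᵀ P` -/
def h9tau (π : Equiv.Perm (Unit ⊕ κ)) (A : Matrix (Unit ⊕ κ) (Unit ⊕ κ) F) :
    Matrix (Unit ⊕ κ) (Unit ⊕ κ) F := (Aᵀ).submatrix π π

theorem h9tau_det (π : Equiv.Perm (Unit ⊕ κ)) (A : Matrix (Unit ⊕ κ) (Unit ⊕ κ) F) :
    (h9tau π A).det = A.det := by
  unfold h9tau
  rw [Matrix.det_submatrix_equiv_self, Matrix.det_transpose]

theorem h9tau_mul (π : Equiv.Perm (Unit ⊕ κ)) (A B : Matrix (Unit ⊕ κ) (Unit ⊕ κ) F) :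
    h9tau π (A * B) = h9tau π B * h9tau π A := by
  unfold h9tau
  rw [Matrix.transpose_mul, Matrix.submatrix_mul_equiv]

theorem h9tau_tau (π : Equiv.Perm (Unit ⊕ κ)) (hπ : ∀ x, π (π x) = x)
    (A : Matrix (Unit ⊕ κ) (Unit ⊕ κ) F) : h9tau π (h9tau π A) = A := by
  ext x y
  simp [h9tau, hπ]

theorem h9tau_single (π : Equiv.Perm (Unit ⊕ κ)) (hπ : ∀ x, π (π x) = x)
    (a b : Unit ⊕ κ) (s : F) :
    h9tau π (1 + Matrix.single a b s) = 1 + Matrix.single (π b) (π a) s := by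
  ext x y
  have h1 : (π y = π x) ↔ (x = y) := by
    constructor
    · intro h; exact (π.injective h).symm
    · intro h; rw [h]
  have h2 : (a = π y ∧ b = π x) ↔ (π b = x ∧ π a = y) := by
    constructor
    · rintro ⟨h, h'⟩; rw [h, h', hπ, hπ]; exact ⟨rfl, rfl⟩
    · rintro ⟨h, h'⟩; rw [← h, ← h', hπ, hπ]; exact ⟨rfl, rfl⟩
  simp only [h9tau, Matrix.submatrix_apply, Matrix.transpose_apply, Matrix.add_apply,
    Matrix.one_apply, Matrix.single_apply, h1, h2]

/-- the mirror homomorphism -/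
noncomputable def h9sigmaHom (π : Equiv.Perm (Unit ⊕ κ)) :
    SpecialLinearGroup (Unit ⊕ κ) F →* SpecialLinearGroup (Unit ⊕ κ) F :=
  MonoidHom.mk' (fun g => ⟨h9tau π (g⁻¹).1, by rw [h9tau_det]; exact (g⁻¹).2⟩) (by
    intro g h
    apply Subtype.ext
    show h9tau π ((g * h)⁻¹).1 = h9tau π (g⁻¹).1 * h9tau π (h⁻¹).1
    rw [← h9tau_mul, _root_.mul_inv_rev]
    rfl)

theorem h9sigmaHom_val (π : Equiv.Perm (Unit ⊕ κ)) (g : SpecialLinearGroup (Unit ⊕ κ) F) :
    (h9sigmaHom π g).1 = h9tau π (g⁻¹).1 := rfl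

theorem h9sigmaHom_invol (π : Equiv.Perm (Unit ⊕ κ)) (hπ : ∀ x, π (π x) = x)
    (g : SpecialLinearGroup (Unit ⊕ κ) F) : h9sigmaHom π (h9sigmaHom π g) = g := by
  apply Subtype.ext
  rw [h9sigmaHom_val, ← map_inv, h9sigmaHom_val, inv_inv, h9tau_tau π hπ]

/-- inverse of an elementary element -/
theorem h9_inv_single (g : SpecialLinearGroup (Unit ⊕ κ) F) (a b : Unit ⊕ κ) (hab : a ≠ b) (s : F)
    (hg : g.1 = 1 + Matrix.single a b s) : (g⁻¹).1 = 1 + Matrix.single a b (-s) := by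
  have h1 : (g⁻¹).1 * g.1 = 1 := by
    have : (g⁻¹ * g).1 = 1 := by rw [inv_mul_cancel]; rfl
    exact this
  have h2 : g.1 * (1 + Matrix.single a b (-s)) = 1 := by
    rw [hg, mul_add, add_mul, add_mul, one_mul, mul_one, one_mul,
      Matrix.single_mul_single_of_ne _ _ _ _ (Ne.symm hab)]
    rw [add_zero, add_assoc, ← Matrix.single_add, add_neg_cancel]
    simp
  exact left_inv_eq_right_inv h1 h2

theorem h9sigmaHom_single (π : Equiv.Perm (Unit ⊕ κ)) (hπ : ∀ x, π (π x) = x)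
    (g : SpecialLinearGroup (Unit ⊕ κ) F) (a b : Unit ⊕ κ) (hab : a ≠ b) (s : F)
    (hg : g.1 = 1 + Matrix.single a b s) :
    (h9sigmaHom π g).1 = 1 + Matrix.single (π b) (π a) (-s) := by
  rw [h9sigmaHom_val, h9_inv_single g a b hab s hg, h9tau_single π hπ]

theorem h9_qEl_single (i k : κ) (hik : i ≠ k) (s : F) :
    (qEl i (s • (Pi.single k 1 : κ → F))).1 = 1 + Matrix.single (Sum.inr i) (Sum.inr k) s := by
  show (lEl (tvEl i (s • (Pi.single k 1 : κ → F)))).1 = _
  rw [lEl_val, tvEl_val]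
  ext a b
  rcases a with a | a <;> rcases b with b | b
  · simp [Matrix.one_apply, Matrix.single_apply]
  · simp [Matrix.one_apply, Matrix.single_apply]
  · simp [Matrix.one_apply, Matrix.single_apply]
  · simp only [Matrix.fromBlocks_apply₂₂, Matrix.add_apply, Matrix.one_apply, Matrix.single_apply,
      Matrix.vecMulVec_apply, Pi.single_apply, Function.update_apply, Pi.smul_apply, smul_eq_mul,
      Sum.inr.injEq]
    by_cases h1 : a = i
    · by_cases h2 : b = k
      · subst h1; subst h2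
        simp [hik.symm]
      · subst h1
        simp [h2, Ne.symm h2]
    · simp [h1, Ne.symm h1]

theorem h9_uEl_single (k : κ) (s : F) :
    (uEl (s • (Pi.single k 1 : κ → F))).1 = 1 + Matrix.single (Sum.inl ()) (Sum.inr k) s := by
  rw [uEl_val]
  ext a b
  rcases a with a | a <;> rcases b with b | b
  · simp [Matrix.one_apply, Matrix.single_apply]
  · simp only [Matrix.fromBlocks_apply₁₂, Matrix.add_apply, Matrix.one_apply, Matrix.single_apply,
      Matrix.replicateRow_apply, Pi.single_apply, Pi.smul_apply, smul_eq_mul, Sum.inr.injEq]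
    by_cases h2 : b = k
    · subst h2; simp
    · simp [h2, Ne.symm h2]
  · simp [Matrix.one_apply, Matrix.single_apply]
  · simp [Matrix.one_apply, Matrix.single_apply]

/-- piece SIG -/
theorem exists_sigma (jn : κ) :
    ∃ σ : SpecialLinearGroup (Unit ⊕ κ) F ≃* SpecialLinearGroup (Unit ⊕ κ) F,
      (∀ g, σ (σ g) = g) ∧
      (∀ i : κ, i ≠ jn → ∀ s : F,
        σ (qEl i (s • (Pi.single jn 1 : κ → F))) = uEl ((-s) • (Pi.single i 1 : κ → F))) ∧
      (∀ s : F, σ (uEl (s • (Pi.single jn 1 : κ → F))) = uEl ((-s) • (Pi.single jn 1 : κ → F))) ∧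
      (∀ i j : κ, i ≠ j → i ≠ jn → j ≠ jn → ∀ s : F,
        σ (qEl j (s • (Pi.single i 1 : κ → F))) = qEl i ((-s) • (Pi.single j 1 : κ → F))) := by
  set π : Equiv.Perm (Unit ⊕ κ) := Equiv.swap (Sum.inl ()) (Sum.inr jn) with hπdef
  have hπ : ∀ x, π (π x) = x := fun x => Equiv.swap_apply_self _ _ x
  have hπl : π (Sum.inl ()) = Sum.inr jn := Equiv.swap_apply_left _ _
  have hπr : π (Sum.inr jn) = Sum.inl () := Equiv.swap_apply_right _ _
  have hπo : ∀ i : κ, i ≠ jn → π (Sum.inr i) = Sum.inr i := by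
    intro i hi
    apply Equiv.swap_apply_of_ne_of_ne
    · simp
    · simpa using hi
  refine ⟨MonoidHom.toMulEquiv (h9sigmaHom π) (h9sigmaHom π) ?_ ?_, ?_, ?_, ?_, ?_⟩
  · ext g : 1
    exact h9sigmaHom_invol π hπ g
  · ext g : 1
    exact h9sigmaHom_invol π hπ g
  · intro g
    exact h9sigmaHom_invol π hπ g
  · intro i hi s
    apply Subtype.ext
    show (h9sigmaHom π _).1 = _
    rw [h9sigmaHom_single π hπ _ _ _ (by simpa using hi) s (h9_qEl_single i jn hi s), hπr, hπo i hi,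
      h9_uEl_single]
  · intro s
    apply Subtype.ext
    show (h9sigmaHom π _).1 = _
    rw [h9sigmaHom_single π hπ _ _ _ (by simp) s (h9_uEl_single jn s), hπr, hπl,
      h9_uEl_single]
  · intro i j hij hi hj s
    apply Subtype.ext
    show (h9sigmaHom π _).1 = _
    rw [h9sigmaHom_single π hπ _ _ _ (by simpa using hij.symm) s (h9_qEl_single j i hij.symm s),
      hπo i hi, hπo j hj, h9_qEl_single i j hij]

end GRP

end Cfsg.Agent.Helper9.SLNC
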