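import Mathlib
import Cfsg.Agent.Lib.Helper62.SUO0

/-!
# SUO server (S2282, helper62), block X (the field): (X1) `gen2_of_eta` (own copy) and
(X2) `exists_params_odd`.
-/

set_option autoImplicit false
set_option linter.unusedSectionVars false
set_option linter.unusedVariables false
set_option quotPrecheck false

namespace Cfsg.Agent.Helper9.SUO

open Matrix Cfsg Cfsg.Agent.Helper13 Cfsg.Agent.Helper87.PsuA Cfsg.Agent.Helper62.SUO

section X
variable {F : Type*} [Field F] [Fintype F] {q : ℕ} (hF : Fintype.card F = q ^ 2)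

include hF

/-- (X1) -/
theorem gen2_of_eta (ρ c : F) (hρ : ∀ x : F, x ≠ 0 → x ^ q = x → ∃ i : ℕ, x = ρ ^ i)
    (hT : c + c ^ q ≠ 0) (hκ : c - c ^ q ≠ 0) : Gen2 c (c - c ^ q) ρ := by
  intro S hc hk hmul
  have hpow : ∀ i : ℕ, ∀ a ∈ S, ρ ^ i * a ∈ S := by
    intro i
    induction i with
    | zero => intro a ha; simpa using ha
    | succ i ih =>
      intro a ha
      rw [pow_succ', mul_assoc]
      exact hmul _ (ih a ha)
  have hfix : ∀ f : F, f ^ q = f → ∀ a ∈ S, f * a ∈ S := by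
    intro f hf a ha
    by_cases h0 : f = 0
    · rw [h0, zero_mul]; exact S.zero_mem
    · obtain ⟨i, hi⟩ := hρ f h0 hf
      rw [hi]; exact hpow i a ha
  rw [eq_top_iff]
  intro y _
  have hTq : (c + c ^ q) ^ q = c + c ^ q := by
    rw [frob_add hF, frob_frob hF]; ring
  have hκq : (c - c ^ q) ^ q = -(c - c ^ q) := by
    rw [frob_sub hF, frob_frob hF]; ring
  set T := c + c ^ q with hTdef
  set κ := c - c ^ q with hκdef
  set β := (y + y ^ q) / T with hβdef
  have hβq : β ^ q = β := by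
    rw [hβdef, div_pow, hTq, frob_add hF, frob_frob hF, add_comm]
  set α := (y - β * c) / κ with hαdef
  have hβT : β * T = y + y ^ q := by
    rw [hβdef]; field_simp
  have hαq : α ^ q = α := by
    rw [hαdef, div_pow, hκq, frob_sub hF, mul_pow, hβq]
    rw [div_eq_div_iff (neg_ne_zero.2 hκ) hκ]
    have : β * (c + c ^ q) = y + y ^ q := hβT
    linear_combination (-κ) * this
  have hy : y = β * c + α * κ := by
    rw [hαdef]; field_simp; ring
  rw [hy]
  exact S.add_mem (hfix β hβq c hc) (hfix α hαq κ hk)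

/-- (X2) -/
theorem exists_params_odd (hq : Odd q) :
    ∃ t a c : F, t ≠ 0 ∧ a + a ^ q + t * t ^ q = 0 ∧ a ≠ 0 ∧ c - c ^ q ≠ 0 ∧
      Gen2 c (c - c ^ q) ((c - c ^ q) ^ 2 * (a * a ^ q)) := by
  classical
  obtain ⟨k, hk⟩ := hq
  -- `q ≥ 3`
  have hk1 : 1 ≤ k := by
    rcases Nat.eq_zero_or_pos k with h0 | h0
    · exfalso
      subst h0
      have h2 : 2 ≤ Fintype.card F := Fintype.one_lt_card
      rw [hF, hk] at h2
      norm_num at h2
    · exact h0
  -- `2 ≠ 0`
  have h2ne : (2 : F) ≠ 0 := by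
    intro h2
    have hdvd : ringChar F ∣ 2 := ringChar.dvd (R := F) (by exact_mod_cast h2)
    have hne1 : ringChar F ≠ 1 := CharP.ringChar_ne_one
    have h2' : ringChar F = 2 := by
      rcases (Nat.dvd_prime Nat.prime_two).1 hdvd with h | h
      · exact absurd h hne1
      · exact h
    have heven := FiniteField.even_card_of_char_two h2'
    rw [hF, hk] at heven
    have : (2 * k + 1) ^ 2 % 2 = 1 := by
      rw [Nat.pow_mod]; norm_num [Nat.add_mod]
    omega
  have h2q : (2 : F) ^ q = 2 := by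
    have := frob_add hF (1 : F) 1
    rw [one_pow] at this
    rw [← one_add_one_eq_two]; exact this
  -- a generator
  obtain ⟨ζ, hζ⟩ := IsCyclic.exists_generator (α := Fˣ)
  have hord : orderOf ζ = q ^ 2 - 1 := by
    rw [orderOf_eq_card_of_forall_mem_zpowers hζ, Nat.card_eq_fintype_card, Fintype.card_units, hF]
  set z : F := (ζ : F) with hzdef
  have hz0 : z ≠ 0 := ζ.ne_zero
  have hzpow : ∀ j : ℕ, z ^ j = 1 → (q ^ 2 - 1) ∣ j := by
    intro j hj
    rw [← hord]
    apply orderOf_dvd_of_pow_eq_one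
    apply Units.ext
    rw [Units.val_pow_eq_pow_val, Units.val_one]
    exact hj
  have hzN : z ^ (q ^ 2 - 1) = 1 := by
    have := pow_orderOf_eq_one ζ
    rw [hord] at this
    have h' := congrArg (fun u : Fˣ => (u : F)) this
    simpa using h'
  have hgen : ∀ x : F, x ≠ 0 → ∃ j : ℕ, x = z ^ j := by
    intro x hx
    have hmem : (Units.mk0 x hx) ∈ Subgroup.zpowers ζ := hζ _
    rw [← mem_powers_iff_mem_zpowers] at hmem
    obtain ⟨j, hj⟩ := hmem
    refine ⟨j, ?_⟩
    have h' := congrArg (fun u : Fˣ => (u : F)) hj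
    simp only [Units.val_pow_eq_pow_val, Units.val_mk0] at h'
    exact h'.symm
  -- arithmetic
  have hN : q ^ 2 - 1 = 4 * k * (k + 1) := by
    rw [hk]
    have : (2 * k + 1) ^ 2 = 4 * k * (k + 1) + 1 := by ring
    omega
  set m := k + 1 with hm
  set h := 2 * k * (k + 1) with hh
  have hzh : z ^ h = -1 := by
    have hsq : z ^ h * z ^ h = 1 := by
      rw [← pow_add, ← hzN, hN]; congr 1; rw [hh]; ring
    rcases mul_self_eq_one_iff.1 hsq with h1 | h1
    · exfalso
      have hd := hzpow h h1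
      rw [hN] at hd
      have hpos : 0 < h := by rw [hh]; positivity
      have hle := Nat.le_of_dvd hpos hd
      rw [hh] at hle
      nlinarith
    · exact h1
  have hzmq : z ^ (m * q) = -z ^ m := by
    have : m * q = m + h := by rw [hm, hh, hk]; ring
    rw [this, pow_add, hzh]; ring
  -- parameters
  have hcq : (z ^ m + 1) ^ q = -z ^ m + 1 := by
    rw [frob_add hF, one_pow, ← pow_mul, hzmq]
  have haq : (-(2 : F)⁻¹) ^ q = -(2 : F)⁻¹ := by
    rw [frob_neg hF, inv_pow, h2q]
  have hκ : (z ^ m + 1) - (z ^ m + 1) ^ q = 2 * z ^ m := by rw [hcq]; ring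
  have hκne : (z ^ m + 1) - (z ^ m + 1) ^ q ≠ 0 := by
    rw [hκ]; exact mul_ne_zero h2ne (pow_ne_zero _ hz0)
  have hTne : (z ^ m + 1) + (z ^ m + 1) ^ q ≠ 0 := by
    rw [hcq]; ring_nf; exact h2ne
  have hρeq : ((z ^ m + 1) - (z ^ m + 1) ^ q) ^ 2 * (-(2 : F)⁻¹ * (-(2 : F)⁻¹) ^ q) = z ^ (q + 1) := by
    rw [hκ, haq]
    have : q + 1 = m + m := by rw [hm, hk]; ring
    rw [this, pow_add]
    field_simp
    ring
  refine ⟨1, -(2 : F)⁻¹, z ^ m + 1, one_ne_zero, ?_, ?_, hκne, ?_⟩
  · rw [haq, one_pow]; field_simp; ring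
  · exact neg_ne_zero.2 (inv_ne_zero h2ne)
  · rw [hρeq]
    apply gen2_of_eta hF (z ^ (q + 1)) (z ^ m + 1) ?_ hTne hκne
    intro x hx hxq
    obtain ⟨j, rfl⟩ := hgen x hx
    -- `z ^ (j * (q - 1)) = 1`
    have hq1 : 1 ≤ q := by omega
    have h1 : z ^ (j * (q - 1)) = 1 := by
      have hzj : z ^ j ≠ 0 := pow_ne_zero _ hz0
      have : z ^ j * z ^ (j * (q - 1)) = z ^ j * 1 := by
        rw [mul_one, ← pow_add]
        have : j + j * (q - 1) = j * q := by
          have : q = (q - 1) + 1 := by omega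
          nth_rewrite 2 [this]; ring
        rw [this, pow_mul]; exact hxq
      exact mul_left_cancel₀ hzj this
    have hd := hzpow _ h1
    rw [hN] at hd
    have hq1' : q - 1 = 2 * k := by omega
    rw [hq1'] at hd
    -- `2 (k+1) ∣ j`
    have hd' : 2 * k * (2 * (k + 1)) ∣ 2 * k * j := by
      have e1 : 4 * k * (k + 1) = 2 * k * (2 * (k + 1)) := by ring
      have e2 : j * (2 * k) = 2 * k * j := by ring
      rw [e1, e2] at hd; exact hd
    have hd'' : 2 * (k + 1) ∣ j := Nat.dvd_of_mul_dvd_mul_left (by positivity) hd'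
    obtain ⟨i, hi⟩ := hd''
    refine ⟨i, ?_⟩
    rw [hi, ← pow_mul]
    congr 1
    rw [hk]; ring

end X

end Cfsg.Agent.Helper9.SUO
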