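import Mathlib
import Cfsg.Prelude.Def_FusionSystem
import Cfsg.Prelude.Def_KGroupFacts
import Cfsg.Agent.Lib.Helper87.Psl3Defs

/-! PSL3F piece (C4) for helper87's S5318 server: non-scalar square roots of `-1` in `GL₂(F)` are
conjugate to `M0`. -/

set_option autoImplicit false

namespace Cfsg.Agent.Helper9.Psl3

open Matrix Cfsg Cfsg.Agent.Helper87.Psl3

variable {F : Type*} [Field F]

local notation "SL3" => Matrix.SpecialLinearGroup (Fin 3) F
local notation "GL2" => GL (Fin 2) F

/-- conjugation criterion: `X B = B M0` gives `B⁻¹ X B = M0`. -/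
theorem h9_conj_of_comm (X B : GL2) (h : X * B = B * M0) : ∃ C : GL2, C * X * C⁻¹ = M0 := by
  refine ⟨B⁻¹, ?_⟩
  rw [inv_inv, mul_assoc, h, ← mul_assoc, inv_mul_cancel, one_mul]

theorem c4_conj (X : GL2) (hX : X * X = sc (-1)) (hns : ∀ c : Fˣ, X ≠ sc c) :
    ∃ C : GL2, C * X * C⁻¹ = M0 := by
  -- entries
  set a := (X : Matrix (Fin 2) (Fin 2) F) 0 0 with ha
  set b := (X : Matrix (Fin 2) (Fin 2) F) 0 1 with hb
  set c := (X : Matrix (Fin 2) (Fin 2) F) 1 0 with hc
  set d := (X : Matrix (Fin 2) (Fin 2) F) 1 1 with hd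
  have hXm : (X : Matrix (Fin 2) (Fin 2) F) = !![a, b; c, d] := by
    ext i j; fin_cases i <;> fin_cases j <;> rfl
  have hsq : (X : Matrix (Fin 2) (Fin 2) F) * (X : Matrix (Fin 2) (Fin 2) F)
      = !![-1, 0; 0, -1] := by
    have := congrArg (fun Y : GL2 => (Y : Matrix (Fin 2) (Fin 2) F)) hX
    simp only [Units.val_mul] at this
    rw [this, sc, Matrix.GeneralLinearGroup.coe_scalar]
    ext i j; fin_cases i <;> fin_cases j <;> simp [Matrix.scalar_apply]
  rw [hXm] at hsq
  have e00 := congrFun (congrFun hsq 0) 0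
  have e01 := congrFun (congrFun hsq 0) 1
  have e10 := congrFun (congrFun hsq 1) 0
  have e11 := congrFun (congrFun hsq 1) 1
  simp [Matrix.mul_apply, Fin.sum_univ_two] at e00 e01 e10 e11
  -- three cases
  by_cases hc0 : c = 0
  · by_cases hb0 : b = 0
    · -- diagonal, a ≠ d
      have had : a - d ≠ 0 := by
        intro h0
        have hadd : a = d := sub_eq_zero.mp h0
        have ha0 : a ≠ 0 := by
          intro h
          rw [h, hb0] at e00
          simp at e00
        apply hns (Units.mk0 a ha0)
        apply Units.ext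
        rw [hXm, sc, Matrix.GeneralLinearGroup.coe_scalar]
        ext i j; fin_cases i <;> fin_cases j <;> simp [Matrix.scalar_apply, hb0, hc0, hadd]
      have hdet : (!![a, 1; d, 1] : Matrix (Fin 2) (Fin 2) F).det ≠ 0 := by
        rw [Matrix.det_fin_two_of]; simpa using had
      apply h9_conj_of_comm X (Matrix.GeneralLinearGroup.mkOfDetNeZero _ hdet)
      apply Units.ext
      rw [Units.val_mul, Units.val_mul, hXm, M0_val]
      show !![a, b; c, d] * !![a, 1; d, 1] = !![a, 1; d, 1] * rot 0 1
      ext i j; fin_cases i <;> fin_cases j <;>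
        simp [rot, Matrix.mul_apply, Fin.sum_univ_two] <;>
        (try first
          | linear_combination e00 + (d - c) * hb0
          | linear_combination hb0
          | linear_combination e11 + (a - b) * hc0
          | linear_combination hc0)
    · -- b ≠ 0 : basis (X e2, e2)
      have hdet : (!![b, 0; d, 1] : Matrix (Fin 2) (Fin 2) F).det ≠ 0 := by
        rw [Matrix.det_fin_two_of]; simpa using hb0
      apply h9_conj_of_comm X (Matrix.GeneralLinearGroup.mkOfDetNeZero _ hdet)
      apply Units.ext
      rw [Units.val_mul, Units.val_mul, hXm, M0_val]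
      show !![a, b; c, d] * !![b, 0; d, 1] = !![b, 0; d, 1] * rot 0 1
      ext i j; fin_cases i <;> fin_cases j <;>
        simp [rot, Matrix.mul_apply, Fin.sum_univ_two] <;>
        (try first | linear_combination e01 | linear_combination e11)
  · -- c ≠ 0 : basis (X e1, e1)
    have hdet : (!![a, 1; c, 0] : Matrix (Fin 2) (Fin 2) F).det ≠ 0 := by
      rw [Matrix.det_fin_two_of]; simpa using hc0
    apply h9_conj_of_comm X (Matrix.GeneralLinearGroup.mkOfDetNeZero _ hdet)
    apply Units.ext
    rw [Units.val_mul, Units.val_mul, hXm, M0_val]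
    show !![a, b; c, d] * !![a, 1; c, 0] = !![a, 1; c, 0] * rot 0 1
    ext i j; fin_cases i <;> fin_cases j <;>
      simp [rot, Matrix.mul_apply, Fin.sum_univ_two] <;>
      (try first | linear_combination e00 | linear_combination e10)

end Cfsg.Agent.Helper9.Psl3
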