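import Mathlib
import Cfsg.Prelude.Def_FusionSystem
import Cfsg.Prelude.Def_KGroupFacts
import Cfsg.Agent.Lib.Helper87.Psl3Defs

/-! PSL3F piece (INV) for helper87's S5318 server: all involutions of `SL₃(F)`, char ≠ 2, are
conjugate to `zz = diag(-1,-1,1)`. -/

set_option autoImplicit false

namespace Cfsg.Agent.Helper9.Psl3

open Matrix Cfsg Cfsg.Agent.Helper87.Psl3

variable {F : Type*} [Field F]

local notation "SL3" => Matrix.SpecialLinearGroup (Fin 3) F
local notation "GL2" => GL (Fin 2) F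

/-- the matrix of `zz`. -/
theorem h9_zz_val : ((zz : SL3) : Matrix (Fin 3) (Fin 3) F) = Matrix.diagonal ![-1, -1, 1] := by
  have hdet : (Matrix.GeneralLinearGroup.det (sc (-1 : Fˣ) : GL2) : Fˣ) = 1 := by
    apply Units.ext
    show ((sc (-1 : Fˣ) : GL2) : Matrix (Fin 2) (Fin 2) F).det = 1
    rw [sc, Matrix.GeneralLinearGroup.coe_scalar, Matrix.det_fin_two]
    simp [Matrix.scalar_apply]
  rw [zz, iota_val, iotaMat, hdet]
  have hs : ((sc (-1 : Fˣ) : GL2) : Matrix (Fin 2) (Fin 2) F) = Matrix.scalar (Fin 2) (-1 : F) := by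
    rw [sc, Matrix.GeneralLinearGroup.coe_scalar]; simp
  rw [hs]
  ext i j
  fin_cases i <;> fin_cases j <;> simp [Matrix.scalar_apply]

/-- Linear-algebra core: an involutory `3 × 3` matrix of determinant one, different from `1`,
in characteristic `≠ 2`, is conjugate to `diag(-1,-1,1)` by a matrix of determinant one. -/
theorem h9_inv_core (h2 : (2 : F) ≠ 0) (A : Matrix (Fin 3) (Fin 3) F) (hA : A * A = 1)
    (hdet : A.det = 1) (hA1 : A ≠ 1) :
    ∃ P : Matrix (Fin 3) (Fin 3) F, P.det = 1 ∧ A * P = P * Matrix.diagonal ![-1, -1, 1] := by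
  classical
  set f : (Fin 3 → F) →ₗ[F] (Fin 3 → F) := Matrix.toLin' A with hf
  have hfv : ∀ v, f v = A *ᵥ v := fun v => Matrix.toLin'_apply A v
  have hff : ∀ v, f (f v) = v := by
    intro v
    rw [hfv, hfv, Matrix.mulVec_mulVec, hA, Matrix.one_mulVec]
  set E₁ : Submodule F (Fin 3 → F) := LinearMap.ker (f - LinearMap.id) with hE₁
  set E₂ : Submodule F (Fin 3 → F) := LinearMap.ker (f + LinearMap.id) with hE₂
  have mem1 : ∀ v, v ∈ E₁ ↔ f v = v := by
    intro v
    rw [hE₁, LinearMap.mem_ker, LinearMap.sub_apply, LinearMap.id_apply, sub_eq_zero]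
  have mem2 : ∀ v, v ∈ E₂ ↔ f v = -v := by
    intro v
    rw [hE₂, LinearMap.mem_ker, LinearMap.add_apply, LinearMap.id_apply, add_eq_zero_iff_eq_neg]
  have hdisj : Disjoint E₁ E₂ := by
    rw [Submodule.disjoint_def]
    intro x hx1 hx2
    have h1 := (mem1 x).1 hx1
    have h3 := (mem2 x).1 hx2
    have h4 : (2 : F) • x = 0 := by
      rw [two_smul]
      nth_rewrite 1 [← h1]
      rw [h3, neg_add_cancel]
    rcases smul_eq_zero.mp h4 with h | h
    · exact absurd h h2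
    · exact h
  have hcod : Codisjoint E₁ E₂ := by
    rw [Submodule.codisjoint_iff_exists_add_eq]
    intro z
    refine ⟨(2 : F)⁻¹ • (z + f z), (2 : F)⁻¹ • (z - f z), ?_, ?_, ?_⟩
    · rw [mem1, map_smul, map_add, hff, add_comm]
    · rw [mem2, map_smul, map_sub, hff, ← smul_neg, neg_sub]
    · rw [← smul_add, add_add_sub_cancel, ← two_smul F z, smul_smul, inv_mul_cancel₀ h2, one_smul]
  have hc : IsCompl E₁ E₂ := ⟨hdisj, hcod⟩
  -- determinant
  set e := Submodule.prodEquivOfIsCompl E₁ E₂ hc with he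
  have hconj : f = (e : (↥E₁ × ↥E₂) →ₗ[F] (Fin 3 → F)) ∘ₗ
      (LinearMap.prodMap (LinearMap.id : ↥E₁ →ₗ[F] ↥E₁) ((-1 : F) • (LinearMap.id : ↥E₂ →ₗ[F] ↥E₂))) ∘ₗ
      (e.symm : (Fin 3 → F) →ₗ[F] (↥E₁ × ↥E₂)) := by
    apply LinearMap.ext
    intro v
    obtain ⟨xy, rfl⟩ := e.surjective v
    obtain ⟨x, y⟩ := xy
    simp only [LinearMap.comp_apply, LinearEquiv.coe_coe, LinearEquiv.symm_apply_apply,
      LinearMap.prodMap_apply, LinearMap.id_apply, LinearMap.smul_apply]
    rw [he, Submodule.coe_prodEquivOfIsCompl', Submodule.coe_prodEquivOfIsCompl']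
    simp only [map_add, neg_smul, one_smul, Submodule.coe_neg]
    rw [(mem1 x).1 x.2, (mem2 y).1 y.2]
  have hdetf : LinearMap.det f = (-1 : F) ^ Module.finrank F ↥E₂ := by
    rw [hconj, LinearMap.det_conj, LinearMap.det_prodMap, LinearMap.det_id, LinearMap.det_smul,
      LinearMap.det_id, one_mul, mul_one]
  have hpow : (-1 : F) ^ Module.finrank F ↥E₂ = 1 := by
    rw [← hdetf, hf, LinearMap.det_toLin', hdet]
  have hsum : Module.finrank F ↥E₁ + Module.finrank F ↥E₂ = 3 := by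
    rw [Submodule.finrank_add_eq_of_isCompl hc, Module.finrank_fin_fun]
  have hneg1 : (-1 : F) ≠ 1 := by
    intro h
    apply h2
    have : (2 : F) = 1 - (-1) := by ring
    rw [this, h, sub_self]
  have hd2 : Module.finrank F ↥E₂ = 2 := by
    have hle : Module.finrank F ↥E₂ ≤ 3 := by omega
    interval_cases hk : Module.finrank F ↥E₂
    · -- E₂ = ⊥, so A = 1
      exfalso
      have hbot : E₂ = ⊥ := Submodule.finrank_eq_zero.mp hk
      have htop : E₁ = ⊤ := by
        have := hc.sup_eq_top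
        rwa [hbot, sup_bot_eq] at this
      apply hA1
      have hfid : f = LinearMap.id := by
        apply LinearMap.ext
        intro v
        have : v ∈ E₁ := by rw [htop]; exact Submodule.mem_top
        rw [(mem1 v).1 this, LinearMap.id_apply]
      have : Matrix.toLin' A = Matrix.toLin' (1 : Matrix (Fin 3) (Fin 3) F) := by
        rw [Matrix.toLin'_one, ← hf, hfid]
      exact Matrix.toLin'.injective this
    · exfalso; apply hneg1; simpa using hpow
    · rfl
    · exfalso; apply hneg1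
      have : (-1 : F) ^ 3 = -1 := by ring
      rw [this] at hpow; exact hpow
  have hd1 : Module.finrank F ↥E₁ = 1 := by omega
  -- bases
  set b₂ := Module.finBasisOfFinrankEq F ↥E₂ hd2 with hb₂
  set b₁ := Module.finBasisOfFinrankEq F ↥E₁ hd1 with hb₁
  set v1 : Fin 3 → F := (b₂ 0 : Fin 3 → F) with hv1
  set v2 : Fin 3 → F := (b₂ 1 : Fin 3 → F) with hv2
  set v3 : Fin 3 → F := (b₁ 0 : Fin 3 → F) with hv3
  have hAv1 : A *ᵥ v1 = -v1 := by rw [← hfv]; exact (mem2 v1).1 (b₂ 0).2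
  have hAv2 : A *ᵥ v2 = -v2 := by rw [← hfv]; exact (mem2 v2).1 (b₂ 1).2
  have hAv3 : A *ᵥ v3 = v3 := by rw [← hfv]; exact (mem1 v3).1 (b₁ 0).2
  set P₀ : Matrix (Fin 3) (Fin 3) F := Matrix.of (fun i j => (![v1, v2, v3] j) i) with hP₀
  have hP₀mul : ∀ w : Fin 3 → F, P₀ *ᵥ w = w 0 • v1 + w 1 • v2 + w 2 • v3 := by
    intro w
    ext i
    simp [hP₀, Matrix.mulVec, dotProduct, Fin.sum_univ_three, mul_comm]
  have hAP₀ : A * P₀ = P₀ * Matrix.diagonal ![-1, -1, 1] := by
    ext i j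
    rw [Matrix.mul_diagonal]
    have hcol : (A * P₀) i j = (A *ᵥ (![v1, v2, v3] j)) i := by
      simp [hP₀, Matrix.mul_apply, Matrix.mulVec, dotProduct]
    rw [hcol]
    fin_cases j
    · simp [hAv1, hP₀]
    · simp [hAv2, hP₀]
    · simp [hAv3, hP₀]
  have hdetP₀ : P₀.det ≠ 0 := by
    intro h0
    obtain ⟨w, hw0, hw⟩ := Matrix.exists_mulVec_eq_zero_iff.mpr h0
    rw [hP₀mul] at hw
    -- the E₂-part and the E₁-part both vanish
    have hx2 : w 0 • v1 + w 1 • v2 ∈ E₂ :=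
      E₂.add_mem (E₂.smul_mem _ (b₂ 0).2) (E₂.smul_mem _ (b₂ 1).2)
    have hx1 : w 2 • v3 ∈ E₁ := E₁.smul_mem _ (b₁ 0).2
    have heq : w 0 • v1 + w 1 • v2 = -(w 2 • v3) := eq_neg_of_add_eq_zero_left hw
    have hx1' : w 0 • v1 + w 1 • v2 ∈ E₁ := by rw [heq]; exact E₁.neg_mem hx1
    have hz : w 0 • v1 + w 1 • v2 = 0 := (Submodule.disjoint_def.mp hdisj) _ hx1' hx2
    have hz3 : w 2 • v3 = 0 := by
      rw [hz] at heq
      exact neg_eq_zero.mp heq.symm
    have hw2 : w 2 = 0 := by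
      rcases smul_eq_zero.mp hz3 with h | h
      · exact h
      · exfalso
        apply b₁.ne_zero 0
        exact Subtype.ext h
    have hli := b₂.linearIndependent
    rw [Fintype.linearIndependent_iff] at hli
    have hw01 := hli (fun i => w (Fin.castSucc i)) (by
      rw [Fin.sum_univ_two]
      apply Subtype.ext
      simpa using hz)
    apply hw0
    ext i
    fin_cases i
    · exact hw01 0
    · exact hw01 1
    · exact hw2
  refine ⟨P₀ * Matrix.diagonal ![1, 1, (P₀.det)⁻¹], ?_, ?_⟩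
  · rw [Matrix.det_mul, Matrix.det_diagonal, Fin.prod_univ_three]
    simp [mul_inv_cancel₀ hdetP₀]
  · rw [← Matrix.mul_assoc, hAP₀, Matrix.mul_assoc, Matrix.mul_assoc, Matrix.diagonal_mul_diagonal,
      Matrix.diagonal_mul_diagonal]
    congr 2
    ext i
    fin_cases i <;> simp

theorem inv_conj (h2 : (2 : F) ≠ 0) (g : SL3) (hg : g * g = 1) (hg1 : g ≠ 1) :
    ∃ c : SL3, c * g * c⁻¹ = zz := by
  have hA : (g : Matrix (Fin 3) (Fin 3) F) * (g : Matrix (Fin 3) (Fin 3) F) = 1 := by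
    have := congrArg (fun x : SL3 => (x : Matrix (Fin 3) (Fin 3) F)) hg
    simpa using this
  have hA1 : (g : Matrix (Fin 3) (Fin 3) F) ≠ 1 := by
    intro h
    apply hg1
    apply Subtype.ext
    simpa using h
  obtain ⟨P, hPdet, hAP⟩ := h9_inv_core h2 (g : Matrix (Fin 3) (Fin 3) F) hA g.2 hA1
  set p : SL3 := ⟨P, hPdet⟩ with hp
  have hcomm : g * p = p * zz := by
    apply Subtype.ext
    show (g : Matrix (Fin 3) (Fin 3) F) * P = P * ((zz : SL3) : Matrix (Fin 3) (Fin 3) F)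
    rw [h9_zz_val, hAP]
  refine ⟨p⁻¹, ?_⟩
  rw [inv_inv, mul_assoc, hcomm, ← mul_assoc, inv_mul_cancel, one_mul]

end Cfsg.Agent.Helper9.Psl3
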