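import Mathlib
import Cfsg.Prelude.Def_Local
import Cfsg.Agent.Lib.Helper89.TH1Defs
import Cfsg.Agent.Lib.Helper59.TH1CAFIB
import Cfsg.Agent.Lib.Helper33.TH1CAEXP
import Cfsg.Agent.Lib.Helper33.TH1CAAR

/-!
TH1 server (helper89, S3797), piece (COREA) `core_dim`: in the `Core` configuration
`|Y| = |W|^3` and the commutator pairing modulo any hyperplane `W₀` of `W` has radical `W`.
-/

set_option autoImplicit false

namespace Cfsg.Agent.Helper9.TH1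

open Cfsg Subgroup Cfsg.Agent.Helper89.TH1
open scoped commutatorElement

universe u

variable {G : Type u} [Group G] [Finite G]

/-- `(y u)^2 = y^2` for `u` central of exponent 2. -/
theorem h9_coset_sq {y u : G} (hc : u * y = y * u) (hu : u ^ 2 = 1) : (y * u) ^ 2 = y ^ 2 := by
  have h1 : (y * u) ^ 2 = y * (u * y) * u := by rw [pow_two]; group
  rw [h1, hc]
  have h2 : y * (y * u) * u = y ^ 2 * u ^ 2 := by rw [pow_two, pow_two]; group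
  rw [h2, hu, mul_one]

/-- the common fibre size is not `|W|`. -/
theorem h9_phi_ne {W Y K₁ E Q₀ N : Subgroup G} (hC : Core G W Y K₁ E Q₀ N) (φ : ℕ)
    (hφ : ∀ w ∈ W, w ≠ 1 → Nat.card {y : G // y ∈ Y ∧ y ^ 2 = w} = φ) : φ ≠ Nat.card W := by
  intro heq
  obtain ⟨y, hyY, hyW⟩ := SetLike.exists_of_lt hC.W_lt_Y
  apply hyW
  apply hC.K_fpf y hyY
  intro k hk
  -- work with y' = y⁻¹
  have hy'Y : y⁻¹ ∈ Y := Y.inv_mem hyY
  have hy'W : y⁻¹ ∉ W := fun h => hyW (by simpa using W.inv_mem h)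
  have hwW : (y⁻¹) ^ 2 ∈ W := hC.sq_mem _ hy'Y
  have hw1 : (y⁻¹) ^ 2 ≠ 1 := fun h => hy'W (hC.inv_mem _ h)
  have hcard := hφ _ hwW hw1
  rw [heq] at hcard
  -- the map u ↦ y⁻¹ u from W to the fibre
  let f : W → {z : G // z ∈ Y ∧ z ^ 2 = (y⁻¹) ^ 2} := fun u =>
    ⟨y⁻¹ * u.1, Y.mul_mem hy'Y (hC.W_lt_Y.le u.2),
      h9_coset_sq (hC.W_central _ u.2 _ hy'Y) (hC.W_exp _ u.2)⟩
  have hfinj : Function.Injective f := by
    intro a b hab
    have : y⁻¹ * a.1 = y⁻¹ * b.1 := congrArg Subtype.val hab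
    exact Subtype.ext (mul_left_cancel this)
  have hfbij : Function.Bijective f :=
    (Nat.bijective_iff_injective_and_card f).mpr ⟨hfinj, hcard.symm⟩
  have hmem : k * y⁻¹ * k⁻¹ ∈ Y ∧ (k * y⁻¹ * k⁻¹) ^ 2 = (y⁻¹) ^ 2 := by
    refine ⟨hC.K_Y k hk _ hy'Y, ?_⟩
    have h1 : (k * y⁻¹ * k⁻¹) ^ 2 = k * (y⁻¹) ^ 2 * k⁻¹ := by
      rw [pow_two, pow_two]; group
    rw [h1, hC.K_W k hk _ hwW]
    group
  obtain ⟨u, hu⟩ := hfbij.2 ⟨k * y⁻¹ * k⁻¹, hmem⟩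
  have hu' : y⁻¹ * u.1 = k * y⁻¹ * k⁻¹ := congrArg Subtype.val hu
  have : ⁅y, k⁆ = u.1 := by
    have h2 : u.1 = y * (k * y⁻¹ * k⁻¹) := by rw [← hu']; group
    rw [h2, commutatorElement_def]; group
  rw [this]
  exact u.2

/-- a subgroup of index 2 in a 2-group of order at least 2. -/
theorem h9_exists_index_two (W : Subgroup G) (n : ℕ) (hcard : Nat.card W = 2 ^ (n + 1)) :
    ∃ W₀ : Subgroup G, W₀ ≤ W ∧ W₀.relIndex W = 2 ∧ Nat.card W₀ = 2 ^ n := by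
  have : Fact (Nat.Prime 2) := ⟨Nat.prime_two⟩
  obtain ⟨K, hK⟩ := Sylow.exists_subgroup_card_pow_prime (G := W) 2 (n := n)
    (by rw [hcard]; exact pow_dvd_pow 2 (Nat.le_succ n))
  refine ⟨K.map W.subtype, ?_, ?_, ?_⟩
  · intro x hx
    obtain ⟨z, _, rfl⟩ := hx
    exact z.2
  · have h1 : (K.map W.subtype).subgroupOf W = K := by
      ext z
      simp [Subgroup.mem_subgroupOf]
    rw [Subgroup.relIndex, h1]
    have h2 := K.card_mul_index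
    rw [hK, hcard, pow_succ] at h2
    exact Nat.eq_of_mul_eq_mul_left (by positivity) h2
  · rw [Subgroup.card_map_of_injective W.subtype_injective]
    exact hK

/-- the radical of the pairing is a subgroup. -/
theorem h9_rad_subgroup (W Y W₀ : Subgroup G) (hW₀ : W₀ ≤ W)
    (hcen : ∀ w ∈ W, ∀ y ∈ Y, w * y = y * w) :
    ∃ R : Subgroup G, (∀ z, z ∈ R ↔ z ∈ Y ∧ ∀ y ∈ Y, ⁅y, z⁆ ∈ W₀) ∧ W ⊓ Y ≤ R := by
  refine ⟨{ carrier := {z | z ∈ Y ∧ ∀ y ∈ Y, ⁅y, z⁆ ∈ W₀}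
            mul_mem' := ?_
            one_mem' := ?_
            inv_mem' := ?_ }, fun z => Iff.rfl, ?_⟩
  · rintro a b ⟨haY, ha⟩ ⟨hbY, hb⟩
    refine ⟨Y.mul_mem haY hbY, fun y hy => ?_⟩
    have h1 : ⁅y, a * b⁆ = ⁅y, a⁆ * (a * ⁅y, b⁆ * a⁻¹) := by
      simp only [commutatorElement_def]; group
    have h2 : a * ⁅y, b⁆ * a⁻¹ = ⁅y, b⁆ := by
      rw [← hcen _ (hW₀ (hb y hy)) a haY]; group
    rw [h1, h2]
    exact W₀.mul_mem (ha y hy) (hb y hy)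
  · refine ⟨Y.one_mem, fun y _ => ?_⟩
    simp
  · rintro a ⟨haY, ha⟩
    refine ⟨Y.inv_mem haY, fun y hy => ?_⟩
    have h1 : ⁅y, a⁻¹⁆ = a⁻¹ * ⁅y, a⁆⁻¹ * a := by
      simp only [commutatorElement_def]; group
    have h2 : a⁻¹ * ⁅y, a⁆⁻¹ * a = ⁅y, a⁆⁻¹ := by
      have := hcen _ (hW₀ (W₀.inv_mem (ha y hy))) a haY
      rw [mul_assoc, this]; group
    rw [h1, h2]
    exact W₀.inv_mem (ha y hy)
  · rintro z ⟨hzW, hzY⟩
    refine ⟨hzY, fun y hy => ?_⟩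
    have h1 : ⁅y, z⁆ = 1 := by
      rw [commutatorElement_def, ← hcen z hzW y hy]; group
    rw [h1]; exact W₀.one_mem

theorem core_dim {W Y K₁ E Q₀ N : Subgroup G} (hC : Core G W Y K₁ E Q₀ N) :
    Nat.card Y = Nat.card W ^ 3 ∧
    ∀ W₀ : Subgroup G, W₀ ≤ W → W₀.relIndex W = 2 →
      ∀ y ∈ Y, (∀ x ∈ Y, ⁅x, y⁆ ∈ W₀) → y ∈ W := by
  have hWY : W ≤ Y := hC.W_lt_Y.le
  obtain ⟨φ, hφ1, hφ2⟩ := Cfsg.Agent.Helper59.TH1CA.fiber_card W Y N hWY hC.N_Y hC.N_trans hC.sq_mem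
    (fun y _ h => hC.inv_mem y h) hC.W_exp
  have hφne : φ ≠ Nat.card W := h9_phi_ne hC φ hφ1
  -- cardinalities
  obtain ⟨k, hk⟩ := IsPGroup.iff_card.mp hC.Y_two
  obtain ⟨n, hn⟩ := IsPGroup.iff_card.mp (hC.Y_two.to_le hWY)
  have hn2 : 2 ≤ n := by
    by_contra hlt
    have h4 := hC.W_card
    rw [hn] at h4
    have : n ≤ 1 := by omega
    have : 2 ^ n ≤ 2 ^ 1 := Nat.pow_le_pow_right (by norm_num) this
    omega
  have hnk : n < k := by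
    have hle : Nat.card W ≤ Nat.card Y := Subgroup.card_le_of_le hWY
    have hne : Nat.card W ≠ Nat.card Y := by
      intro h
      exact hC.W_lt_Y.ne (Subgroup.eq_of_le_of_card_ge hWY h.ge)
    rw [hn, hk] at hle hne
    have hlt : 2 ^ n < 2 ^ k := lt_of_le_of_ne hle hne
    exact (Nat.pow_lt_pow_iff_right (by norm_num)).mp hlt
  -- |Y| = |W| + (|W| - 1) φ
  have hY : 2 ^ k = 2 ^ n + (2 ^ n - 1) * φ := by
    have h := hφ2 W le_rfl
    have h2 : Nat.card {y : G // y ∈ Y ∧ y ^ 2 ∈ W} = Nat.card Y :=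
      Nat.card_congr (Equiv.subtypeEquivRight (fun y => ⟨fun h => h.1, fun h => ⟨h, hC.sq_mem y h⟩⟩))
    rw [h2, hk, hn] at h
    exact h
  -- the main step, for each hyperplane
  have key : ∀ W₀ : Subgroup G, W₀ ≤ W → W₀.relIndex W = 2 →
      k = 3 * n ∧ ∀ y ∈ Y, (∀ x ∈ Y, ⁅x, y⁆ ∈ W₀) → y ∈ W := by
    intro W₀ hW₀ hidx
    obtain ⟨R, hR, hWR⟩ := h9_rad_subgroup W Y W₀ hW₀ hC.W_central
    have hRY : R ≤ Y := fun z hz => ((hR z).mp hz).1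
    have hWR' : W ≤ R := fun z hz => hWR ⟨hz, hWY hz⟩
    obtain ⟨r, hr⟩ := IsPGroup.iff_card.mp (hC.Y_two.to_le hRY)
    have hnr : n ≤ r := by
      have hd : Nat.card W ∣ Nat.card R := Subgroup.card_dvd_of_le hWR'
      rw [hn, hr] at hd
      exact (Nat.pow_dvd_pow_iff_le_right (by norm_num)).mp hd
    have hRcard : Nat.card {z : G // z ∈ Y ∧ ∀ y ∈ Y, ⁅y, z⁆ ∈ W₀} = 2 ^ r := by
      rw [← hr]
      exact Nat.card_congr (Equiv.subtypeEquivRight (fun z => (hR z).symm))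
    -- |W₀| = 2^(n-1)
    have hW₀card : Nat.card W₀ * 2 = 2 ^ n := by
      have h := Subgroup.relIndex_mul_relIndex (⊥ : Subgroup G) W₀ W bot_le hW₀
      rw [Subgroup.relIndex_bot_left, Subgroup.relIndex_bot_left, hidx, hn] at h
      exact h
    have hZ := hφ2 W₀ hW₀
    have hE := Cfsg.Agent.Helper33.TH1CA.expsum W Y W₀ hWY hW₀ hidx hC.W_central hC.sq_mem hC.comm_mem hC.W_exp
    rw [hRcard, hk, hZ, hn] at hE
    have hS : (2 * ((2 ^ n + (Nat.card W₀ - 1) * φ : ℕ) : ℤ) - ((2 ^ k : ℕ) : ℤ)) = 2 ^ n - (φ : ℤ) := by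
      have hc1 : 1 ≤ Nat.card W₀ := Nat.card_pos
      have hp1 : 1 ≤ 2 ^ n := Nat.one_le_two_pow
      rw [hY]
      push_cast [Nat.cast_sub hc1, Nat.cast_sub hp1]
      have h2c : ((Nat.card W₀ : ℕ) : ℤ) * 2 = 2 ^ n := by exact_mod_cast hW₀card
      rw [← h2c]; ring
    rw [hS] at hE
    have h2 : ((φ : ℤ) - 2 ^ n) ^ 2 = 2 ^ k * 2 ^ r := by
      rcases hE with h0 | h1
      · exfalso
        have : (2 : ℤ) ^ n - φ = 0 := by
          exact pow_eq_zero_iff (two_ne_zero) |>.mp h0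
        apply hφne
        rw [hn]
        have : (φ : ℤ) = ((2 ^ n : ℕ) : ℤ) := by push_cast; linarith
        exact_mod_cast this
      · have : ((φ : ℤ) - 2 ^ n) ^ 2 = ((2 : ℤ) ^ n - φ) ^ 2 := by ring
        rw [this, h1]
        push_cast
        ring
    obtain ⟨h3, h4⟩ := Cfsg.Agent.Helper33.TH1CA.arith n k r φ hn2 hnk hnr (by rw [← hn]; exact hφne) hY h2
    refine ⟨h3, fun y hy hyr => ?_⟩
    have hyR : y ∈ R := (hR y).mpr ⟨hy, hyr⟩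
    have hRW : R = W := by
      symm
      apply Subgroup.eq_of_le_of_card_ge hWR'
      rw [hn, hr, h4]
    rw [← hRW]; exact hyR
  refine ⟨?_, fun W₀ hW₀ hidx => (key W₀ hW₀ hidx).2⟩
  -- existence of a hyperplane
  obtain ⟨m, rfl⟩ : ∃ m, n = m + 1 := ⟨n - 1, by omega⟩
  obtain ⟨W₀, hW₀, hidx, _⟩ := h9_exists_index_two W m hn
  have h3 := (key W₀ hW₀ hidx).1
  rw [hk, hn, h3, ← pow_mul, mul_comm]

end Cfsg.Agent.Helper9.TH1
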