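import Mathlib
import Cfsg.Agent.Lib.Helper32.C3Defs
import Cfsg.Agent.Lib.Helper9.C3M3Defs
import Cfsg.Agent.Lib.Helper8.InvCent
import Cfsg.Agent.Lib.Helper67.C3M3A
import Cfsg.Agent.Lib.Helper8.C3M3INJ
import Cfsg.Agent.Lib.Helper19.C3M3B
import Cfsg.Agent.Lib.Helper8.C3M3C
import Cfsg.Agent.Lib.Helper19.C3M3E
import Cfsg.Agent.Lib.Helper76.C3M3H1
import Cfsg.Agent.Lib.Helper8.C3M3H2
import Cfsg.Agent.Lib.Helper95.C3M3D
import Cfsg.Agent.Lib.Helper42.C3M3F
import Cfsg.Agent.Lib.Helper71.C3M3G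
import Cfsg.Agent.Lib.Helper94.C3M3A4
import Cfsg.Agent.Lib.Helper19.C3M3I
import Cfsg.Agent.Lib.Helper8.C3M3J1
import Cfsg.Agent.Lib.Helper34.C3M3J2
import Cfsg.Agent.Lib.Helper71.C3M3K1
import Cfsg.Agent.Lib.Helper42.C3M3K2
import Cfsg.Agent.Lib.Helper78.C3M3K3
import Cfsg.Agent.Lib.Helper94.C3M3K4

set_option autoImplicit false
set_option linter.unusedSectionVars false

namespace Cfsg.Agent.Helper9.C3

open Cfsg.Agent.Helper32.C3 Cfsg.Agent.Helper9.C3M3

universe u v

/-- extraspecial criterion inside a subgroup -/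
theorem h9_extraspecial_of_facts {G : Type u} [Group G] [Finite G] (R : Subgroup G) (z : G)
    (hzR : z ∈ R) (hz1 : z ≠ 1) (hcard : Nat.card ↥R = 32)
    (hsq : ∀ r ∈ R, r * r = 1 ∨ r * r = z)
    (hcm : ∀ r ∈ R, ∀ r' ∈ R, r * r' = r' * r ∨ r * r' = z * (r' * r))
    (hcen : ∀ r ∈ R, (∀ r' ∈ R, r * r' = r' * r) → r = 1 ∨ r = z)
    (hna : ∃ x ∈ R, ∃ y ∈ R, x * y ≠ y * x) : Cfsg.IsExtraspecial 2 ↥R := by
  have hz2 : z * z = 1 := by
    rcases hsq z hzR with h | h
    · exact h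
    · exfalso; apply hz1
      calc z = z⁻¹ * (z * z) := by group
        _ = z⁻¹ * z := by rw [h]
        _ = 1 := by group
  have hzc : ∀ r ∈ R, r * z = z * r := by
    intro r hr
    rcases hcm r hr z hzR with h | h
    · exact h
    · exfalso; apply hz1
      have : r * z = r := by rw [h, ← mul_assoc, hz2, one_mul]
      exact mul_eq_left.1 this
  have hcardZ : Nat.card (Subgroup.zpowers (⟨z, hzR⟩ : ↥R)) = 2 := by
    rw [Nat.card_zpowers]
    apply orderOf_eq_prime
    · apply Subtype.ext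
      rw [pow_two]
      exact hz2
    · intro e
      exact hz1 (congrArg Subtype.val e)
  have hmemZ : ∀ u : ↥R, ((u : G) = 1 ∨ (u : G) = z) →
      u ∈ Subgroup.zpowers (⟨z, hzR⟩ : ↥R) := by
    intro u hu
    rcases hu with h | h
    · have : u = 1 := Subtype.ext h
      rw [this]; exact Subgroup.one_mem _
    · have : u = ⟨z, hzR⟩ := Subtype.ext h
      rw [this]; exact Subgroup.mem_zpowers _
  refine Cfsg.Agent.Helper8.InvC.isExtraspecial_of_crit'
    (IsPGroup.of_card (n := 5) (by rw [hcard]; norm_num))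
    (Subgroup.zpowers (⟨z, hzR⟩ : ↥R)) hcardZ ?_ ?_ ?_ ?_ ?_
  · rw [Subgroup.zpowers_le, Subgroup.mem_center_iff]
    intro g
    apply Subtype.ext
    exact hzc g.1 g.2
  · intro u hu
    rw [Subgroup.mem_center_iff] at hu
    apply hmemZ
    apply hcen u.1 u.2
    intro w hw
    have := hu ⟨w, hw⟩
    exact (congrArg Subtype.val this).symm
  · intro x y
    apply hmemZ
    rw [commutatorElement_def]
    rcases hcm x.1 x.2 y.1 y.2 with h | h
    · left
      show (x : G) * y * (x : G)⁻¹ * (y : G)⁻¹ = 1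
      rw [h]; group
    · right
      show (x : G) * y * (x : G)⁻¹ * (y : G)⁻¹ = z
      rw [h]; group
  · intro x
    apply hmemZ
    rcases hsq x.1 x.2 with h | h
    · left; show ((x ^ 2 : ↥R) : G) = 1; rw [pow_two]; exact h
    · right; show ((x ^ 2 : ↥R) : G) = z; rw [pow_two]; exact h
  · obtain ⟨x, hx, y, hy, hxy⟩ := hna
    refine ⟨⟨x, hx⟩, ⟨y, hy⟩, ?_⟩
    intro e
    exact hxy (congrArg Subtype.val e)

/-- **M3.** Monomial, `n = 4`: `R` extraspecial of order 32. -/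
theorem concl_of_mono_four {G : Type u} [Group G] [Finite G] {V : Type v} [AddCommGroup V]
    [Module (ZMod 3) V] [Finite V] (ρ : Representation (ZMod 3) G V) (R Q : Subgroup G) (b : G)
    (h : Cfg ρ R Q b) (hm : IsMono ρ 4)
    (hQW : ∃ (q₁ q₂ q₃ : G) (v₁ v₂ v₃ : V), QWeights ρ Q b q₁ q₂ q₃ v₁ v₂ v₃) : Concl R := by
  obtain ⟨e, π, s, hmono⟩ := hm
  have := h.Rn
  obtain ⟨hsm, hs1⟩ := Cfsg.Agent.Helper67.C3M3.sign_mul ρ e π s hmono
  have hinj := Cfsg.Agent.Helper8.C3M3.phi_inj ρ e π s h.faith hmono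
  have htrans := Cfsg.Agent.Helper19.C3M3.transitive ρ R Q b e π s h hmono
  have hb1 := Cfsg.Agent.Helper8.C3M3.pi_b_ne_one ρ R Q b e π s h hmono
  have hprod := Cfsg.Agent.Helper19.C3M3.sign_prod R b π s hsm h.comm
  have hV4 := Cfsg.Agent.Helper95.C3M3.pi_R_V4 R b π h.Rcop h.b3 hb1
  have hsurj := Cfsg.Agent.Helper42.C3M3.pi_R_surj R b π htrans hV4 h.RB h.b3 hb1
  have hcard := Cfsg.Agent.Helper71.C3M3.card_R R π hV4 hsurj
  have heven := Cfsg.Agent.Helper94.C3M3.pi_even R b π hsurj h.b3 hb1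
  have hconj := Cfsg.Agent.Helper76.C3M3.conj_diag R π s hsm hs1
  rcases Cfsg.Agent.Helper19.C3M3.diag_trichotomy R π s hsm hs1 hprod heven hconj with hscal | hall
  · exfalso
    rcases Cfsg.Agent.Helper94.C3M3.scalar_D ρ R e π s hmono hs1 hinj hscal with h1 | ⟨h2, z, hzR, hz⟩
    · exact Cfsg.Agent.Helper8.C3M3.not_card_four ρ R Q b h (by rw [Module.finrank_eq_card_basis e]; rfl) hQW
        (by rw [hcard, h1])
    · exact Cfsg.Agent.Helper34.C3M3.not_card_eight ρ R Q b h z hzR hz (by rw [hcard, h2])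
  · have hD8 := Cfsg.Agent.Helper78.C3M3.card_D R π s hinj hprod hall
    have hR32 : Nat.card ↥R = 32 := by rw [hcard, hD8]
    obtain ⟨z, hzD, hzs⟩ := hall (fun _ => -1) (by decide)
    have hzR : z ∈ R := hzD.1
    have hzπ : π z = 1 := hzD.2
    obtain ⟨hsq, hcm⟩ := Cfsg.Agent.Helper71.C3M3.sq_comm_facts R π s hsm hs1 hinj hV4 hprod z hzπ hzs
    have hcen := Cfsg.Agent.Helper42.C3M3.center_facts R π s hsm hs1 hinj hV4 hsurj hall z hzπ hzs
    have hz1 : z ≠ 1 := by
      intro e0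
      have := hzs 0
      rw [e0, hs1] at this
      exact absurd this (by decide)
    -- a non-scalar diagonal element
    obtain ⟨d, hdD, hds⟩ := hall (fun i => if i = 0 ∨ i = 1 then -1 else 1) (by decide)
    have hd1 : d ≠ 1 := by
      intro e0
      have := hds 0
      rw [e0, hs1] at this
      exact absurd this (by decide)
    have hdz : d ≠ z := by
      intro e0
      have := hds 2
      rw [e0, hzs] at this
      exact absurd this (by decide)
    have hna : ∃ x ∈ R, ∃ y ∈ R, x * y ≠ y * x := by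
      by_contra hcon
      push Not at hcon
      rcases hcen d hdD.1 (fun r' hr' => hcon d hdD.1 r' hr') with e0 | e0
      · exact hd1 e0
      · exact hdz e0
    right
    refine ⟨h9_extraspecial_of_facts R z hzR hz1 hR32 hsq hcm hcen hna, hR32, R ⊓ π.ker,
      inf_le_left, ?_, hD8⟩
    obtain ⟨hd2, hdc⟩ := Cfsg.Agent.Helper8.C3M3.diag_facts π s hsm hs1 hinj
    refine ⟨⟨⟨?_⟩⟩, ?_⟩
    · intro x y
      apply Subtype.ext
      exact hdc x.1 x.2.2 y.1 y.2.2
    · intro a ha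
      rw [pow_two]
      exact hd2 a ha.2

end Cfsg.Agent.Helper9.C3
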