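import Mathlib
import Cfsg.Agent.Lib.Helper52.FLDefs
import Cfsg.Agent.Lib.Helper52.Coprime
import Cfsg.Agent.Lib.Helper9.WielandtBasic
import Cfsg.Agent.Lib.Helper97.FXDefs

/-!
# FL project (S3822): core of piece (CC1) `exists_conj_Q`, with (DNOR) as a hypothesis (helper9)
-/

set_option autoImplicit false
set_option linter.unusedSectionVars false

namespace Cfsg.Agent.Helper9.FL

open Cfsg.Agent.Helper52.FL Cfsg.Agent.Helper97.FX

variable {G : Type*} [Group G] [Finite G]

section CTX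
variable {A Q V : Subgroup G} {r s : ℕ} [Fact r.Prime] [Fact s.Prime]

theorem h9_relIndex_mul_card {K L : Subgroup G} (h : K ≤ L) :
    K.relIndex L * Nat.card K = Nat.card L := by
  have := Subgroup.relIndex_mul_relIndex (⊥ : Subgroup G) K L bot_le h
  rw [Subgroup.relIndex_bot_left, Subgroup.relIndex_bot_left] at this
  rw [mul_comm]; exact this

open Subgroup in
/-- product formula: if `K` normalizes `H` then `|HK| |H ∩ K| = |H| |K|`
(copy of `Cfsg.Agent.Helper50.card_sup_mul_card_inf_of_le_normalizer`). -/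
theorem h9_card_sup_mul_card_inf (H K : Subgroup G)
    (hK : K ≤ normalizer (H : Set G)) :
    Nat.card ↥(H ⊔ K) * Nat.card ↥(H ⊓ K) = Nat.card H * Nat.card K := by
  set N := normalizer (H : Set G) with hN
  have hHN : H ≤ N := le_normalizer
  have : (H.subgroupOf N).Normal := normal_in_normalizer
  have hKH : K ⊔ H ≤ N := sup_le hK hHN
  have h1 : (H.subgroupOf N).relIndex (K.subgroupOf N ⊔ H.subgroupOf N) =
      (H.subgroupOf N).relIndex (K.subgroupOf N) := Subgroup.relIndex_sup_right _ _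
  rw [← Subgroup.subgroupOf_sup hK hHN, Subgroup.relIndex_subgroupOf hKH,
    Subgroup.relIndex_subgroupOf hK] at h1
  have h2 : H.relIndex (K ⊔ H) * Nat.card H = Nat.card ↥(K ⊔ H) :=
    h9_relIndex_mul_card le_sup_right
  have h3 : H.relIndex K * Nat.card ↥(H ⊓ K) = Nat.card K := by
    rw [← Subgroup.inf_relIndex_right]; exact h9_relIndex_mul_card inf_le_right
  rw [sup_comm, ← h2, ← h3, h1]; ring

/-- `A` normalises `D = C_V(Q)` -/
theorem h9_A_le_normalizer_D (h : Ctx A Q V r s) :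
    A ≤ Subgroup.normalizer (Dsub Q V : Set G) := by
  intro a ha
  have haV := h.hAV ha
  have haQ := h.hAQ ha
  have key : ∀ b : G, b ∈ Subgroup.normalizer (V : Set G) → b ∈ Subgroup.normalizer (Q : Set G) →
      ∀ x, x ∈ Dsub Q V → b * x * b⁻¹ ∈ Dsub Q V := by
    intro b hbV hbQ x hx
    obtain ⟨hxV, hxC⟩ := Subgroup.mem_inf.mp hx
    refine Subgroup.mem_inf.mpr ⟨(Subgroup.mem_normalizer_iff.mp hbV x).mp hxV, ?_⟩
    rw [Subgroup.mem_centralizer_iff]
    intro q hq
    have hq' : b⁻¹ * q * b ∈ Q := by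
      have := (Subgroup.mem_normalizer_iff.mp (Subgroup.inv_mem _ hbQ) q).mp hq
      simpa using this
    have hc := Subgroup.mem_centralizer_iff.mp hxC _ hq'
    calc q * (b * x * b⁻¹) = b * ((b⁻¹ * q * b) * x) * b⁻¹ := by group
      _ = b * (x * (b⁻¹ * q * b)) * b⁻¹ := by rw [hc]
      _ = b * x * b⁻¹ * q := by group
  rw [Subgroup.mem_normalizer_iff]
  intro x
  constructor
  · exact key a haV haQ x
  · intro hx
    have := key a⁻¹ (Subgroup.inv_mem _ haV) (Subgroup.inv_mem _ haQ) _ hx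
    have e : a⁻¹ * (a * x * a⁻¹) * a⁻¹⁻¹ = x := by group
    rwa [e] at this

open Cfsg.Agent.Helper9.Wielandt in
/-- core of **(CC1)**, with (DNOR) `V ≤ N(D)` as a hypothesis -/
theorem h9_exists_conj_Q_of (h : Ctx A Q V r s)
    (hDN : V ≤ Subgroup.normalizer (Dsub Q V : Set G))
    (B : Subgroup G) (hBY : B ≤ A ⊔ V) (hBV : B ⊔ V = A ⊔ V)
    (hBD : B ⊓ V ≤ Dsub Q V) :
    ∃ w ∈ V, (B ⊔ Dsub Q V) ⊓ (V ⊔ Q) = cj w (Q ⊔ Dsub Q V) := by
  have hr : r.Prime := Fact.out
  have hs : s.Prime := Fact.out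
  set D := Dsub Q V with hD
  have hDV : D ≤ V := inf_le_left
  have hDC : D ≤ Subgroup.centralizer (Q : Set G) := inf_le_right
  have hQnV : Q ≤ Subgroup.normalizer (V : Set G) := h.hQA.trans h.hAV
  have hYnV : A ⊔ V ≤ Subgroup.normalizer (V : Set G) := sup_le h.hAV Subgroup.le_normalizer
  have hBnV : B ≤ Subgroup.normalizer (V : Set G) := hBY.trans hYnV
  have hAnD : A ≤ Subgroup.normalizer (D : Set G) := h9_A_le_normalizer_D h
  have hBnD : B ≤ Subgroup.normalizer (D : Set G) := hBY.trans (sup_le hAnD hDN)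
  have hcop : (Nat.card V).Coprime (Nat.card Q) :=
    IsPGroup.coprime_card_of_ne r s h.hrs V Q h.hV h.hQ
  have hVQbot : V ⊓ Q = ⊥ := disjoint_iff.mp (Subgroup.disjoint_of_coprime_natCard hcop)
  -- Step 1
  have hstep1 : (B ⊔ D) ⊓ V ≤ D := by
    intro x hx
    obtain ⟨hx1, hxV⟩ := Subgroup.mem_inf.mp hx
    have hcoe := Subgroup.coe_mul_of_left_le_normalizer_right B D hBnD
    have hx2 : x ∈ ((B ⊔ D : Subgroup G) : Set G) := hx1
    rw [hcoe] at hx2
    obtain ⟨b, hb, d, hd, rfl⟩ := hx2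
    have hbV : b ∈ V := by
      have : b = b * d * d⁻¹ := by group
      rw [this]
      exact V.mul_mem hxV (V.inv_mem (hDV hd))
    exact D.mul_mem (hBD ⟨hb, hbV⟩) hd
  -- Step 2
  set N := V ⊔ Q with hN
  set H := B ⊓ N with hH
  have hHnV : H ≤ Subgroup.normalizer (V : Set G) := inf_le_left.trans hBnV
  have hHV : V ⊔ H = N := by
    apply le_antisymm
    · exact sup_le le_sup_left inf_le_right
    · apply sup_le le_sup_left
      intro q hq
      have hq1 : q ∈ B ⊔ V := by
        rw [hBV]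
        exact Subgroup.mem_sup_left (h.hQA hq)
      have hcoe := Subgroup.coe_mul_of_left_le_normalizer_right B V hBnV
      have hq2 : q ∈ ((B ⊔ V : Subgroup G) : Set G) := hq1
      rw [hcoe] at hq2
      obtain ⟨b, hb, v, hv, hbv⟩ := hq2
      have hbN : b ∈ N := by
        have : b = q * v⁻¹ := by rw [← hbv]; group
        rw [this]
        exact N.mul_mem (Subgroup.mem_sup_right hq) (N.inv_mem (Subgroup.mem_sup_left hv))
      rw [← hbv]
      exact Subgroup.mul_mem _ (Subgroup.mem_sup_right ⟨hb, hbN⟩) (Subgroup.mem_sup_left hv)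
  have hcardN : Nat.card N = Nat.card V * Nat.card Q := by
    have := h9_card_sup_mul_card_inf V Q hQnV
    rw [hVQbot, Subgroup.card_bot, mul_one] at this
    exact this
  have hcardH : Nat.card H = Nat.card Q * Nat.card ↥(V ⊓ H) := by
    have h1 := h9_card_sup_mul_card_inf V H hHnV
    rw [hHV, hcardN] at h1
    have hpos : 0 < Nat.card V := Nat.card_pos
    have h2 : Nat.card V * (Nat.card Q * Nat.card ↥(V ⊓ H)) = Nat.card V * Nat.card H := by
      rw [← h1]; ring
    exact (Nat.eq_of_mul_eq_mul_left hpos h2).symm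
  obtain ⟨m, hm⟩ := h.hQ.exists_card_eq
  obtain ⟨k, hk⟩ := (h.hV.to_le (inf_le_left : V ⊓ H ≤ V)).exists_card_eq
  have hfact : (Nat.card H).factorization s = m := by
    rw [hcardH, hm, hk, Nat.factorization_mul (pow_ne_zero _ hs.ne_zero) (pow_ne_zero _ hr.ne_zero),
      Finsupp.add_apply, hs.factorization_pow, hr.factorization_pow, Finsupp.single_apply,
      Finsupp.single_apply, if_pos rfl, if_neg h.hrs, add_zero]
  set Q₁ := sylOf H s with hQ₁
  have hQ₁H : Q₁ ≤ H := sylOf_le H s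
  have hcardQ₁ : Nat.card Q₁ = Nat.card Q := by
    rw [hQ₁, card_sylOf, hfact, hm]
  -- Step 3
  have hnilV : Group.IsNilpotent V := h.hV.isNilpotent
  have hsolvV : Group.IsSolvable V := inferInstance
  obtain ⟨w, hwV, hQw⟩ := Cfsg.Agent.Helper52.sz_conj_internal V Q Q₁ hQnV (Or.inl hsolvV) hcop
    hcardQ₁ (hQ₁H.trans inf_le_right)
  refine ⟨w, hwV, ?_⟩
  -- Step 4
  have hcjD : cj w D = D := by
    have := cj_eq_of_mem_normalizer (hDN hwV)
    rw [Cfsg.Agent.Helper52.conj_smul_eq_map] at this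
    exact this
  have hcj : cj w (Q ⊔ D) = Q₁ ⊔ D := by
    unfold cj
    rw [Subgroup.map_sup, ← hQw]
    congr 1
  have hle : cj w (Q ⊔ D) ≤ (B ⊔ D) ⊓ (V ⊔ Q) := by
    rw [hcj]
    apply sup_le
    · exact le_inf (hQ₁H.trans (inf_le_left.trans le_sup_left)) (hQ₁H.trans inf_le_right)
    · exact le_inf le_sup_right (hDV.trans le_sup_left)
  -- cardinalities
  set R := (B ⊔ D) ⊓ (V ⊔ Q) with hR
  have hRnV : R ≤ Subgroup.normalizer (V : Set G) :=
    inf_le_left.trans (sup_le hBnV (hDV.trans Subgroup.le_normalizer))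
  have hcardR : Nat.card R ≤ Nat.card Q * Nat.card D := by
    have h1 := h9_card_sup_mul_card_inf V R hRnV
    have h2 : Nat.card ↥(V ⊔ R) ≤ Nat.card N :=
      Nat.le_of_dvd Nat.card_pos (Subgroup.card_dvd_of_le (sup_le le_sup_left inf_le_right))
    have h3 : Nat.card ↥(V ⊓ R) ≤ Nat.card D := by
      apply Nat.le_of_dvd Nat.card_pos
      apply Subgroup.card_dvd_of_le
      intro x hx
      exact hstep1 ⟨(Subgroup.mem_inf.mp (Subgroup.mem_inf.mp hx).2).1, (Subgroup.mem_inf.mp hx).1⟩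
    have hpos : 0 < Nat.card V := Nat.card_pos
    have h4 : Nat.card V * Nat.card R ≤ Nat.card V * (Nat.card Q * Nat.card D) := by
      rw [← h1]
      calc Nat.card ↥(V ⊔ R) * Nat.card ↥(V ⊓ R) ≤ Nat.card N * Nat.card D :=
            Nat.mul_le_mul h2 h3
        _ = Nat.card V * (Nat.card Q * Nat.card D) := by rw [hcardN]; ring
    exact Nat.le_of_mul_le_mul_left h4 hpos
  have hcardQD : Nat.card ↥(Q ⊔ D) = Nat.card Q * Nat.card D := by
    have hDnQ : D ≤ Subgroup.normalizer (Q : Set G) :=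
      hDC.trans (Subgroup.centralizer_le_normalizer _)
    have h1 := h9_card_sup_mul_card_inf Q D hDnQ
    have hcopQD : (Nat.card Q).Coprime (Nat.card D) :=
      (Nat.Coprime.coprime_dvd_left (Subgroup.card_dvd_of_le hDV) hcop).symm
    have hbot : Q ⊓ D = ⊥ := disjoint_iff.mp (Subgroup.disjoint_of_coprime_natCard hcopQD)
    rw [hbot, Subgroup.card_bot, mul_one] at h1
    exact h1
  have hcardcj : Nat.card ↥(cj w (Q ⊔ D)) = Nat.card ↥(Q ⊔ D) :=
    Subgroup.card_map_of_injective (MulAut.conj w).injective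
  symm
  apply Subgroup.eq_of_le_of_card_ge hle
  rw [hcardcj, hcardQD]
  exact hcardR

end CTX

end Cfsg.Agent.Helper9.FL
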