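import Mathlib
import Cfsg.Agent.Lib.Helper52.FLDefs
import Cfsg.Agent.Lib.Helper52.Coprime
import Cfsg.Agent.Lib.Helper9.WielandtBasic
import Cfsg.Agent.Lib.Helper97.FXDefs

/-!
# FL project (S3822): piece (NILP) `nilpotent_sup` (helper9)
-/

set_option autoImplicit false

namespace Cfsg.Agent.Helper9.FL

open Cfsg.Agent.Helper52.FL Cfsg.Agent.Helper97.FX

variable {G : Type*} [Group G] [Finite G]

section GEN

open Cfsg.Agent.Helper9.Wielandt in
/-- `sylOf F s` normalises `sylOf V s` when `F` normalises the nilpotent `V` -/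
theorem h9_sylOf_le_normalizer (F V : Subgroup G) (hV : Group.IsNilpotent ↥V)
    (hFV : F ≤ Subgroup.normalizer (V : Set G)) (s : ℕ) [Fact s.Prime] :
    sylOf F s ≤ Subgroup.normalizer (sylOf V s : Set G) := by
  intro x hx
  have hxF : x ∈ F := sylOf_le F s hx
  have hxN := hFV hxF
  rw [Subgroup.mem_normalizer_iff]
  intro z
  rw [mem_sylOf_iff hV, mem_sylOf_iff hV]
  constructor
  · rintro ⟨hzV, k, hk⟩
    refine ⟨(Subgroup.mem_normalizer_iff.mp hxN z).mp hzV, k, ?_⟩
    rw [conj_pow, hk, mul_one, mul_inv_cancel]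
  · rintro ⟨hzV, k, hk⟩
    refine ⟨(Subgroup.mem_normalizer_iff.mp hxN z).mpr hzV, k, ?_⟩
    rw [conj_pow] at hk
    have : z ^ s ^ k = x⁻¹ * (x * z ^ s ^ k * x⁻¹) * x := by group
    rw [this, hk]
    group

open Cfsg.Agent.Helper9.Wielandt in
/-- **(NILP)** -/
theorem nilpotent_sup (F V : Subgroup G) (hF : Group.IsNilpotent ↥F) (hV : Group.IsNilpotent ↥V)
    (hFV : F ≤ Subgroup.normalizer (V : Set G))
    (h : ∀ (r s : ℕ), r.Prime → s.Prime → r ≠ s → ∀ x ∈ F, ∀ y ∈ V,
      (∃ i : ℕ, x ^ s ^ i = 1) → (∃ j : ℕ, y ^ r ^ j = 1) → x * y = y * x) :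
    Group.IsNilpotent ↥(F ⊔ V) := by
  classical
  -- index set: the primes dividing `|G|`
  let ι := {s : ℕ // s ∈ (Nat.card G).primeFactors}
  have hprime : ∀ s : ι, Fact (s : ℕ).Prime := fun s => ⟨Nat.prime_of_mem_primeFactors s.2⟩
  let T : ι → Subgroup G := fun s =>
    haveI := hprime s
    sylOf F s ⊔ sylOf V s
  have hT : ∀ s : ι, IsPGroup (s : ℕ) (T s) := by
    intro s
    have := hprime s
    exact IsPGroup.to_sup_of_normal_right' (isPGroup_sylOf F s) (isPGroup_sylOf V s)
      (h9_sylOf_le_normalizer F V hV hFV s)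
  have hTnil : ∀ s : ι, Group.IsNilpotent (T s) := by
    intro s
    have := hprime s
    exact (hT s).isNilpotent
  -- pairwise commuting
  have hcomm : Pairwise fun i j : ι => ∀ x y : G, x ∈ T i → y ∈ T j → Commute x y := by
    intro i j hij x y hx hy
    have := hprime i
    have := hprime j
    have hne : (i : ℕ) ≠ (j : ℕ) := fun e => hij (Subtype.ext e)
    -- generators of `T j` commute with generators of `T i`
    have hbase : ∀ x ∈ (sylOf F i : Set G) ∪ (sylOf V i : Set G),
        ∀ y ∈ (sylOf F j : Set G) ∪ (sylOf V j : Set G), x * y = y * x := by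
      intro x hx y hy
      rcases hx with hx | hx <;> rcases hy with hy | hy
      · exact commute_sylOf hF hne hx hy
      · have hx' := (mem_sylOf_iff hF).mp hx
        have hy' := (mem_sylOf_iff hV).mp hy
        exact h j i (hprime j).out (hprime i).out hne.symm x hx'.1 y hy'.1 hx'.2 hy'.2
      · have hx' := (mem_sylOf_iff hV).mp hx
        have hy' := (mem_sylOf_iff hF).mp hy
        exact (h i j (hprime i).out (hprime j).out hne y hy'.1 x hx'.1 hy'.2 hx'.2).symm
      · exact commute_sylOf hV hne hx hy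
    have hTi : T i = Subgroup.closure ((sylOf F i : Set G) ∪ (sylOf V i : Set G)) := by
      rw [Subgroup.closure_union, Subgroup.closure_eq, Subgroup.closure_eq]
    have hTj : T j = Subgroup.closure ((sylOf F j : Set G) ∪ (sylOf V j : Set G)) := by
      rw [Subgroup.closure_union, Subgroup.closure_eq, Subgroup.closure_eq]
    -- `T j ≤ centralizer (T i)`
    have h1 : T j ≤ Subgroup.centralizer (T i : Set G) := by
      rw [hTj, Subgroup.closure_le]
      intro y hy
      rw [SetLike.mem_coe, Subgroup.mem_centralizer_iff]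
      intro x hx
      have h2 : T i ≤ Subgroup.centralizer ({y} : Set G) := by
        rw [hTi, Subgroup.closure_le]
        intro x hx
        rw [SetLike.mem_coe, Subgroup.mem_centralizer_iff]
        intro y' hy'
        rw [Set.mem_singleton_iff] at hy'
        rw [hy']
        exact (hbase x hx y hy).symm
      have := Subgroup.mem_centralizer_iff.mp (h2 hx) y (Set.mem_singleton y)
      exact this.symm
    exact Subgroup.mem_centralizer_iff.mp (h1 hy) x hx
  -- the product map
  let φ := Subgroup.noncommPiCoprod hcomm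
  have hrange : φ.range = ⨆ i : ι, T i := Subgroup.noncommPiCoprod_range
  have hnilR : Group.IsNilpotent φ.range :=
    Group.nilpotent_of_surjective φ.rangeRestrict φ.rangeRestrict_surjective
  -- `F ⊔ V ≤ range`
  have hcardF : Nat.card F ∣ Nat.card G := Subgroup.card_subgroup_dvd_card F
  have hcardV : Nat.card V ∣ Nat.card G := Subgroup.card_subgroup_dvd_card V
  have hle : F ⊔ V ≤ φ.range := by
    rw [hrange]
    apply sup_le
    · apply le_of_sylOf_le
      intro r hr hrF
      have hmem : r ∈ (Nat.card G).primeFactors :=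
        Nat.mem_primeFactors.mpr ⟨hr.out, hrF.trans hcardF, Nat.card_pos.ne'⟩
      exact le_trans (le_sup_left : sylOf F r ≤ T ⟨r, hmem⟩) (le_iSup T ⟨r, hmem⟩)
    · apply le_of_sylOf_le
      intro r hr hrV
      have hmem : r ∈ (Nat.card G).primeFactors :=
        Nat.mem_primeFactors.mpr ⟨hr.out, hrV.trans hcardV, Nat.card_pos.ne'⟩
      exact le_trans (le_sup_right : sylOf V r ≤ T ⟨r, hmem⟩) (le_iSup T ⟨r, hmem⟩)
  have h3 : Group.IsNilpotent ((F ⊔ V).subgroupOf φ.range) := Subgroup.isNilpotent _
  exact Group.nilpotent_of_mulEquiv (Subgroup.subgroupOfEquivOfLe hle)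

end GEN

end Cfsg.Agent.Helper9.FL
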