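import Mathlib

/-!
# G24 piece (ABS) for S1679 (helper92's server): the diagonal argument.
`T := closure {(x g, y g)} ≤ P × G` has at most `N` elements and projects onto `closure (x '' _)` and
`closure (y '' _)`, both of order exactly `N`; so both projections are bijective.
-/

set_option autoImplicit false

namespace Cfsg.Agent.Helper9.G24

/-- a finite subgroup `T` with at most `N` elements whose image under `f` has exactly `N` elements is
isomorphic to that image. -/
theorem h9_equiv_of_map_card {A B : Type*} [Group A] [Group B] (f : A →* B) (T : Subgroup A)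
    (K : Subgroup B) (hK : T.map f = K) (N : ℕ) [Finite T] (hT : Nat.card T ≤ N)
    (hKN : Nat.card K = N) : Nonempty (↥T ≃* ↥K) := by
  have hsurj : Function.Surjective (f.subgroupMap T) := f.subgroupMap_surjective T
  have hcard : Nat.card ↥(T.map f) = N := by rw [hK]; exact hKN
  have hbij : Function.Bijective (f.subgroupMap T) :=
    hsurj.bijective_of_nat_card_le (by rw [hcard]; exact hT)
  exact ⟨(MulEquiv.ofBijective (f.subgroupMap T) hbij).trans (MulEquiv.subgroupCongr hK)⟩

/-- piece (ABS) -/
theorem iso_of_diagonal {P G : Type*} [Group P] [Group G] (N : ℕ) (hN : 0 < N) (x : ℕ → P) (y : ℕ → G) (m : ℕ)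
    (hfin : Finite ↥(Subgroup.closure ((fun g => ((x g, y g) : P × G)) '' {g | g < m})))
    (hbound : Nat.card ↥(Subgroup.closure ((fun g => ((x g, y g) : P × G)) '' {g | g < m})) ≤ N)
    (hH : Nat.card ↥(Subgroup.closure (x '' {g | g < m})) = N)
    (hS : Nat.card ↥(Subgroup.closure (y '' {g | g < m})) = N) :
    Nonempty (↥(Subgroup.closure (x '' {g | g < m})) ≃* ↥(Subgroup.closure (y '' {g | g < m}))) := by
  have h1 : (Subgroup.closure ((fun g => ((x g, y g) : P × G)) '' {g | g < m})).map
      (MonoidHom.fst P G) = Subgroup.closure (x '' {g | g < m}) := by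
    rw [MonoidHom.map_closure, Set.image_image]
    rfl
  have h2 : (Subgroup.closure ((fun g => ((x g, y g) : P × G)) '' {g | g < m})).map
      (MonoidHom.snd P G) = Subgroup.closure (y '' {g | g < m}) := by
    rw [MonoidHom.map_closure, Set.image_image]
    rfl
  obtain ⟨e1⟩ := h9_equiv_of_map_card (MonoidHom.fst P G) _ _ h1 N hbound hH
  obtain ⟨e2⟩ := h9_equiv_of_map_card (MonoidHom.snd P G) _ _ h2 N hbound hS
  exact ⟨e1.symm.trans e2⟩

end Cfsg.Agent.Helper9.G24
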