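import Mathlib
import Cfsg.Prelude.Def_SolvableStructure

set_option autoImplicit false

namespace Cfsg.Agent.Helper9

open Subgroup

universe u

theorem hasSubgroupOfEveryOrder_of_mulEquiv {A B : Type*} [Group A] [Group B] (e : A ≃* B)
    (h : Cfsg.HasSubgroupOfEveryOrder A) : Cfsg.HasSubgroupOfEveryOrder B := by
  intro d hd
  rw [← Nat.card_congr e.toEquiv] at hd
  obtain ⟨K, hK⟩ := h d hd
  refine ⟨K.map e.toMonoidHom, ?_⟩
  rw [Subgroup.card_map_of_injective e.injective, hK]

/-- subgroup of `G` of every order from the hereditary CLT hypothesis -/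
theorem exists_subgroup_card_of_hered {G : Type*} [Group G]
    (h : ∀ H : Subgroup G, Cfsg.HasSubgroupOfEveryOrder H) (d : ℕ) (hd : d ∣ Nat.card G) :
    ∃ K : Subgroup G, Nat.card K = d := by
  have := hasSubgroupOfEveryOrder_of_mulEquiv (Subgroup.topEquiv (G := G)) (h ⊤)
  exact this d hd

theorem hered_subgroup {G : Type*} [Group G]
    (h : ∀ H : Subgroup G, Cfsg.HasSubgroupOfEveryOrder H) (M : Subgroup G) :
    ∀ H : Subgroup M, Cfsg.HasSubgroupOfEveryOrder H := by
  intro H
  have e := Subgroup.equivMapOfInjective H M.subtype M.subtype_injective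
  exact hasSubgroupOfEveryOrder_of_mulEquiv e.symm (h (H.map M.subtype))

theorem sylow_normal_of_hered_aux : ∀ (n : ℕ) (G : Type u) [Group G] [Finite G],
    Nat.card G = n → (∀ H : Subgroup G, Cfsg.HasSubgroupOfEveryOrder H) →
    ∀ (p : ℕ) [Fact p.Prime], p ∣ Nat.card G → (∀ q : ℕ, q.Prime → q ∣ Nat.card G → q ≤ p) →
    ∀ P : Sylow p G, (P : Subgroup G).Normal := by
  intro n
  induction n using Nat.strong_induction_on with
  | _ n ih =>
    intro G _ _ hcard h p hp hdvd hmax P
    have hpp : p.Prime := hp.out
    have hG1 : Nat.card G ≠ 1 := by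
      intro h1; rw [h1] at hdvd; exact hpp.one_lt.ne' (Nat.dvd_one.mp hdvd)
    set q := (Nat.card G).minFac with hq
    have hqp : q.Prime := Nat.minFac_prime hG1
    have hqd : q ∣ Nat.card G := Nat.minFac_dvd _
    by_cases hqeq : q = p
    · -- G is a p-group
      have hpg : IsPGroup p G := by
        have : ∀ r : ℕ, r.Prime → r ∣ Nat.card G → r = p := by
          intro r hr hrd
          have h1 : q ≤ r := Nat.minFac_le_of_dvd hr.two_le hrd
          have h2 : r ≤ p := hmax r hr hrd
          omega
        have hpow := Nat.eq_prime_pow_of_unique_prime_dvd (Nat.card_pos (α := G)).ne'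
          (fun {r} hr hrd => this r hr hrd)
        exact IsPGroup.of_card hpow
      have : (P : Subgroup G) = ⊤ := by
        have h1 := P.is_maximal' (Q := ⊤) (IsPGroup.of_surjective hpg (Subgroup.topEquiv (G := G)).symm.toMonoidHom (Subgroup.topEquiv (G := G)).symm.surjective) le_top
        exact h1.symm
      rw [this]; infer_instance
    · have hqlt : q < p := lt_of_le_of_ne (hmax q hqp hqd) hqeq
      obtain ⟨m, hm⟩ := hqd
      have hmd : m ∣ Nat.card G := ⟨q, by rw [hm, mul_comm]⟩
      obtain ⟨M, hM⟩ := exists_subgroup_card_of_hered h m hmd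
      have hMidx : M.index = q := by
        have := Subgroup.card_mul_index M
        rw [hM, hm, mul_comm] at this
        have hm0 : 0 < m := by
          rcases Nat.eq_zero_or_pos m with h0 | h0
          · rw [h0, mul_zero] at hm; exact absurd hm (Nat.card_pos (α := G)).ne'
          · exact h0
        exact Nat.eq_of_mul_eq_mul_right hm0 this
      have hMn : M.Normal := Subgroup.normal_of_index_eq_minFac_card hMidx
      have hMlt : Nat.card M < n := by
        rw [← hcard, hM, hm]
        have hm0 : 0 < m := by
          rcases Nat.eq_zero_or_pos m with h0 | h0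
          · rw [h0, mul_zero] at hm; exact absurd hm (Nat.card_pos (α := G)).ne'
          · exact h0
        have := hqp.two_le
        nlinarith
      have hpM : p ∣ Nat.card M := by
        rw [hM]
        have : p ∣ q * m := hm ▸ hdvd
        have hcop : Nat.Coprime p q := (Nat.coprime_primes hpp hqp).mpr (Ne.symm hqeq)
        exact hcop.dvd_of_dvd_mul_left this
      have hmaxM : ∀ r : ℕ, r.Prime → r ∣ Nat.card M → r ≤ p := by
        intro r hr hrd
        exact hmax r hr (hrd.trans (Subgroup.card_subgroup_dvd_card M))
      obtain Q : Sylow p M := default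
      have hQn : (Q : Subgroup M).Normal := ih _ hMlt M rfl (hered_subgroup h M) p hpM hmaxM Q
      have hQc : (Q : Subgroup M).Characteristic := Q.characteristic_of_normal hQn
      have hRn : ((Q : Subgroup M).map M.subtype).Normal := inferInstance
      have hfac : (Nat.card G).factorization p = (Nat.card M).factorization p := by
        rw [hM, hm, Nat.factorization_mul hqp.ne_zero]
        · simp [Nat.factorization_eq_zero_of_not_dvd
            (fun hd => hqeq ((Nat.prime_dvd_prime_iff_eq hpp hqp).mp hd).symm)]
        · rintro rfl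
          rw [mul_zero] at hm; exact (Nat.card_pos (α := G)).ne' hm
      have hRcard : Nat.card ((Q : Subgroup M).map M.subtype) = p ^ (Nat.card G).factorization p := by
        rw [Subgroup.card_map_of_injective M.subtype_injective, Q.card_eq_multiplicity, hfac]
      let R : Sylow p G := Sylow.ofCard _ hRcard
      have hRn' : (R : Subgroup G).Normal := by
        rw [Sylow.coe_ofCard]; exact hRn
      have := Sylow.unique_of_normal R hRn'
      have hPR : P = R := Subsingleton.elim _ _
      rw [hPR]; exact hRn'

theorem sylow_normal_of_hered {G : Type*} [Group G] [Finite G]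
    (h : ∀ H : Subgroup G, Cfsg.HasSubgroupOfEveryOrder H) (p : ℕ) [Fact p.Prime]
    (hdvd : p ∣ Nat.card G) (hmax : ∀ q : ℕ, q.Prime → q ∣ Nat.card G → q ≤ p) (P : Sylow p G) :
    (P : Subgroup G).Normal :=
  sylow_normal_of_hered_aux (Nat.card G) G rfl h p hdvd hmax P

end Cfsg.Agent.Helper9
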