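import Mathlib

/-!
# A Jordan-type kill (helper9)

A finite group acting primitively on `α` and containing an element `x` of prime order `p` whose
fixed point set has `n + 1 = |α| - p` elements (so `x` is a `p`-cycle with at least one fixed point)
is `(n + 2)`-fold transitive (Mathlib's Jordan theorem), hence `|α|! ∣ |G| * p!`.
-/

set_option autoImplicit false

namespace Cfsg.Agent.Helper9.JordanKill

open MulAction SubMulAction
open scoped Nat

theorem jordan_factorial_dvd {G α : Type*} [Group G] [MulAction G α] [Finite G] [Finite α]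
    (hprim : IsPreprimitive G α) (x : G) (p : ℕ) (hp : p.Prime) (hx : orderOf x = p) (n : ℕ)
    (hs : (fixedBy α x).ncard = n + 1) (hα : Nat.card α = n + 1 + p) :
    (Nat.card α)! ∣ Nat.card G * p ! := by
  classical
  set s : Set α := fixedBy α x with hsdef
  have hp2 : 2 ≤ p := hp.two_le
  -- `x` fixes `s` pointwise
  have hxs : ∀ k : ℤ, x ^ k ∈ fixingSubgroup G s := by
    intro k
    rw [mem_fixingSubgroup_iff]
    intro y hy
    have : x ∈ stabilizer G y := hy
    exact (stabilizer G y).zpow_mem this k
  -- the complement of `s` has `p` elements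
  have hcompl : (sᶜ : Set α).ncard = p := by
    have h := Set.ncard_add_ncard_compl s
    rw [hs, hα] at h
    omega
  have hcard : Nat.card ↥(ofFixingSubgroup G s) = p := by
    rw [← hcompl, ← _root_.Nat.card_coe_set_eq]
    rfl
  -- `zpowers x` is transitive on the complement
  have horb : ∀ a : α, a ∉ s → ∀ b : α, b ∉ s → ∃ k : ℤ, x ^ k • a = b := by
    intro a ha b hb
    have hsub : orbit (Subgroup.zpowers x) a ⊆ sᶜ := by
      rintro c ⟨⟨g, k, rfl⟩, rfl⟩
      intro hc
      apply ha
      -- `x • (x^k • a) = x^k • a` implies `x • a = a`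
      have hc' : x • ((x ^ k) • a) = (x ^ k) • a := hc
      show x • a = a
      have h1 : (x ^ k)⁻¹ • (x • ((x ^ k) • a)) = (x ^ k)⁻¹ • ((x ^ k) • a) := by rw [hc']
      rw [inv_smul_smul, ← mul_smul, ← mul_smul, mul_assoc] at h1
      have h2 : (x ^ k)⁻¹ * (x * x ^ k) = x := by
        have : Commute x (x ^ k) := (Commute.refl x).zpow_right k
        rw [this.eq, inv_mul_cancel_left]
      rw [h2] at h1
      exact h1
    have hcz : Nat.card (Subgroup.zpowers x) = p := by rw [Nat.card_zpowers, hx]
    have hdvd : Nat.card (orbit (Subgroup.zpowers x) a) ∣ p := by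
      rw [← hcz, _root_.Nat.card_coe_set_eq, ← MulAction.index_stabilizer]
      exact Subgroup.index_dvd_card _
    have hne1 : Nat.card (orbit (Subgroup.zpowers x) a) ≠ 1 := by
      intro h1
      apply ha
      have hsub1 : Subsingleton (orbit (Subgroup.zpowers x) a) :=
        (Nat.card_eq_one_iff_unique.1 h1).1
      have h2 : (⟨x, Subgroup.mem_zpowers x⟩ : Subgroup.zpowers x) • a ∈
          orbit (Subgroup.zpowers x) a := mem_orbit _ _
      have h3 : a ∈ orbit (Subgroup.zpowers x) a := mem_orbit_self a
      have := Subsingleton.elim (⟨_, h2⟩ : orbit (Subgroup.zpowers x) a) ⟨_, h3⟩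
      exact congrArg Subtype.val this
    have hop : Nat.card (orbit (Subgroup.zpowers x) a) = p := by
      rcases (Nat.dvd_prime hp).1 hdvd with h | h
      · exact absurd h hne1
      · exact h
    have heq : orbit (Subgroup.zpowers x) a = sᶜ := by
      apply Set.eq_of_subset_of_ncard_le hsub _ (Set.toFinite _)
      rw [hcompl, ← hop, _root_.Nat.card_coe_set_eq]
    have hb' : b ∈ orbit (Subgroup.zpowers x) a := by rw [heq]; exact hb
    obtain ⟨⟨g, k, rfl⟩, hk⟩ := hb'
    exact ⟨k, hk⟩
  have hpt : IsPretransitive (fixingSubgroup G s) (ofFixingSubgroup G s) := by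
    refine ⟨?_⟩
    rintro ⟨a, ha⟩ ⟨b, hb⟩
    obtain ⟨k, hk⟩ := horb a ha b hb
    refine ⟨⟨x ^ k, hxs k⟩, ?_⟩
    apply Subtype.ext
    exact hk
  have hprim' : IsPreprimitive (fixingSubgroup G s) (ofFixingSubgroup G s) :=
    IsPreprimitive.of_prime_card (by rw [hcard]; exact hp)
  have hmp : IsMultiplyPreprimitive G α (n + 2) :=
    hprim.isMultiplyPreprimitive hs (by rw [hα]; omega) hprim'
  have hmt : IsMultiplyPretransitive G α (n + 2) := hmp.isMultiplyPretransitive
  have hmt1 : IsMultiplyPretransitive G α (n + 1) :=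
    isMultiplyPretransitive_of_le (n := n + 2) (by omega) (by rw [hα]; omega)
  have hidx := hmt1.index_of_fixingSubgroup_mul hs
  have hsub : Nat.card α - (n + 1) = p := by rw [hα]; omega
  rw [hsub] at hidx
  rw [← hidx]
  exact Nat.mul_dvd_mul_right (Subgroup.index_dvd_card _) _

end Cfsg.Agent.Helper9.JordanKill
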