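import Mathlib
import Cfsg.Agent.Lib.Helper93.MD0
import Cfsg.Agent.Lib.Helper95.MDA
import Cfsg.Agent.Lib.Helper4.MDC
import Cfsg.Agent.Lib.Helper86.MDT3

/-!
MD project (helper93, S2140), piece (T5) core: `card_Bst_eq_of` = `card_Bst_eq` with (T2) `exists_unique_orbit_below`
as an explicit hypothesis `hT2`; all non-fixed points have conjugate stabilisers `Bst u ω`.
-/

set_option autoImplicit false
set_option linter.unusedSectionVars false
set_option linter.style.haveILetI false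

namespace Cfsg.Agent.Helper9.MD

open Module Cfsg.Agent.Helper93.McL Cfsg.Agent.Helper93.MD

variable {F V : Type*} [Field F] [Fintype F] [AddCommGroup V] [Module F V] [FiniteDimensional F V]

section tri

variable {Ω : Type*} [Fintype Ω] [MulAction ↥(SLV F V) Ω] {p : ℕ} [Fact p.Prime] [CharP F p]

/-- conjugating a transvection with centre `u` by `g` fixing `u`. -/
theorem h9_stv_comp {u : V} (g : ↥(SLV F V)) (hgu : (g : V ≃ₗ[F] V) u = u) (φ : Dual F V) :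
    stv u (φ ∘ₗ ((g : V ≃ₗ[F] V) : V →ₗ[F] V)) = g⁻¹ * stv u φ * g := by
  apply Subtype.ext
  have h1 := conj_tv ((g : V ≃ₗ[F] V)⁻¹) u φ
  have h2 : ((g : V ≃ₗ[F] V)⁻¹) u = u := by
    have : ((g : V ≃ₗ[F] V)⁻¹) ((g : V ≃ₗ[F] V) u) = u := by
      show (g : V ≃ₗ[F] V).symm ((g : V ≃ₗ[F] V) u) = u
      simp
    rwa [hgu] at this
  rw [h2, inv_inv] at h1
  have h3 : (((g : V ≃ₗ[F] V)⁻¹).symm : V →ₗ[F] V) = ((g : V ≃ₗ[F] V) : V →ₗ[F] V) := by
    ext x; rfl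
  rw [h3] at h1
  simp only [coe_stv, Subgroup.coe_mul, Subgroup.coe_inv]
  exact h1.symm

theorem h9_mem_Bst_smul {u : V} (g : ↥(SLV F V)) (hgu : (g : V ≃ₗ[F] V) u = u) (ω : Ω)
    (φ : Dual F V) :
    φ ∈ Bst u (g • ω) ↔ (φ ∘ₗ ((g : V ≃ₗ[F] V) : V →ₗ[F] V)) ∈ Bst u ω := by
  rw [mem_Bst, mem_Bst, h9_stv_comp g hgu φ]
  have h1 : (φ ∘ₗ ((g : V ≃ₗ[F] V) : V →ₗ[F] V)) u = φ u := by
    simp [hgu]
  rw [h1, mul_smul, mul_smul, inv_smul_eq_iff]

theorem h9_Bst_stv_smul {u : V} {ψ : Dual F V} (hψ : ψ u = 0) (ω : Ω) :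
    Bst u (stv u ψ • ω) = Bst (F := F) u ω := by
  ext φ
  rw [mem_Bst, mem_Bst]
  constructor
  · rintro ⟨h1, h2⟩
    refine ⟨h1, ?_⟩
    have hc : stv u φ * stv u ψ = stv u ψ * stv u φ := by
      apply Subtype.ext
      simp only [Subgroup.coe_mul, coe_stv]
      rw [tv_mul_axis h1 hψ, tv_mul_axis hψ h1, add_comm]
    rw [← mul_smul, hc, mul_smul] at h2
    exact smul_left_cancel _ h2
  · rintro ⟨h1, h2⟩
    refine ⟨h1, ?_⟩
    have hc : stv u φ * stv u ψ = stv u ψ * stv u φ := by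
      apply Subtype.ext
      simp only [Subgroup.coe_mul, coe_stv]
      rw [tv_mul_axis h1 hψ, tv_mul_axis hψ h1, add_comm]
    rw [← mul_smul, hc, mul_smul, h2]

theorem h9_perp_smul (τ : F →+ ZMod p) {u : V} (g : ↥(SLV F V)) (hgu : (g : V ≃ₗ[F] V) u = u)
    (ω : Ω) {x : V} (hx : x ∈ perp τ (Bst u ω)) :
    (g : V ≃ₗ[F] V) x ∈ perp τ (Bst u (g • ω)) := by
  intro φ hφ
  have h1 := (h9_mem_Bst_smul g hgu ω φ).mp hφ
  exact hx _ h1

theorem h9_card_Bst_smul {u : V} (g : ↥(SLV F V)) (hgu : (g : V ≃ₗ[F] V) u = u) (ω : Ω) :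
    Nat.card ↥(Bst (F := F) u (g • ω)) = Nat.card ↥(Bst (F := F) u ω) := by
  apply Nat.card_congr
  refine
    { toFun := fun φ => ⟨φ.1 ∘ₗ ((g : V ≃ₗ[F] V) : V →ₗ[F] V), (h9_mem_Bst_smul g hgu ω φ.1).mp φ.2⟩
      invFun := fun ψ => ⟨ψ.1 ∘ₗ (((g : V ≃ₗ[F] V).symm : V ≃ₗ[F] V) : V →ₗ[F] V), by
        rw [h9_mem_Bst_smul g hgu ω]
        have : (ψ.1 ∘ₗ (((g : V ≃ₗ[F] V).symm : V ≃ₗ[F] V) : V →ₗ[F] V)) ∘ₗ
            ((g : V ≃ₗ[F] V) : V →ₗ[F] V) = ψ.1 := by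
          ext x; simp
        rw [this]; exact ψ.2⟩
      left_inv := ?_
      right_inv := ?_ }
  · intro φ
    apply Subtype.ext
    ext x
    simp
  · intro ψ
    apply Subtype.ext
    ext x
    simp

/-- a proper subgroup of `PhiA u` has a perp vector outside `F u`. -/
theorem h9_exists_perp_not_span (hn : 3 ≤ finrank F V) {u : V} (hu : u ≠ 0) (τ : F →+ ZMod p)
    (hτ : τ ≠ 0) (B : AddSubgroup (Dual F V)) (hB : B ≤ PhiA u)
    (hne : B ≠ (PhiA u : AddSubgroup (Dual F V))) :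
    ∃ v : V, v ∈ perp τ B ∧ v ∉ Submodule.span F {u} := by
  haveI : Finite V := Module.finite_of_finite F
  haveI : Finite (Dual F V) := Module.finite_of_finite F
  by_contra hcon
  push Not at hcon
  have h3 := Cfsg.Agent.Helper86.MD.card_mul_card_perp hu τ hτ B hB
  have hQ := Cfsg.Agent.Helper4.MD.card_PhiA (F := F) hu
  have hlt : Nat.card ↥B < Fintype.card F ^ (finrank F V - 1) := by
    rw [← hQ]
    apply lt_of_le_of_ne (AddSubgroup.card_le_of_le hB)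
    intro h
    exact hne (AddSubgroup.eq_of_le_of_card_ge hB h.ge)
  have hspan : Nat.card ↥(Submodule.span F {u}) = Fintype.card F := by
    rw [← Nat.card_eq_fintype_card]
    exact (Nat.card_congr (LinearEquiv.toSpanNonzeroSingleton F V u hu).toEquiv).symm
  have hle : Nat.card ↥(perp τ B) ≤ Fintype.card F := by
    rw [← hspan]
    apply Nat.card_le_card_of_injective (fun x : ↥(perp τ B) =>
      (⟨x.1, hcon x.1 x.2⟩ : ↥(Submodule.span F {u})))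
    intro x y hxy
    apply Subtype.ext
    have h5 := congrArg Subtype.val hxy
    exact h5
  have hpow : Fintype.card F ^ finrank F V = Fintype.card F ^ (finrank F V - 1) * Fintype.card F := by
    rw [← pow_succ]
    congr 1
    omega
  have hqpos : 0 < Fintype.card F := Fintype.card_pos
  have : Nat.card ↥B * Nat.card ↥(perp τ B) < Fintype.card F ^ finrank F V := by
    rw [hpow]
    calc Nat.card ↥B * Nat.card ↥(perp τ B) ≤ Nat.card ↥B * Fintype.card F :=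
          Nat.mul_le_mul_left _ hle
      _ < Fintype.card F ^ (finrank F V - 1) * Fintype.card F :=
          Nat.mul_lt_mul_of_pos_right hlt hqpos
  omega

/-- (T5) with (T2) as a hypothesis: all non-fixed points have conjugate stabilisers. -/
theorem card_Bst_eq_of (hn : 3 ≤ finrank F V) {u : V} (hu : u ≠ 0)
    (τ : F →+ ZMod p) (hτ : τ ≠ 0)
    (hT2 : ∀ {v : V}, v ∉ Submodule.span F {u} → ∃ ω₀ : Ω, Bst u ω₀ ≤ Mt τ u v ∧
      ∀ ω : Ω, Bst u ω ≤ Mt τ u v → ∃ φ : Dual F V, φ u = 0 ∧ stv u φ • ω₀ = ω)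
    (ω ω' : Ω) (hω : Bst u ω ≠ (PhiA u : AddSubgroup (Dual F V)))
    (hω' : Bst u ω' ≠ (PhiA u : AddSubgroup (Dual F V))) :
    Nat.card ↥(Bst (F := F) u ω) = Nat.card ↥(Bst (F := F) u ω') ∧
      (perp τ (Bst u ω) = ⊤ ↔ perp τ (Bst u ω') = ⊤) := by
  obtain ⟨v, hvT, hv⟩ := h9_exists_perp_not_span hn hu τ hτ (Bst u ω) (fun φ h => h.1) hω
  obtain ⟨v', hvT', hv'⟩ := h9_exists_perp_not_span hn hu τ hτ (Bst u ω') (fun φ h => h.1) hω'
  obtain ⟨g, hgu, hgv⟩ := Cfsg.Agent.Helper95.MD.exists_sl_fix_map hn hu hv hv'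
  have h1 : Bst u (g • ω) ≤ Mt τ u v' := by
    intro φ hφ
    refine ⟨hφ.1, ?_⟩
    have := h9_perp_smul τ g hgu ω hvT φ hφ
    rwa [hgv] at this
  have h2 : Bst u ω' ≤ Mt τ u v' := fun φ hφ => ⟨hφ.1, hvT' φ hφ⟩
  obtain ⟨ω₀, _, huniq⟩ := hT2 hv'
  obtain ⟨φ1, hφ1, e1⟩ := huniq (g • ω) h1
  obtain ⟨φ2, hφ2, e2⟩ := huniq ω' h2
  have hB : Bst u (g • ω) = Bst (F := F) u ω' := by
    rw [← e1, ← e2, h9_Bst_stv_smul hφ1, h9_Bst_stv_smul hφ2]
  have hginv : ((g⁻¹ : ↥(SLV F V)) : V ≃ₗ[F] V) u = u := by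
    have : ((g : V ≃ₗ[F] V)⁻¹) ((g : V ≃ₗ[F] V) u) = u := by
      show (g : V ≃ₗ[F] V).symm ((g : V ≃ₗ[F] V) u) = u
      simp
    rw [hgu] at this
    simpa using this
  refine ⟨?_, ?_, ?_⟩
  · rw [← hB, h9_card_Bst_smul g hgu]
  · intro h
    ext x
    simp only [AddSubgroup.mem_top, iff_true]
    have hx : ((g⁻¹ : ↥(SLV F V)) : V ≃ₗ[F] V) x ∈ perp τ (Bst u ω) := by rw [h]; trivial
    have := h9_perp_smul τ g hgu ω hx
    rw [hB] at this
    have h4 : (g : V ≃ₗ[F] V) (((g⁻¹ : ↥(SLV F V)) : V ≃ₗ[F] V) x) = x := by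
      show (g : V ≃ₗ[F] V) ((g : V ≃ₗ[F] V).symm x) = x
      simp
    rwa [h4] at this
  · intro h
    ext x
    simp only [AddSubgroup.mem_top, iff_true]
    have hx : (g : V ≃ₗ[F] V) x ∈ perp τ (Bst u (g • ω)) := by rw [hB, h]; trivial
    have := h9_perp_smul τ g⁻¹ hginv (g • ω) hx
    rw [inv_smul_smul] at this
    have h4 : ((g⁻¹ : ↥(SLV F V)) : V ≃ₗ[F] V) ((g : V ≃ₗ[F] V) x) = x := by
      show (g : V ≃ₗ[F] V).symm ((g : V ≃ₗ[F] V) x) = x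
      simp
    rwa [h4] at this

end tri

end Cfsg.Agent.Helper9.MD
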