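import Mathlib
import Cfsg.Agent.Lib.Helper93.MD0
import Cfsg.Agent.Lib.Helper23.MDT2
import Cfsg.Agent.Lib.Helper9.MDT5Core

/-!
MD project (helper93, S2140), piece (T5) `card_Bst_eq` (verbatim), from `card_Bst_eq_of` and (T2).
-/

set_option autoImplicit false
set_option linter.unusedSectionVars false

namespace Cfsg.Agent.Helper9.MD

open Module Cfsg.Agent.Helper93.McL Cfsg.Agent.Helper93.MD

variable {F V : Type*} [Field F] [Fintype F] [AddCommGroup V] [Module F V] [FiniteDimensional F V]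

section tri

variable {Ω : Type*} [Fintype Ω] [MulAction ↥(SLV F V) Ω] {p : ℕ} [Fact p.Prime] [CharP F p]

/-- (T5) all non-fixed points have conjugate stabilisers. -/
theorem card_Bst_eq (hn : 3 ≤ finrank F V) {u : V} (hu : u ≠ 0) (f : ℕ)
    (hf : ∀ φ : Dual F V, φ u = 0 → φ ≠ 0 → fp Ω (stv u φ) = f)
    (hm : Fintype.card Ω = f + Fintype.card F ^ (finrank F V - 1))
    (τ : F →+ ZMod p) (hτ : τ ≠ 0) (ω ω' : Ω) (hω : Bst u ω ≠ (PhiA u : AddSubgroup (Dual F V)))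
    (hω' : Bst u ω' ≠ (PhiA u : AddSubgroup (Dual F V))) :
    Nat.card ↥(Bst (F := F) u ω) = Nat.card ↥(Bst (F := F) u ω') ∧
      (perp τ (Bst u ω) = ⊤ ↔ perp τ (Bst u ω') = ⊤) :=
  card_Bst_eq_of hn hu τ hτ
    (fun hv => Cfsg.Agent.Helper23.MD.exists_unique_orbit_below hn hu f hf hm τ hτ hv)
    ω ω' hω hω'

end tri

end Cfsg.Agent.Helper9.MD
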