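import Mathlib
import Cfsg.Agent.Lib.Helper93.MD0
import Cfsg.Agent.Lib.Helper4.MDC
import Cfsg.Agent.Lib.Helper86.MDT3
import Cfsg.Agent.Lib.Helper9.MDT5Core

/-!
MD project (helper93, S2140), piece (T6) core: `trichotomy_of` = `trichotomy` with (T2) `exists_unique_orbit_below`
and (T4) `perp_structure` as explicit hypotheses `hT2`, `hT4` (for all `p`, `τ`).
-/

set_option autoImplicit false
set_option linter.unusedSectionVars false
set_option linter.style.haveILetI false

namespace Cfsg.Agent.Helper9.MD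

open Module Cfsg.Agent.Helper93.McL Cfsg.Agent.Helper93.MD

variable {F V : Type*} [Field F] [Fintype F] [AddCommGroup V] [Module F V] [FiniteDimensional F V]

/-- the span of a nonzero vector has `q` elements. -/
theorem h9_card_span_singleton {u : V} (hu : u ≠ 0) :
    Nat.card ↥(Submodule.span F {u}) = Fintype.card F := by
  rw [← Nat.card_eq_fintype_card]
  exact (Nat.card_congr (LinearEquiv.toSpanNonzeroSingleton F V u hu).toEquiv).symm

/-- the span of two vectors has at most `q^2` elements. -/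
theorem h9_card_span_pair_le (u v : V) :
    Nat.card ↥(Submodule.span F {u, v}) ≤ Fintype.card F ^ 2 := by
  haveI : Finite V := Module.finite_of_finite F
  have h1 : Nat.card (F × F) = Fintype.card F ^ 2 := by
    rw [Nat.card_prod, Nat.card_eq_fintype_card, pow_two]
  rw [← h1]
  apply Nat.card_le_card_of_surjective (fun ab : F × F =>
    (⟨ab.1 • u + ab.2 • v, Submodule.mem_span_pair.mpr ⟨ab.1, ab.2, rfl⟩⟩ :
      ↥(Submodule.span F {u, v})))
  rintro ⟨x, hx⟩
  obtain ⟨a, b, rfl⟩ := Submodule.mem_span_pair.mp hx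
  exact ⟨(a, b), rfl⟩

/-- `V` has `q^n` elements. -/
theorem h9_card_V : Nat.card V = Fintype.card F ^ finrank F V := by
  haveI : Finite V := Module.finite_of_finite F
  letI : Fintype V := Fintype.ofFinite V
  rw [Nat.card_eq_fintype_card]
  exact Module.card_eq_pow_finrank

section tri

variable {p : ℕ} [Fact p.Prime] [CharP F p]

/-- `F u ⊆ perp τ B` and hence `q ∣ |perp τ B|`, for `B ≤ PhiA u`. -/
theorem h9_card_dvd_perp {u : V} (hu : u ≠ 0) (τ : F →+ ZMod p) (B : AddSubgroup (Dual F V))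
    (hB : B ≤ PhiA u) : Fintype.card F ∣ Nat.card ↥(perp τ B) := by
  haveI : Finite V := Module.finite_of_finite F
  have hle : (Submodule.span F {u}).toAddSubgroup ≤ perp τ B := by
    intro x hx φ hφ
    obtain ⟨a, rfl⟩ := Submodule.mem_span_singleton.mp hx
    have : φ u = 0 := hB hφ
    simp [this]
  have h := AddSubgroup.card_dvd_of_le hle
  have h2 : Nat.card ↥(Submodule.span F {u}).toAddSubgroup = Fintype.card F :=
    h9_card_span_singleton hu
  rwa [h2] at h

/-- if `perp τ B ⊆ span {u, v}` has `q^2` elements then it contains `F v`. -/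
theorem h9_smul_mem_perp {u v : V} (τ : F →+ ZMod p) (B : AddSubgroup (Dual F V))
    (hsub : ∀ x ∈ perp τ B, x ∈ Submodule.span F {u, v})
    (hcard : Nat.card ↥(perp τ B) = Fintype.card F ^ 2) :
    ∀ x ∈ Submodule.span F {u, v}, x ∈ perp τ B := by
  haveI : Finite V := Module.finite_of_finite F
  let ι : ↥(perp τ B) → ↥(Submodule.span F {u, v}) := fun x => ⟨x.1, hsub x.1 x.2⟩
  have hinj : Function.Injective ι := by
    intro x y hxy
    apply Subtype.ext
    have h5 := congrArg Subtype.val hxy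
    exact h5
  have hbij : Function.Bijective ι := by
    apply Function.Injective.bijective_of_nat_card_le hinj
    rw [hcard]
    exact h9_card_span_pair_le u v
  intro x hx
  obtain ⟨y, hy⟩ := hbij.2 ⟨x, hx⟩
  have h5 : y.1 = x := congrArg Subtype.val hy
  rw [← h5]
  exact y.2

end tri

/-- (T6) THE TRICHOTOMY, with (T2) and (T4) as hypotheses. -/
theorem trichotomy_of {Ω : Type*} [Fintype Ω] [MulAction ↥(SLV F V) Ω] (hn : 3 ≤ finrank F V) {u : V}
    (hu : u ≠ 0) (f : ℕ) (hf : ∀ φ : Dual F V, φ u = 0 → φ ≠ 0 → fp Ω (stv u φ) = f)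
    (hm : Fintype.card Ω = f + Fintype.card F ^ (finrank F V - 1))
    (hT2 : ∀ (p : ℕ) [Fact p.Prime] [CharP F p] (τ : F →+ ZMod p), τ ≠ 0 →
      ∀ {v : V}, v ∉ Submodule.span F {u} → ∃ ω₀ : Ω, Bst u ω₀ ≤ Mt τ u v ∧
        ∀ ω : Ω, Bst u ω ≤ Mt τ u v → ∃ φ : Dual F V, φ u = 0 ∧ stv u φ • ω₀ = ω)
    (hT4 : ∀ (p : ℕ) [Fact p.Prime] [CharP F p] (τ : F →+ ZMod p), τ ≠ 0 →
      ∀ ω : Ω, Bst u ω ≠ (PhiA u : AddSubgroup (Dual F V)) →
        (∃ v : V, v ∉ Submodule.span F {u} ∧
          ∀ x ∈ perp τ (Bst u ω), x ∈ Submodule.span F {u, v}) ∨ perp τ (Bst u ω) = ⊤) :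
    (Fintype.card F ^ (finrank F V - 1) - 1 ≤ (Fintype.card F - 1) * f) ∨
    (∀ ω : Ω, ∃ v : V, v ∉ Submodule.span F {u} ∧
        ∀ φ : Dual F V, φ u = 0 → (stv u φ • ω = ω ↔ φ v = 0)) ∨
    (∀ ω : Ω, (∀ φ : Dual F V, φ u = 0 → stv u φ • ω = ω) ∨
        (∀ φ : Dual F V, φ u = 0 → stv u φ • ω = ω → φ = 0)) := by
  classical
  haveI : Finite V := Module.finite_of_finite F
  haveI : Finite (Dual F V) := Module.finite_of_finite F
  obtain ⟨p, hp⟩ := CharP.exists F
  haveI := hp
  haveI : Fact p.Prime := ⟨CharP.char_is_prime F p⟩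
  obtain ⟨τ, hτ⟩ := Cfsg.Agent.Helper86.MD.exists_tau (F := F) (p := p)
  -- notation
  have hq2 : 2 ≤ Fintype.card F := Fintype.one_lt_card
  have hQ2 : Fintype.card F ^ 2 ≤ Fintype.card F ^ (finrank F V - 1) :=
    Nat.pow_le_pow_right (by omega) (by omega)
  have hpow : Fintype.card F ^ finrank F V =
      Fintype.card F * Fintype.card F ^ (finrank F V - 1) := by
    rw [← pow_succ']
    congr 1
    omega
  have hPhi := Cfsg.Agent.Helper4.MD.card_PhiA (F := F) hu
  have hBle : ∀ ω : Ω, Bst (F := F) u ω ≤ PhiA u := fun ω φ h => h.1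
  -- is every point fixed by all of `E_u` ?
  by_cases hall : ∀ ω : Ω, Bst (F := F) u ω = PhiA u
  · right; right
    intro ω
    left
    intro φ hφ
    have : φ ∈ Bst u ω := by rw [hall ω]; exact hφ
    exact this.2
  push Not at hall
  obtain ⟨ω₁, hω₁⟩ := hall
  -- the type of the non-fixed points
  by_cases htop : perp τ (Bst u ω₁) = ⊤
  · -- alternative (II)
    right; right
    intro ω
    by_cases hω : Bst (F := F) u ω = PhiA u
    · left
      intro φ hφ
      have : φ ∈ Bst u ω := by rw [hω]; exact hφ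
      exact this.2
    · right
      intro φ hφ hfix
      have h5 := (card_Bst_eq_of hn hu τ hτ (hT2 p τ hτ) ω₁ ω hω₁ hω).2.mp htop
      have h3 := Cfsg.Agent.Helper86.MD.card_mul_card_perp hu τ hτ (Bst u ω) (hBle ω)
      rw [h5, AddSubgroup.card_top, h9_card_V (F := F) (V := V)] at h3
      have hpos : 0 < Fintype.card F ^ finrank F V := by positivity
      have h1 : Nat.card ↥(Bst (F := F) u ω) = 1 := by
        have := Nat.eq_of_mul_eq_mul_right hpos (by rw [h3, one_mul] :
          Nat.card ↥(Bst (F := F) u ω) * Fintype.card F ^ finrank F V =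
            1 * Fintype.card F ^ finrank F V)
        exact this
      have hbot := AddSubgroup.eq_bot_of_card_eq _ h1
      have hmem : φ ∈ Bst u ω := ⟨hφ, hfix⟩
      rw [hbot] at hmem
      exact (AddSubgroup.mem_bot).mp hmem
  -- the non-⊤ type
  have hT4 : ∀ ω : Ω, Bst (F := F) u ω ≠ PhiA u →
      ∃ v : V, v ∉ Submodule.span F {u} ∧ ∀ x ∈ perp τ (Bst u ω), x ∈ Submodule.span F {u, v} := by
    intro ω hω
    rcases hT4 p τ hτ ω hω with h | h
    · exact h
    · exact absurd ((card_Bst_eq_of hn hu τ hτ (hT2 p τ hτ) ω₁ ω hω₁ hω).2.mpr h) htop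
  -- cardinalities
  set q := Fintype.card F with hqdef
  set Q := q ^ (finrank F V - 1) with hQdef
  set b := Nat.card ↥(Bst (F := F) u ω₁) with hbdef
  have hb : ∀ ω : Ω, Bst (F := F) u ω ≠ PhiA u → Nat.card ↥(Bst (F := F) u ω) = b :=
    fun ω hω => ((card_Bst_eq_of hn hu τ hτ (hT2 p τ hτ) ω₁ ω hω₁ hω).1).symm
  have h3 : ∀ ω : Ω, Nat.card ↥(Bst (F := F) u ω) * Nat.card ↥(perp τ (Bst u ω)) = q * Q := by
    intro ω
    rw [← hpow]
    exact Cfsg.Agent.Helper86.MD.card_mul_card_perp hu τ hτ (Bst u ω) (hBle ω)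
  obtain ⟨s, hs⟩ := h9_card_dvd_perp hu τ (Bst u ω₁) (hBle ω₁)
  have hbs : b * s = Q := by
    have h := h3 ω₁
    rw [hs] at h
    have hqpos : 0 < q := by omega
    have : q * (b * s) = q * Q := by rw [← h]; ring
    exact Nat.eq_of_mul_eq_mul_left hqpos this
  have hbpos : 0 < b := Nat.card_pos
  have hbQ : b < Q := by
    rw [← hPhi]
    apply lt_of_le_of_ne (AddSubgroup.card_le_of_le (hBle ω₁))
    intro h
    exact hω₁ (AddSubgroup.eq_of_le_of_card_ge (hBle ω₁) h.ge)
  have hs1 : 1 < s := by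
    by_contra hle
    have : s ≤ 1 := by omega
    have : b * s ≤ b * 1 := Nat.mul_le_mul_left _ this
    omega
  have hsq : s ≤ q := by
    obtain ⟨v₁, _, hv₁⟩ := hT4 ω₁ hω₁
    have h1 : Nat.card ↥(perp τ (Bst u ω₁)) ≤ q ^ 2 := by
      refine le_trans ?_ (h9_card_span_pair_le u v₁)
      apply Nat.card_le_card_of_injective (fun x : ↥(perp τ (Bst u ω₁)) =>
        (⟨x.1, hv₁ x.1 x.2⟩ : ↥(Submodule.span F {u, v₁})))
      intro x y hxy
      apply Subtype.ext
      have h5 := congrArg Subtype.val hxy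
      exact h5
    rw [hs, pow_two] at h1
    exact Nat.le_of_mul_le_mul_left h1 (by omega)
  -- the counting identity
  have hT1 := Cfsg.Agent.Helper4.MD.sum_card_inf_Bst (Ω := Ω) hu f hf (PhiA u) le_rfl
  rw [hPhi] at hT1
  have hsum : ∑ ω : Ω, Nat.card ↥((PhiA u : AddSubgroup (Dual F V)) ⊓ Bst u ω) =
      ∑ ω : Ω, (if Bst (F := F) u ω = PhiA u then Q else b) := by
    apply Finset.sum_congr rfl
    intro ω _
    rw [inf_of_le_right (hBle ω)]
    split_ifs with h
    · rw [h]; exact hPhi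
    · exact hb ω h
  rw [hsum, Finset.sum_ite, Finset.sum_const, Finset.sum_const, smul_eq_mul, smul_eq_mul] at hT1
  set a := (Finset.univ.filter (fun ω : Ω => Bst (F := F) u ω = PhiA u)).card with hadef
  set a' := (Finset.univ.filter (fun ω : Ω => ¬ Bst (F := F) u ω = PhiA u)).card with ha'def
  have haa : a + a' = f + Q := by
    rw [← hm, ← Finset.card_univ (α := Ω)]
    exact Finset.card_filter_add_card_filter_not _
  -- Eq*: a s + f + Q = (1 + f) s + a   (over ℤ)
  have hQpos : 0 < Q := by positivity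
  have hEq : (a : ℤ) * s + f + Q = (1 + f) * s + a := by
    have h1 : (a : ℤ) * Q + a' * b = (f + Q : ℤ) + (Q - 1) * f := by
      have : ((a * Q + a' * b : ℕ) : ℤ) = ((f + Q + (Q - 1) * f : ℕ) : ℤ) := by
        rw [hT1, hm]
      push_cast [Nat.cast_sub hQpos] at this
      linarith
    have h2 : (a' : ℤ) = f + Q - a := by
      have : ((a + a' : ℕ) : ℤ) = ((f + Q : ℕ) : ℤ) := by rw [haa]
      push_cast at this
      linarith
    have h4 : (b : ℤ) * s = Q := by exact_mod_cast hbs
    have h5 : (Q : ℤ) * ((a : ℤ) * s + f + Q) = Q * ((1 + f) * s + a) := by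
      have h6 : ((a : ℤ) * Q + a' * b) * s = ((f + Q : ℤ) + (Q - 1) * f) * s := by rw [h1]
      rw [h2] at h6
      have h7 : ((a : ℤ) * Q + (f + Q - a) * b) * s = a * Q * s + (f + Q - a) * (b * s) := by ring
      rw [h7, h4] at h6
      linarith
    have hQne : (Q : ℤ) ≠ 0 := by exact_mod_cast hQpos.ne'
    exact mul_left_cancel₀ hQne h5
  -- now the cases
  rcases Nat.lt_or_ge s q with hslt | hsge
  · -- s < q : the bound
    left
    have hgoal : (Q : ℤ) - 1 ≤ ((q : ℤ) - 1) * f := by
      have hs1' : (1 : ℤ) < s := by exact_mod_cast hs1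
      have hsq' : (s : ℤ) ≤ q - 1 := by
        have : s + 1 ≤ q := hslt
        have : ((s + 1 : ℕ) : ℤ) ≤ (q : ℤ) := by exact_mod_cast this
        push_cast at this; linarith
      have hq2' : (2 : ℤ) ≤ q := by exact_mod_cast hq2
      have hQ2' : (q : ℤ) ^ 2 ≤ Q := by exact_mod_cast hQ2
      have ha0 : (0 : ℤ) ≤ a := Int.natCast_nonneg a
      have hf0 : (0 : ℤ) ≤ f := Int.natCast_nonneg f
      -- (s-1) f = Q - s + (s-1) a
      have hE2 : ((s : ℤ) - 1) * f = Q - s + (s - 1) * a := by linarith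
      -- (s-1) * X ≥ 0
      have hX : 0 ≤ ((s : ℤ) - 1) * (((q : ℤ) - 1) * f - (Q - 1)) := by
        have e1 : ((s : ℤ) - 1) * (((q : ℤ) - 1) * f - (Q - 1)) =
            (q - 1) * (((s : ℤ) - 1) * f) - (s - 1) * (Q - 1) := by ring
        rw [e1, hE2]
        have e2 : ((q : ℤ) - 1) * (Q - s + (s - 1) * a) - (s - 1) * (Q - 1) =
            Q * (q - s) - s * (q - 2) - 1 + (q - 1) * (s - 1) * a := by ring
        rw [e2]
        have hQ0 : (0 : ℤ) ≤ Q := Int.natCast_nonneg Q
        have k1 : (Q : ℤ) ≤ Q * (q - s) :=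
          le_mul_of_one_le_right hQ0 (by linarith only [hsq'])
        have k2 : (s : ℤ) * (q - 2) ≤ (q - 1) * (q - 2) :=
          mul_le_mul_of_nonneg_right hsq' (by linarith only [hq2'])
        have k3 : 0 ≤ ((q : ℤ) - 1) * (s - 1) * a := by
          apply mul_nonneg (mul_nonneg (by linarith only [hq2']) (by linarith only [hs1'])) ha0
        have e3 : ((q : ℤ) - 1) * (q - 2) = q ^ 2 - 3 * q + 2 := by ring
        linarith only [k1, k2, k3, e3, hQ2', hq2']
      have hpos : (0 : ℤ) < (s : ℤ) - 1 := by linarith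
      have := nonneg_of_mul_nonneg_right hX hpos
      linarith
    have hq1 : 1 ≤ q := by omega
    have : ((Q - 1 : ℕ) : ℤ) ≤ (((q - 1) * f : ℕ) : ℤ) := by
      push_cast [Nat.cast_sub hQpos, Nat.cast_sub hq1]
      exact hgoal
    exact_mod_cast this
  · have hseq : s = q := le_antisymm hsq hsge
    rw [hseq] at hEq hbs
    rcases Nat.eq_zero_or_pos a with ha0 | hapos
    · -- alternative (I)
      right; left
      have hallne : ∀ ω : Ω, Bst (F := F) u ω ≠ PhiA u := by
        intro ω hω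
        have : ω ∈ Finset.univ.filter (fun ω : Ω => Bst (F := F) u ω = PhiA u) := by
          simp [hω]
        rw [Finset.card_eq_zero.mp ha0] at this
        exact absurd this (Finset.notMem_empty ω)
      intro ω
      have hω := hallne ω
      obtain ⟨v, hv, hvT⟩ := hT4 ω hω
      refine ⟨v, hv, ?_⟩
      -- |T_ω| = q^2
      have hcardT : Nat.card ↥(perp τ (Bst u ω)) = q ^ 2 := by
        have h := h3 ω
        rw [hb ω hω, ← hbs] at h
        have : b * Nat.card ↥(perp τ (Bst u ω)) = b * (q ^ 2) := by rw [h]; ring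
        exact Nat.eq_of_mul_eq_mul_left hbpos this
      have hTfull := h9_smul_mem_perp τ (Bst u ω) hvT hcardT
      -- B_ω ≤ N
      have hBN : Bst (F := F) u ω ≤ PhiA u ⊓ PhiA v := by
        intro φ hφ
        refine ⟨hφ.1, ?_⟩
        show φ v = 0
        by_contra hne
        apply hτ
        ext c
        have hmem : (c / φ v) • v ∈ perp τ (Bst u ω) :=
          hTfull _ (Submodule.mem_span_pair.mpr ⟨0, c / φ v, by simp⟩)
        have := hmem φ hφ
        rw [map_smul, smul_eq_mul, div_mul_cancel₀ _ hne] at this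
        simpa using this
      -- |N| ≤ b
      have hNle : PhiA u ⊓ PhiA v ≤ (PhiA u : AddSubgroup (Dual F V)) := inf_le_left
      have hN3 := Cfsg.Agent.Helper86.MD.card_mul_card_perp hu τ hτ
        ((PhiA u ⊓ PhiA v : AddSubgroup (Dual F V))) hNle
      have hperpN : Nat.card ↥(perp τ (Bst u ω)) ≤
          Nat.card ↥(perp τ (PhiA u ⊓ PhiA v : AddSubgroup (Dual F V))) := by
        apply AddSubgroup.card_le_of_le
        intro x hx φ hφ
        obtain ⟨α, β, rfl⟩ := Submodule.mem_span_pair.mp (hvT x hx)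
        have h1 : φ u = 0 := hφ.1
        have h2 : φ v = 0 := hφ.2
        simp [h1, h2]
      have hNcard : Nat.card ↥(PhiA u ⊓ PhiA v : AddSubgroup (Dual F V)) ≤ b := by
        rw [hpow, ← hbs] at hN3
        rw [hcardT] at hperpN
        -- |N| * |perp N| = q * (b * q), |perp N| ≥ q^2
        by_contra hlt
        push Not at hlt
        have : q * (b * q) < Nat.card ↥(PhiA u ⊓ PhiA v : AddSubgroup (Dual F V)) *
            Nat.card ↥(perp τ (PhiA u ⊓ PhiA v : AddSubgroup (Dual F V))) := by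
          calc q * (b * q) = b * q ^ 2 := by ring
            _ < Nat.card ↥(PhiA u ⊓ PhiA v : AddSubgroup (Dual F V)) * q ^ 2 :=
                Nat.mul_lt_mul_of_pos_right hlt (by positivity)
            _ ≤ _ := Nat.mul_le_mul_left _ hperpN
        omega
      have hBeq : Bst (F := F) u ω = PhiA u ⊓ PhiA v :=
        AddSubgroup.eq_of_le_of_card_ge hBN (by rw [hb ω hω]; exact hNcard)
      intro φ hφ
      constructor
      · intro hfix
        have : φ ∈ Bst u ω := ⟨hφ, hfix⟩
        rw [hBeq] at this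
        exact this.2
      · intro hφv
        have : φ ∈ Bst u ω := by rw [hBeq]; exact ⟨hφ, hφv⟩
        exact this.2
    · -- a ≥ 1 : the bound
      left
      have hgoal : (Q : ℤ) - 1 ≤ ((q : ℤ) - 1) * f := by
        have ha1 : (1 : ℤ) ≤ a := by exact_mod_cast hapos
        have hq2' : (2 : ℤ) ≤ q := by exact_mod_cast hq2
        have k : ((q : ℤ) - 1) * 1 ≤ (q - 1) * a :=
          mul_le_mul_of_nonneg_left ha1 (by linarith only [hq2'])
        have hEq' : (a : ℤ) * q + f + Q = (1 + f) * q + a := hEq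
        linarith only [k, hEq']
      have hq1 : 1 ≤ q := by omega
      have : ((Q - 1 : ℕ) : ℤ) ≤ (((q - 1) * f : ℕ) : ℤ) := by
        push_cast [Nat.cast_sub hQpos, Nat.cast_sub hq1]
        exact hgoal
      exact_mod_cast this

end Cfsg.Agent.Helper9.MD
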