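import Mathlib
import Cfsg.Agent.Lib.Helper93.MD0
import Cfsg.Agent.Lib.Helper23.MDT2
import Cfsg.Agent.Lib.Helper16.MDT4
import Cfsg.Agent.Lib.Helper9.MDT6Core

/-!
MD project (helper93, S2140), piece (T6) `trichotomy` (verbatim), from `trichotomy_of`, (T2), (T4).
-/

set_option autoImplicit false
set_option linter.unusedSectionVars false

namespace Cfsg.Agent.Helper9.MD

open Module Cfsg.Agent.Helper93.McL Cfsg.Agent.Helper93.MD

variable {F V : Type*} [Field F] [Fintype F] [AddCommGroup V] [Module F V] [FiniteDimensional F V]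

/-- (T6) THE TRICHOTOMY. -/
theorem trichotomy {Ω : Type*} [Fintype Ω] [MulAction ↥(SLV F V) Ω] (hn : 3 ≤ finrank F V) {u : V}
    (hu : u ≠ 0) (f : ℕ) (hf : ∀ φ : Dual F V, φ u = 0 → φ ≠ 0 → fp Ω (stv u φ) = f)
    (hm : Fintype.card Ω = f + Fintype.card F ^ (finrank F V - 1)) :
    (Fintype.card F ^ (finrank F V - 1) - 1 ≤ (Fintype.card F - 1) * f) ∨
    (∀ ω : Ω, ∃ v : V, v ∉ Submodule.span F {u} ∧
        ∀ φ : Dual F V, φ u = 0 → (stv u φ • ω = ω ↔ φ v = 0)) ∨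
    (∀ ω : Ω, (∀ φ : Dual F V, φ u = 0 → stv u φ • ω = ω) ∨
        (∀ φ : Dual F V, φ u = 0 → stv u φ • ω = ω → φ = 0)) :=
  trichotomy_of hn hu f hf hm
    (fun p _ _ τ hτ _ hv =>
      Cfsg.Agent.Helper23.MD.exists_unique_orbit_below hn hu f hf hm τ hτ hv)
    (fun p _ _ τ hτ ω hω => Cfsg.Agent.Helper16.MD.perp_structure hn hu f hf hm τ hτ ω hω)

end Cfsg.Agent.Helper9.MD
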