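import Mathlib
import Cfsg.Agent.Lib.Helper9.SubnormalJoin

set_option autoImplicit false

namespace Cfsg.Agent.Helper9

open Subgroup Pointwise

theorem isSubnormal_sSup_of_finite {G : Type*} [Group G] [Finite G] (T : Set (Subgroup G))
    (hT : ∀ U ∈ T, U.IsSubnormal) : (sSup T).IsSubnormal := by
  have hfin : T.Finite := Set.toFinite T
  induction T, hfin using Set.Finite.induction_on with
  | empty => rw [sSup_empty]; exact IsSubnormal.bot
  | insert _ _ ih =>
    rename_i a s _ _
    rw [sSup_insert]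
    exact isSubnormal_sup _ _ (hT a (Set.mem_insert a s))
      (ih (fun U hU => hT U (Set.mem_insert_of_mem a hU)))

theorem conj_smul_sSup_le {G : Type*} [Group G] (x : G) (T : Set (Subgroup G)) (W : Subgroup G)
    (h : ∀ Y ∈ T, MulAut.conj x • Y ≤ W) : MulAut.conj x • sSup T ≤ W := by
  rw [Subgroup.pointwise_smul_subset_iff]
  apply sSup_le
  intro Y hY
  rw [← Subgroup.pointwise_smul_subset_iff]
  exact h Y hY

theorem mem_normalizer_of_conj_smul_le {G : Type*} [Group G] (x : G) (W : Subgroup G)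
    (h1 : MulAut.conj x • W ≤ W) (h2 : MulAut.conj x⁻¹ • W ≤ W) :
    x ∈ normalizer (W : Set G) := by
  rw [mem_normalizer_iff]
  intro w
  constructor
  · intro hw
    apply h1
    exact ⟨w, hw, by simp [MulAut.conj_apply]⟩
  · intro hw
    have := h2 ⟨x * w * x⁻¹, hw, rfl⟩
    simpa [MulAut.smul_def, MulAut.conj_apply, mul_assoc] using this

/-- A conjugation-closed family `S` of subnormal subgroups, `S₀ ⊂ S`: some member of `S` outside
`S₀` normalizes the join of `S₀`. -/
theorem exists_mem_normalizing_sSup {G : Type*} [Group G] [Finite G] (S S₀ : Set (Subgroup G))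
    (hS : ∀ U ∈ S, U.IsSubnormal) (hconj : ∀ U ∈ S, ∀ g : G, MulAut.conj g • U ∈ S)
    (h₀ : S₀ ⊂ S) :
    ∃ X ∈ S, X ∉ S₀ ∧ X ≤ Subgroup.normalizer ((sSup S₀ : Subgroup G) : Set G) := by
  set W := sSup S₀ with hW
  have hWsub : W.IsSubnormal := isSubnormal_sSup_of_finite S₀ (fun U hU => hS U (h₀.subset hU))
  have main : ∀ H : Subgroup G, H.IsSubnormal → W ≤ H → (∀ Y ∈ S, Y ≤ H → Y ∈ S₀) →
      ∃ X ∈ S, X ∉ S₀ ∧ X ≤ Subgroup.normalizer (W : Set G) := by
    intro H hH
    induction hH with
    | top =>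
      intro _ hall
      exfalso
      obtain ⟨Y, hYS, hYn⟩ := Set.exists_of_ssubset h₀
      exact hYn (hall Y hYS le_top)
    | step H K hHK hK hN ih =>
      intro hWH hall
      by_cases hK' : ∀ Y ∈ S, Y ≤ K → Y ∈ S₀
      · exact ih (hWH.trans hHK) hK'
      · push Not at hK'
        obtain ⟨X, hXS, hXK, hXn⟩ := hK'
        refine ⟨X, hXS, hXn, ?_⟩
        have hKN : K ≤ normalizer (H : Set G) := by
          rwa [normal_subgroupOf_iff_le_normalizer hHK] at hN
        have key : ∀ x ∈ X, MulAut.conj x • W ≤ W := by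
          intro x hx
          apply conj_smul_sSup_le
          intro Y hY
          have hYS : Y ∈ S := h₀.subset hY
          have h1 : MulAut.conj x • Y ∈ S := hconj Y hYS x
          have hYH : Y ≤ H := (le_sSup hY).trans hWH
          have h2 : MulAut.conj x • Y ≤ H := by
            have hxN : x ∈ normalizer (H : Set G) := hKN (hXK hx)
            rintro _ ⟨y, hy, rfl⟩
            exact (mem_normalizer_iff.mp hxN y).mp (hYH hy)
          exact le_sSup (hall _ h1 h2)
        intro x hx
        exact mem_normalizer_of_conj_smul_le x W (key x hx) (key x⁻¹ (X.inv_mem hx))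
  by_cases hWall : ∀ Y ∈ S, Y ≤ W → Y ∈ S₀
  · exact main W hWsub le_rfl hWall
  · push Not at hWall
    obtain ⟨X, hXS, hXW, hXn⟩ := hWall
    exact ⟨X, hXS, hXn, hXW.trans le_normalizer⟩

end Cfsg.Agent.Helper9
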