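import Mathlib
import Cfsg.Agent.Lib.Helper9.SubnormalFamily
import Cfsg.Agent.Lib.Helper1.Basic

set_option autoImplicit false

namespace Cfsg.Agent.Helper9

open Subgroup Pointwise Cfsg.Agent.Helper1

/-- in a finite nilpotent group every subgroup is subnormal -/
theorem isSubnormal_of_isNilpotent {G : Type*} [Group G] [Finite G] [Group.IsNilpotent G]
    (H : Subgroup G) : H.IsSubnormal := by
  induction H using WellFoundedGT.induction with
  | ind H ih =>
    by_cases hH : H = ⊤
    · rw [hH]; exact IsSubnormal.top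
    · have hlt : H < normalizer (H : Set G) :=
        Group.normalizerCondition_of_isNilpotent H (lt_top_iff_ne_top.mpr hH)
      exact IsSubnormal.step H _ hlt.le (ih _ hlt) (normal_subgroupOf_of_le_normalizer le_rfl)

theorem conj_smul_normalizer {G : Type*} [Group G] (y : G) (R : Subgroup G) :
    MulAut.conj y • normalizer (R : Set G) = normalizer ((MulAut.conj y • R : Subgroup G) : Set G) := by
  ext x
  rw [mem_conj_smul, mem_normalizer_iff, mem_normalizer_iff]
  constructor
  · intro h w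
    rw [mem_conj_smul, mem_conj_smul]
    have := h (y⁻¹ * w * y)
    rw [this]
    have e : y⁻¹ * x * y * (y⁻¹ * w * y) * (y⁻¹ * x * y)⁻¹ = y⁻¹ * (x * w * x⁻¹) * y := by group
    rw [e]
  · intro h w
    have := h (y * w * y⁻¹)
    rw [mem_conj_smul, mem_conj_smul] at this
    have e1 : y⁻¹ * (y * w * y⁻¹) * y = w := by group
    have e2 : y⁻¹ * (x * (y * w * y⁻¹) * x⁻¹) * y = y⁻¹ * x * y * w * (y⁻¹ * x * y)⁻¹ := by group
    rw [e1, e2] at this
    exact this

theorem conj_smul_eq_of_mem_normalizer' {G : Type*} [Group G] {g : G} {H : Subgroup G}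
    (hg : g ∈ normalizer (H : Set G)) : MulAut.conj g • H = H :=
  (le_normalizer_iff_conj_smul_eq.mp (le_refl (normalizer (H : Set G)))) g hg

theorem mem_normalizer_of_conj_smul_eq' {G : Type*} [Group G] {g : G} {H : Subgroup G}
    (hg : MulAut.conj g • H = H) : g ∈ normalizer (H : Set G) := by
  rw [mem_normalizer_iff'']
  intro h
  rw [← mem_conj_smul, hg]

theorem matsuyama {G : Type*} [Group G] [Finite G] (p : ℕ) [Fact p.Prime] (Z Y : Subgroup G)
    (h : ∀ g : G, IsPGroup p ↥(⨆ y ∈ Y, MulAut.conj (y * g) • Z)) :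
    ∃ P : Sylow p G, Y ≤ Subgroup.normalizer
      ((⨆ g ∈ {g : G | MulAut.conj g • Z ≤ (P : Subgroup G)}, MulAut.conj g • Z : Subgroup G) :
        Set G) := by
  classical
  set Sg : Set (Subgroup G) := {B | ∃ g : G, B = MulAut.conj g • Z} with hSg
  have hSgconj : ∀ B ∈ Sg, ∀ a : G, MulAut.conj a • B ∈ Sg := by
    rintro B ⟨g, rfl⟩ a
    exact ⟨a * g, conj_smul_conj_smul a g Z⟩
  let D : Set (Set (Subgroup G)) := {Δ | Δ ⊆ Sg ∧ (∀ B ∈ Δ, ∀ y ∈ Y, MulAut.conj y • B ∈ Δ) ∧
    IsPGroup p (sSup Δ : Subgroup G)}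
  have hDne : D.Nonempty :=
    ⟨∅, Set.empty_subset _, fun B hB => absurd hB (Set.notMem_empty B),
      by rw [sSup_empty]; exact IsPGroup.of_bot⟩
  obtain ⟨Δ, hΔmax⟩ := (Set.toFinite D).exists_maximal hDne
  obtain ⟨hΔS, hΔY, hΔp⟩ := hΔmax.prop
  set R := sSup Δ with hR
  obtain ⟨P, hRP⟩ := hΔp.exists_le_sylow
  refine ⟨P, ?_⟩
  have hRY : ∀ y ∈ Y, MulAut.conj y • R = R := by
    intro y hy
    apply conj_smul_eq_of_mem_normalizer'
    apply mem_normalizer_of_conj_smul_le
    · apply conj_smul_sSup_le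
      intro B hB
      exact le_sSup (hΔY B hB y hy)
    · apply conj_smul_sSup_le
      intro B hB
      exact le_sSup (hΔY B hB y⁻¹ (Y.inv_mem hy))
  have claim : ∀ B ∈ Sg, B ≤ (P : Subgroup G) → B ∈ Δ := by
    intro B₀ hB₀S hB₀P
    by_contra hB₀Δ
    have hPnil : Group.IsNilpotent (P : Subgroup G) := P.isPGroup'.isNilpotent
    set S' : Set (Subgroup (P : Subgroup G)) := {X | X.map (P : Subgroup G).subtype ∈ Sg} with hS'
    set S₀' : Set (Subgroup (P : Subgroup G)) := {X | X.map (P : Subgroup G).subtype ∈ Δ} with hS₀'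
    have hsub : ∀ U ∈ S', U.IsSubnormal := fun U _ => isSubnormal_of_isNilpotent U
    have hconj' : ∀ U ∈ S', ∀ u : (P : Subgroup G), MulAut.conj u • U ∈ S' := by
      intro U hU u
      show (MulAut.conj u • U).map (P : Subgroup G).subtype ∈ Sg
      rw [conj_smul_map_subtype]
      exact hSgconj _ hU _
    have h₀' : S₀' ⊂ S' := by
      refine ⟨fun X hX => hΔS hX, ?_⟩
      intro hle
      have h1 : B₀.subgroupOf (P : Subgroup G) ∈ S' := by
        show (B₀.subgroupOf (P : Subgroup G)).map (P : Subgroup G).subtype ∈ Sg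
        rw [map_subgroupOf_eq_of_le hB₀P]; exact hB₀S
      have h2 := hle h1
      have h3 : (B₀.subgroupOf (P : Subgroup G)).map (P : Subgroup G).subtype ∈ Δ := h2
      rw [map_subgroupOf_eq_of_le hB₀P] at h3
      exact hB₀Δ h3
    obtain ⟨X', hX'S, hX'n, hX'N⟩ := exists_mem_normalizing_sSup S' S₀' hsub hconj' h₀'
    set X := X'.map (P : Subgroup G).subtype with hX
    have hXS : X ∈ Sg := hX'S
    have hXΔ : X ∉ Δ := hX'n
    have hmapR : (sSup S₀').map (P : Subgroup G).subtype = R := by
      apply le_antisymm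
      · rw [map_le_iff_le_comap]
        apply sSup_le
        intro X'' hX''
        rw [← map_le_iff_le_comap]
        exact le_sSup hX''
      · apply sSup_le
        intro B hB
        have hBP : B ≤ (P : Subgroup G) := (le_sSup hB).trans hRP
        have h1 : B.subgroupOf (P : Subgroup G) ∈ S₀' := by
          show (B.subgroupOf (P : Subgroup G)).map (P : Subgroup G).subtype ∈ Δ
          rw [map_subgroupOf_eq_of_le hBP]; exact hB
        have h2 := Subgroup.map_mono (f := (P : Subgroup G).subtype) (le_sSup h1)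
        rwa [map_subgroupOf_eq_of_le hBP] at h2
    have hXN : X ≤ normalizer (R : Set G) := by
      rw [← hmapR]
      exact (Subgroup.map_mono hX'N).trans (le_normalizer_map _)
    obtain ⟨g, hg⟩ := hXS
    set W := ⨆ y ∈ Y, MulAut.conj (y * g) • Z with hW
    have hWp : IsPGroup p W := h g
    have hWN : W ≤ normalizer (R : Set G) := by
      apply iSup₂_le
      intro y hy
      rw [← conj_smul_conj_smul, ← hg]
      have h1 : MulAut.conj y • X ≤ MulAut.conj y • normalizer (R : Set G) :=
        Subgroup.pointwise_smul_le_pointwise_smul_iff.mpr hXN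
      rw [conj_smul_normalizer, hRY y hy] at h1
      exact h1
    have hWRp : IsPGroup p (W ⊔ R : Subgroup G) := hWp.to_sup_of_normal_right' hΔp hWN
    set Δ' : Set (Subgroup G) := Δ ∪ {B | ∃ y ∈ Y, B = MulAut.conj y • X} with hΔ'
    have hΔ'D : Δ' ∈ D := by
      refine ⟨?_, ?_, ?_⟩
      · rintro B (hB | ⟨y, -, rfl⟩)
        · exact hΔS hB
        · exact hSgconj X ⟨g, hg⟩ y
      · rintro B (hB | ⟨y, hy, rfl⟩) y' hy'
        · exact Or.inl (hΔY B hB y' hy')
        · exact Or.inr ⟨y' * y, Y.mul_mem hy' hy, conj_smul_conj_smul y' y X⟩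
      · apply hWRp.to_le
        apply sSup_le
        rintro B (hB | ⟨y, hy, rfl⟩)
        · exact (le_sSup hB).trans le_sup_right
        · refine le_trans ?_ le_sup_left
          rw [hg, conj_smul_conj_smul]
          exact le_iSup₂ (f := fun y (_ : y ∈ Y) => MulAut.conj (y * g) • Z) y hy
    have heq : Δ = Δ' := hΔmax.eq_of_subset hΔ'D Set.subset_union_left
    apply hXΔ
    rw [heq]
    exact Or.inr ⟨1, Y.one_mem, by rw [map_one, one_smul]⟩
  have hsup : (⨆ g ∈ {g : G | MulAut.conj g • Z ≤ (P : Subgroup G)}, MulAut.conj g • Z) = R := by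
    apply le_antisymm
    · apply iSup₂_le
      intro g hg
      exact le_sSup (claim _ ⟨g, rfl⟩ hg)
    · apply sSup_le
      intro B hB
      obtain ⟨g, rfl⟩ := hΔS hB
      have hgP : MulAut.conj g • Z ≤ (P : Subgroup G) := (le_sSup hB).trans hRP
      exact le_iSup₂ (f := fun g (_ : g ∈ {g : G | MulAut.conj g • Z ≤ (P : Subgroup G)}) =>
        MulAut.conj g • Z) g hgP
  rw [hsup]
  intro y hy
  exact mem_normalizer_of_conj_smul_eq' (hRY y hy)

end Cfsg.Agent.Helper9
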