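import Mathlib
import Cfsg.Prelude.Def_Transfer
import Cfsg.Prelude.Def_SolvableStructure
import Cfsg.Agent.Lib.Helper9.MinNonNilp

set_option autoImplicit false

namespace Cfsg.Agent.Helper9

open scoped Pointwise

universe u

/-- A commutative group is nilpotent (mixin version). -/
theorem isNilpotent_of_isMulCommutative {G : Type*} [Group G] (h : IsMulCommutative G) :
    Group.IsNilpotent G :=
  ⟨⟨1, Subgroup.upperCentralSeries_one_eq_top_iff.mpr h⟩⟩

/-- A finite nilpotent group all of whose Sylow subgroups are commutative is commutative. -/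
theorem isMulCommutative_of_nilpotent_of_sylow {G : Type*} [Group G] [Finite G]
    (hG : Group.IsNilpotent G)
    (hS : ∀ (p : ℕ) (_ : Fact p.Prime) (P : Sylow p G), IsMulCommutative (P : Subgroup G)) :
    IsMulCommutative G := by
  obtain ⟨e⟩ := ((Group.isNilpotent_of_finite_tfae (G := G)).out 0 4).mp hG
  haveI : ∀ (p : (Nat.card G).primeFactors) (P : Sylow p G), IsMulCommutative (P : Subgroup G) :=
    fun p P => hS p ⟨Nat.prime_of_mem_primeFactors p.2⟩ P
  refine isMulCommutative_iff.mpr fun a b => ?_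
  obtain ⟨a', rfl⟩ := e.surjective a
  obtain ⟨b', rfl⟩ := e.surjective b
  rw [← map_mul, ← map_mul, mul_comm' a' b']

/-- Coprime action on an abelian `q`-group: trivial on `Ω₁` implies trivial. -/
theorem conj_eq_of_conj_eq_on_omega {G : Type*} [Group G] (Q : Subgroup G)
    (hQc : ∀ x ∈ Q, ∀ y ∈ Q, x * y = y * x) (q n : ℕ) (g : G) (hgn : g ^ n = 1)
    (hcop : Nat.Coprime n q) (hgQ : ∀ x ∈ Q, g * x * g⁻¹ ∈ Q)
    (hΩ : ∀ x ∈ Q, x ^ q = 1 → g * x * g⁻¹ = x) :
    ∀ a : ℕ, ∀ x ∈ Q, x ^ (q ^ a) = 1 → g * x * g⁻¹ = x := by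
  intro a
  induction a with
  | zero =>
    intro x _ hx
    rw [pow_zero, pow_one] at hx
    rw [hx]; group
  | succ a ih =>
    intro x hx hxa
    have h1 : (x ^ q) ^ (q ^ a) = 1 := by
      rw [← pow_mul, ← pow_succ']; exact hxa
    have h2 : g * x ^ q * g⁻¹ = x ^ q := ih (x ^ q) (Q.pow_mem hx q) h1
    set x' := g * x * g⁻¹ with hx'
    have hx'Q : x' ∈ Q := hgQ x hx
    have h3 : x' ^ q = x ^ q := by rw [hx', conj_pow]; exact h2
    set y := x' * x⁻¹ with hy
    have hyQ : y ∈ Q := Q.mul_mem hx'Q (Q.inv_mem hx)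
    have hcomm : Commute x' x⁻¹ := hQc x' hx'Q x⁻¹ (Q.inv_mem hx)
    have hyq : y ^ q = 1 := by
      rw [hy, hcomm.mul_pow, h3, inv_pow, mul_inv_cancel]
    have hyfix : g * y * g⁻¹ = y := hΩ y hyQ hyq
    have hx'y : x' = x * y := by
      rw [hy, ← mul_assoc, hQc x hx x' hx'Q, mul_assoc, mul_inv_cancel, mul_one]
    have hiter : ∀ m : ℕ, g ^ m * x * (g ^ m)⁻¹ = x * y ^ m := by
      intro m
      induction m with
      | zero => simp
      | succ m ihm =>
        have : g ^ (m + 1) * x * (g ^ (m + 1))⁻¹ = g * (g ^ m * x * (g ^ m)⁻¹) * g⁻¹ := by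
          rw [pow_succ']; group
        rw [this, ihm]
        have h5 : g * (x * y ^ m) * g⁻¹ = (g * x * g⁻¹) * (g * y * g⁻¹) ^ m := by
          rw [conj_pow]; group
        rw [h5, hyfix, ← hx', hx'y, mul_assoc, ← pow_succ']
    have h6 := hiter n
    rw [hgn] at h6
    simp only [one_mul, inv_one, mul_one] at h6
    have hyn : y ^ n = 1 := by
      have := h6.symm
      rwa [mul_eq_left] at this
    have hy1 : y = 1 := by
      have ho1 : orderOf y ∣ n := orderOf_dvd_of_pow_eq_one hyn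
      have ho2 : orderOf y ∣ q := orderOf_dvd_of_pow_eq_one hyq
      have : orderOf y = 1 := Nat.eq_one_of_dvd_coprimes hcop ho1 ho2
      exact orderOf_eq_one_iff.mp this
    rw [hx'y, hy1, mul_one]

/-- Miller–Moreno: structure of minimal non-abelian groups. -/
theorem minNonAbelian_structure {G : Type u} [Group G] [Finite G] (hna : ¬ IsMulCommutative G)
    (h : ∀ H : Subgroup G, H ≠ ⊤ → IsMulCommutative H) :
    (∃ p : ℕ, p.Prime ∧ IsPGroup p G) ∨ ∃ p q : ℕ, p.Prime ∧ q.Prime ∧ p ≠ q ∧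
      ∃ (P : Sylow p G) (Q : Sylow q G), IsCyclic P ∧ (Q : Subgroup G).Normal ∧
        Cfsg.IsElementaryAbelian q (Q : Subgroup G) ∧ (P : Subgroup G) ⊔ Q = ⊤ := by
  by_cases hnil : Group.IsNilpotent G
  · left
    by_cases hex : ∃ (p : ℕ) (_ : Fact p.Prime) (P : Sylow p G), (P : Subgroup G) = ⊤
    · obtain ⟨p, hp, P, hP⟩ := hex
      refine ⟨p, hp.out, ?_⟩
      intro x
      have hx : x ∈ (P : Subgroup G) := by rw [hP]; trivial
      obtain ⟨k, hk⟩ := P.isPGroup' ⟨x, hx⟩
      refine ⟨k, ?_⟩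
      have := congrArg Subtype.val hk
      simpa using this
    · exfalso
      push Not at hex
      exact hna (isMulCommutative_of_nilpotent_of_sylow hnil fun p hp P => h _ (hex p hp P))
  · right
    have hmin : Cfsg.IsMinimalNonNilpotent G :=
      ⟨hnil, fun H hH => isNilpotent_of_isMulCommutative (h H hH)⟩
    obtain ⟨q, r, hq, hr, Q, P, g, hqr, hQn, hPg, htop, hcomp, hgC⟩ := minNonNilp_sylow hmin
    have hdis : Disjoint (Q : Subgroup G) (P : Subgroup G) := hcomp.disjoint
    have hgP : g ∈ (P : Subgroup G) := by rw [hPg]; exact Subgroup.mem_zpowers g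
    have hQtop : (Q : Subgroup G) ≠ ⊤ := by
      intro hQ
      apply hgC
      have : g ∈ (Q : Subgroup G) ⊓ (P : Subgroup G) := ⟨by rw [hQ]; trivial, hgP⟩
      rw [hdis.eq_bot, Subgroup.mem_bot] at this
      rw [this]; exact Subgroup.one_mem _
    have hQc : IsMulCommutative (Q : Subgroup G) := h _ hQtop
    have hQcomm : ∀ x ∈ (Q : Subgroup G), ∀ y ∈ (Q : Subgroup G), x * y = y * x :=
      fun x hx y hy => Subgroup.mul_comm_of_mem_isMulCommutative (Q : Subgroup G) hx hy
    -- the subgroup Ω₁(Q)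
    let Om : Subgroup G :=
      { carrier := {x | x ∈ (Q : Subgroup G) ∧ x ^ q = 1}
        mul_mem' := by
          rintro x y ⟨hx, hx1⟩ ⟨hy, hy1⟩
          refine ⟨Subgroup.mul_mem _ hx hy, ?_⟩
          have hc : Commute x y := hQcomm x hx y hy
          rw [hc.mul_pow, hx1, hy1, one_mul]
        one_mem' := ⟨Subgroup.one_mem _, one_pow _⟩
        inv_mem' := by
          rintro x ⟨hx, hx1⟩
          exact ⟨Subgroup.inv_mem _ hx, by rw [inv_pow, hx1, inv_one]⟩ }
    have hOm_mem : ∀ x, x ∈ Om ↔ x ∈ (Q : Subgroup G) ∧ x ^ q = 1 := fun x => Iff.rfl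
    have hOmn : Om.Normal := by
      constructor
      intro n hn x
      rw [hOm_mem] at hn ⊢
      refine ⟨hQn.conj_mem n hn.1 x, ?_⟩
      rw [conj_pow, hn.2, mul_one, mul_inv_cancel]
    have hKtop : Om ⊔ Subgroup.zpowers g = ⊤ := by
      by_contra hK
      have hKc : IsMulCommutative (Om ⊔ Subgroup.zpowers g : Subgroup G) := h _ hK
      have hgK : g ∈ Om ⊔ Subgroup.zpowers g :=
        (le_sup_right : Subgroup.zpowers g ≤ _) (Subgroup.mem_zpowers g)
      apply hgC
      obtain ⟨k, hk⟩ := (IsPGroup.iff_orderOf.mp P.isPGroup') ⟨g, hgP⟩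
      rw [← Subgroup.orderOf_coe] at hk
      have hgn : g ^ (r ^ k) = 1 := by
        have := pow_orderOf_eq_one g
        rwa [hk] at this
      have hcop : Nat.Coprime (r ^ k) q :=
        Nat.Coprime.pow_left k ((Nat.coprime_primes hr.out hq.out).mpr (Ne.symm hqr))
      have hfix : ∀ x ∈ (Q : Subgroup G), x ^ q = 1 → g * x * g⁻¹ = x := by
        intro x hx hx1
        have hxK : x ∈ Om ⊔ Subgroup.zpowers g :=
          (le_sup_left : Om ≤ _) ((hOm_mem x).mpr ⟨hx, hx1⟩)
        have := Subgroup.mul_comm_of_mem_isMulCommutative _ hgK hxK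
        rw [this, mul_assoc, mul_inv_cancel, mul_one]
      have hall := conj_eq_of_conj_eq_on_omega (Q : Subgroup G) hQcomm q (r ^ k) g hgn hcop
        (fun x hx => hQn.conj_mem x hx g) hfix
      rw [Subgroup.mem_centralizer_iff]
      intro x hx
      obtain ⟨a, ha⟩ := Q.isPGroup' ⟨x, hx⟩
      have ha' : x ^ (q ^ a) = 1 := by
        have := congrArg Subtype.val ha
        simpa using this
      have h7 := hall a x hx ha'
      calc x * g = (g * x * g⁻¹) * g := by rw [h7]
        _ = g * x := by group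
    have hQle : ∀ x ∈ (Q : Subgroup G), x ^ q = 1 := by
      intro x hx
      have hxK : x ∈ ((Om ⊔ Subgroup.zpowers g : Subgroup G) : Set G) := by
        rw [hKtop]; trivial
      rw [Subgroup.normal_mul] at hxK
      obtain ⟨w, hw, z, hz, rfl⟩ := Set.mem_mul.mp hxK
      have hwQ : w ∈ (Q : Subgroup G) := ((hOm_mem w).mp hw).1
      have hzQ : z ∈ (Q : Subgroup G) := by
        have : z = w⁻¹ * (w * z) := by group
        rw [this]
        exact Subgroup.mul_mem _ (Subgroup.inv_mem _ hwQ) hx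
      have hzP : z ∈ (P : Subgroup G) := by rw [hPg]; exact hz
      have : z ∈ (Q : Subgroup G) ⊓ (P : Subgroup G) := ⟨hzQ, hzP⟩
      rw [hdis.eq_bot, Subgroup.mem_bot] at this
      rw [this, mul_one]
      exact ((hOm_mem w).mp hw).2
    refine ⟨r, q, hr.out, hq.out, hqr.symm, P, Q, ?_, hQn, ⟨hQc, hQle⟩, ?_⟩
    · have h1 : IsCyclic (Subgroup.zpowers g) := inferInstance
      rw [← hPg] at h1
      exact h1
    · rw [sup_comm]; exact htop

end Cfsg.Agent.Helper9
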