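import Mathlib
import Cfsg.Agent.Lib.Helper17.Simple
import Cfsg.Agent.Lib.Helper17.Sieve
import Cfsg.Agent.Lib.Helper75.FixKill
import Cfsg.Agent.Lib.Helper87.SVKit

/-!
# S1022, piece (A): a simple group of order `459648 = 2^7 * 3^3 * 7 * 19` does not have exactly
`96` Sylow `19`-subgroups.

`|N(P)| = 4788`, `|N(P) : C(P)|` divides `18`, so `7 ∣ |C(P)|`; an element `k` of order `7` of `C(P)`
fixes `f` Sylow `19`-subgroups with `f ≡ 1 (mod 19)`, `f ≡ 96 ≡ 5 (mod 7)` and `f < 96`: impossible.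
-/

set_option autoImplicit false

namespace Cfsg.Agent.Helper9.O459648

open Cfsg MulAction Cfsg.Agent.Helper17 Cfsg.Agent.Helper17.Sieve Cfsg.Agent.Helper87.SV
  Cfsg.Agent.Helper75.FixKill

universe u

theorem false_of_ninetysix {G : Type u} [Group G] [Finite G] [IsSimpleGroup G]
    (hG : Nat.card G = 459648) (h96 : Nat.card (Sylow 19 G) = 96) : False := by
  have hna : ¬ IsMulCommutative G := not_comm_of_not_prime (by rw [hG]; norm_num)
  have h7 : Fact (Nat.Prime 7) := ⟨by norm_num⟩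
  have h19 : Fact (Nat.Prime 19) := ⟨by norm_num⟩
  have hn19 : Nat.card G = 19 ^ 1 * 24192 := by rw [hG]; norm_num
  obtain ⟨hP19, -, -, -, -, hd1, he19⟩ :=
    h87_data hna 19 24192 (by norm_num) hn19 (by norm_num)
  obtain ⟨P⟩ : Nonempty (Sylow 19 G) := inferInstance
  obtain ⟨e, he1, he2, he3⟩ := he19 P
  rw [h96] at he3
  have hele : e ≤ 18 := Nat.le_of_dvd (by norm_num) he1
  have h7c : 7 ∣ Nat.card (Subgroup.centralizer ((P : Subgroup G) : Set G)) := by
    generalize Nat.card (Subgroup.centralizer ((P : Subgroup G) : Set G)) = c at he3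
    have he0 : e ≠ 0 := by rintro rfl; simp at he3
    have hce : c * e = 4788 := by omega
    have h7ce : 7 ∣ c * e := by rw [hce]; norm_num
    rcases (Nat.Prime.dvd_mul (by norm_num : Nat.Prime 7)).1 h7ce with h | h
    · exact h
    · exfalso
      have h718 : 7 ∣ 18 := h.trans he1
      omega
  obtain ⟨f, m', -, hf19, hf7, -, hflt, -⟩ :=
    exists_fix (G := G) (by rw [hG]; norm_num) (p := 19) (r := 7) (by norm_num) P (hP19 P) hd1 h7c
  rw [h96] at hf7 hflt
  omega

end Cfsg.Agent.Helper9.O459648
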