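import Mathlib
import Cfsg.Agent.Lib.Helper17.Simple
import Cfsg.Agent.Lib.Helper9.O459648A

/-!
# S1022 (order 459648), helper53's server: pieces (B4c) `endgame_final` and (A) `no96`.
-/

set_option autoImplicit false

namespace Cfsg.Agent.Helper9.O459648

open Cfsg.Agent.Helper17

set_option maxRecDepth 100000 in
theorem h9_div3024 : ∀ n ∈ List.range (3024 + 1), n ∣ 3024 → n % 19 = 1 → n = 1 ∨ n = 1008 := by
  decide +kernel

/-- (A) in helper53's shape -/
theorem no96 {G : Type*} [Group G] [Finite G] [IsSimpleGroup G] (hG : Nat.card G = 459648) :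
    Nat.card (Sylow 19 G) ≠ 96 := fun h => false_of_ninetysix hG h

/-- (B4c) -/
theorem endgame_final {G : Type*} [Group G] [Finite G] [IsSimpleGroup G]
    (hG : Nat.card G = 459648) (P : Sylow 19 G) (hP : Nat.card (P : Subgroup G) = 19)
    (hN : Nat.card (Subgroup.normalizer ((P : Subgroup G) : Set G)) = 456)
    (S0 : Subgroup G) (hS0 : Nat.card S0 = 8)
    (hSN : S0 ≤ Subgroup.normalizer ((P : Subgroup G) : Set G)) (z g : G) (hz1 : z ≠ 1)
    (hzP : z ∈ Subgroup.centralizer ((P : Subgroup G) : Set G))
    (hzS : ∀ s ∈ S0, s * z = z * s) (hgz : g * z = z * g)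
    (hgN : g ∉ Subgroup.normalizer ((P : Subgroup G) : Set G)) : False := by
  classical
  have hna : ¬ IsMulCommutative G := not_comm_of_not_prime (by rw [hG]; norm_num)
  have h19 : Fact (Nat.Prime 19) := ⟨by norm_num⟩
  set N : Subgroup G := Subgroup.normalizer ((P : Subgroup G) : Set G) with hNdef
  set L : Subgroup G := Subgroup.centralizer ({z} : Set G) with hLdef
  have hmemL : ∀ x : G, x ∈ L ↔ x * z = z * x := by
    intro x
    rw [hLdef, Subgroup.mem_centralizer_iff]
    constructor
    · intro h; exact (h z rfl).symm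
    · intro h y hy
      rw [Set.mem_singleton_iff] at hy
      rw [hy]; exact h.symm
  have hPL : (P : Subgroup G) ≤ L := by
    intro x hx
    rw [hmemL]
    exact (Subgroup.mem_centralizer_iff.1 hzP x hx)
  have hSL : S0 ≤ L := fun s hs => (hmemL s).2 (hzS s hs)
  have hgL : g ∈ L := (hmemL g).2 hgz
  set X : Subgroup G := N ⊓ L with hXdef
  have hPX : (P : Subgroup G) ≤ X := le_inf Subgroup.le_normalizer hPL
  have hSX : S0 ≤ X := le_inf hSN hSL
  have h19X : 19 ∣ Nat.card X := by rw [← hP]; exact Subgroup.card_dvd_of_le hPX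
  have h8X : 8 ∣ Nat.card X := by rw [← hS0]; exact Subgroup.card_dvd_of_le hSX
  have hX456 : Nat.card X ∣ 456 := by rw [← hN]; exact Subgroup.card_dvd_of_le inf_le_left
  -- Sylow count in `L`
  have hcount : Nat.card (Sylow 19 L) =
      (Subgroup.normalizer (((P.subtype hPL : Sylow 19 L) : Subgroup L) : Set L)).index :=
    Sylow.card_eq_index_normalizer (P.subtype hPL)
  have hmod : Nat.card (Sylow 19 L) ≡ 1 [MOD 19] := card_sylow_modEq_one 19 L
  have hnormeq : Subgroup.normalizer (((P.subtype hPL : Sylow 19 L) : Subgroup L) : Set L) =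
      N.subgroupOf L := by
    rw [Sylow.coe_subtype]
    exact (Subgroup.subgroupOf_normalizer_eq hPL).symm
  have hcardX : Nat.card (N.subgroupOf L) = Nat.card X := by
    rw [← Subgroup.inf_subgroupOf_right N L]
    exact Nat.card_congr (Subgroup.subgroupOfEquivOfLe (inf_le_right : N ⊓ L ≤ L)).toEquiv
  have hLcard : Nat.card L = Nat.card X * Nat.card (Sylow 19 L) := by
    rw [hcount, hnormeq, ← hcardX]
    exact (Subgroup.card_mul_index (N.subgroupOf L)).symm
  have hLdvd : Nat.card L ∣ 459648 := by rw [← hG]; exact Subgroup.card_subgroup_dvd_card L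
  have hLidx : L.index * Nat.card L = 459648 := by rw [← hG]; exact Subgroup.index_mul_card L
  -- arithmetic
  have h152 : 152 ∣ Nat.card X := by
    have hcop : Nat.Coprime 8 19 := by norm_num
    exact hcop.mul_dvd_of_dvd_of_dvd h8X h19X
  have hXcases : Nat.card X = 152 ∨ Nat.card X = 456 := by
    obtain ⟨j, hj⟩ := h152
    obtain ⟨k, hk⟩ := hX456
    rw [hj] at hk
    have hjk : j * k = 3 := by nlinarith
    have hj3 : j ∣ 3 := ⟨k, hjk.symm⟩
    have hjle : j ≤ 3 := Nat.le_of_dvd (by norm_num) hj3
    interval_cases j <;> omega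
  set n := Nat.card (Sylow 19 L) with hn
  have hn3024 : n ∣ 3024 := by
    have h1 : Nat.card X * n ∣ 459648 := by rw [← hLcard]; exact hLdvd
    rcases hXcases with hx | hx
    · rw [hx] at h1
      have : 152 * n ∣ 152 * 3024 := by norm_num; exact h1
      exact Nat.dvd_of_mul_dvd_mul_left (by norm_num) this
    · rw [hx] at h1
      have : 456 * n ∣ 456 * 1008 := by norm_num; exact h1
      exact (Nat.dvd_of_mul_dvd_mul_left (by norm_num) this).trans (by norm_num)
  have hnmod : n % 19 = 1 := by
    have := hmod
    rw [Nat.ModEq] at this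
    exact this
  have hnle : n ≤ 3024 := Nat.le_of_dvd (by norm_num) hn3024
  rcases h9_div3024 n (List.mem_range.2 (by omega)) hn3024 hnmod with h1 | h1008
  · -- unique Sylow: `L ≤ N`
    rw [h1, mul_one] at hLcard
    have hXL : X = L := by
      apply Subgroup.eq_of_le_of_card_ge inf_le_right
      rw [hLcard]
    apply hgN
    have : g ∈ X := by rw [hXL]; exact hgL
    exact this.1
  · rw [h1008] at hLcard
    by_cases hLtop : L = ⊤
    · -- `z` is central
      have hzc : z ∈ Subgroup.center G := by
        rw [Subgroup.mem_center_iff]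
        intro x
        have : x ∈ L := by rw [hLtop]; exact Subgroup.mem_top x
        exact (hmemL x).1 this
      rcases (inferInstance : (Subgroup.center G).Normal).eq_bot_or_eq_top with hb | ht
      · rw [hb, Subgroup.mem_bot] at hzc
        exact hz1 hzc
      · apply hna
        refine ⟨⟨fun a b => ?_⟩⟩
        have ha : a ∈ Subgroup.center G := by rw [ht]; exact Subgroup.mem_top a
        exact ((Subgroup.mem_center_iff.1 ha) b).symm
    · have h2 := two_mul_card_dvd_factorial hna L hLtop
      have hidx1 : L.index ≠ 1 := fun h => hLtop (Subgroup.index_eq_one.1 h)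
      rcases hXcases with hx | hx
      · rw [hx] at hLcard
        rw [hLcard] at hLidx
        have hi3 : L.index = 3 := by omega
        rw [hi3, hG] at h2
        norm_num [Nat.factorial] at h2
      · rw [hx] at hLcard
        rw [hLcard] at hLidx
        have hi1 : L.index = 1 := by omega
        exact hidx1 hi1

end Cfsg.Agent.Helper9.O459648
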