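import Mathlib
import Cfsg.Agent.S1017
import Cfsg.Agent.Lib.Helper17.Simple

set_option autoImplicit false

namespace Cfsg.Agent.Helper9.O6232

open Cfsg MulAction
open scoped Pointwise

universe u

/-- divisors of 360 that are 1 mod 13 -/
theorem h9_n13 (n : ℕ) (hd : n ∣ 360) (hm : n % 13 = 1) (h1 : n ≠ 1) : n = 40 := by
  have hle : n ≤ 360 := Nat.le_of_dvd (by norm_num) hd
  obtain ⟨j, rfl⟩ : ∃ j, n = 13 * j + 1 := ⟨n / 13, by omega⟩
  have hj : j ≤ 27 := by omega
  interval_cases j <;> omega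

/-- numerics for the normalizer of a Sylow 3-subgroup -/
theorem h9_n3 (n d : ℕ) (h : n * d = 4680) (hd : d ∣ 117) (h9 : 9 ∣ d) : d = 9 ∨ d = 117 := by
  have hle : d ≤ 117 := Nat.le_of_dvd (by norm_num) hd
  obtain ⟨j, rfl⟩ := h9
  have hj : j ≤ 13 := by omega
  interval_cases j <;> omega

theorem no_4680 {G : Type u} [Group G] [Finite G] [IsSimpleGroup G] : Nat.card G ≠ 4680 := by
  intro hG
  have h13 : Fact (Nat.Prime 13) := ⟨by norm_num⟩
  have h3 : Fact (Nat.Prime 3) := ⟨by norm_num⟩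
  obtain ⟨P⟩ : Nonempty (Sylow 13 G) := inferInstance
  have hfac : Nat.card G = 13 ^ 1 * 360 := by rw [hG]; norm_num
  have hP : Nat.card (P : Subgroup G) = 13 := by
    have := Cfsg.Agent.Helper17.sylow_card_eq P hfac (by norm_num); rwa [pow_one] at this
  obtain ⟨hdvd, hmod⟩ := Cfsg.Agent.Helper17.sylow_count (G := G) hfac (by norm_num)
  have hne1 := Cfsg.Agent.Helper17.sylow_count_ne_one (G := G) hfac (by norm_num) one_ne_zero
    (by norm_num)
  have hn13 : Nat.card (Sylow 13 G) = 40 := h9_n13 _ hdvd hmod hne1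
  -- the normalizer `M` of `P` has order 117
  have hNd := Cfsg.Agent.S1017.card_sylow_mul_card_normalizer P
  rw [hn13, hG] at hNd
  have hM : Nat.card ↥(Subgroup.normalizer ((P : Subgroup G) : Set G)) = 117 := by omega
  -- the centralizer of `P` has order 39
  obtain ⟨k, c, hk, hk1, hC, hN⟩ := Cfsg.Agent.S1017.normalizer_structure P hP (by rw [hG]; norm_num)
  rw [hM] at hN
  have hkle : k ≤ 12 := Nat.le_of_dvd (by norm_num) hk
  have hc3 : c = 3 := by
    interval_cases k <;> omega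
  rw [hc3] at hC
  -- an element `x` of order 3 centralizing `P`
  obtain ⟨x', hx'⟩ := exists_prime_orderOf_dvd_card'
    (G := ↥(Subgroup.centralizer ((P : Subgroup G) : Set G))) 3 (by rw [hC]; norm_num)
  obtain ⟨x, hxdef⟩ : ∃ x : G, x = (x' : G) := ⟨_, rfl⟩
  have hxo : orderOf x = 3 := by rw [hxdef, Subgroup.orderOf_coe]; exact hx'
  have hxC : x ∈ Subgroup.centralizer ((P : Subgroup G) : Set G) := hxdef ▸ x'.2
  have hx1 : x ≠ 1 := by
    intro h; rw [h, orderOf_one] at hxo; omega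
  -- `x` fixes exactly one Sylow 13-subgroup
  have m1 := Cfsg.Agent.S1017.card_fixedBy_sylow_modEq P hP x hxC
  have m3 := Cfsg.Agent.S1017.card_modEq_card_fixedBy (α := Sylow 13 G) x hxo
  have hle := Cfsg.Agent.S1017.card_fixedBy_le (α := Sylow 13 G) x
  have hnt := Cfsg.Agent.S1017.sylow_action_nontrivial (G := G) (p := 13) (by rw [hn13]; norm_num)
  have hne := Cfsg.Agent.S1017.card_fixedBy_ne hnt x hx1
  rw [hn13] at m3 hle hne
  have hf : Nat.card (fixedBy (Sylow 13 G) x) = 1 := by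
    unfold Nat.ModEq at m1 m3
    generalize Nat.card (fixedBy (Sylow 13 G) x) = f at *
    interval_cases f <;> omega
  have hPfix : P ∈ fixedBy (Sylow 13 G) x :=
    Sylow.smul_eq_iff_mem_normalizer.mpr (Subgroup.centralizer_le_normalizer _ hxC)
  have hfix : ∀ P' : Sylow 13 G, x • P' = P' → P' = P := by
    intro P' hP'
    have hsub : Subsingleton (fixedBy (Sylow 13 G) x) :=
      (Nat.card_eq_one_iff_unique.1 hf).1
    have := Subsingleton.elim (⟨P', hP'⟩ : fixedBy (Sylow 13 G) x) ⟨P, hPfix⟩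
    exact congrArg Subtype.val this
  -- key: a conjugate of `x` inside `M` comes from `M`
  have key : ∀ g : G, g * x * g⁻¹ ∈ Subgroup.normalizer ((P : Subgroup G) : Set G) →
      g ∈ Subgroup.normalizer ((P : Subgroup G) : Set G) := by
    intro g hg
    have h1 : (g * x * g⁻¹) • P = P := Sylow.smul_eq_iff_mem_normalizer.mpr hg
    have h2 : x • (g⁻¹ • P) = g⁻¹ • P := by
      have : x • (g⁻¹ • P) = g⁻¹ • ((g * x * g⁻¹) • P) := by
        simp only [← mul_smul]; congr 1; group
      rw [this, h1]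
    have h3 := hfix _ h2
    have h4 : g⁻¹ ∈ Subgroup.normalizer ((P : Subgroup G) : Set G) :=
      Sylow.smul_eq_iff_mem_normalizer.mp h3
    simpa using inv_mem h4
  -- a Sylow 3-subgroup `Q` containing `x`
  obtain ⟨Q, hxQ⟩ := Cfsg.Agent.S1017.exists_sylow_mem_of_orderOf x hxo
  have hfac3 : Nat.card G = 3 ^ 2 * 520 := by rw [hG]; norm_num
  have hQ : Nat.card (Q : Subgroup G) = 9 := by
    have := Cfsg.Agent.Helper17.sylow_card_eq Q hfac3 (by norm_num); simpa using this
  have hQcomm : ∀ a ∈ (Q : Subgroup G), ∀ b ∈ (Q : Subgroup G), a * b = b * a := by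
    intro a ha b hb
    have hcard : Nat.card ↥(Q : Subgroup G) = 3 ^ 2 := by rw [hQ]; norm_num
    have hc := IsPGroup.commutative_of_card_eq_prime_sq hcard
    have := hc (⟨a, ha⟩ : ↥(Q : Subgroup G)) ⟨b, hb⟩
    exact congrArg Subtype.val this
  -- `N_G(Q) ≤ M`
  have hNQM : Subgroup.normalizer ((Q : Subgroup G) : Set G) ≤
      Subgroup.normalizer ((P : Subgroup G) : Set G) := by
    intro g hg
    apply key
    -- `g x g⁻¹ ∈ Q`, and `Q ≤ C(x) ≤ M`
    have h1 : g * x * g⁻¹ ∈ (Q : Subgroup G) := (Subgroup.mem_normalizer_iff.mp hg x).mp hxQ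
    -- elements of `Q` commute with `x`, hence lie in `M`
    have h2 : ∀ a ∈ (Q : Subgroup G), a ∈ Subgroup.normalizer ((P : Subgroup G) : Set G) := by
      intro a ha
      apply key
      have : a * x * a⁻¹ = x := by
        rw [hQcomm a ha x hxQ, mul_assoc, mul_inv_cancel, mul_one]
      rw [this]
      exact Subgroup.centralizer_le_normalizer _ hxC
    exact h2 _ h1
  have hQN : (Q : Subgroup G) ≤ Subgroup.normalizer ((Q : Subgroup G) : Set G) :=
    Subgroup.le_normalizer
  have hNd3 := Cfsg.Agent.S1017.card_sylow_mul_card_normalizer Q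
  rw [hG] at hNd3
  have hd117 : Nat.card ↥(Subgroup.normalizer ((Q : Subgroup G) : Set G)) ∣ 117 := by
    rw [← hM]; exact Subgroup.card_dvd_of_le hNQM
  have hd9 : 9 ∣ Nat.card ↥(Subgroup.normalizer ((Q : Subgroup G) : Set G)) := by
    rw [← hQ]; exact Subgroup.card_dvd_of_le hQN
  rcases h9_n3 _ _ hNd3 hd117 hd9 with h9 | h117
  · -- `N_G(Q) = Q ≤ C_G(Q)`: Burnside
    have hNQ : Subgroup.normalizer ((Q : Subgroup G) : Set G) = (Q : Subgroup G) := by
      symm
      apply Subgroup.eq_of_le_of_card_ge hQN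
      rw [h9, hQ]
    apply Cfsg.Agent.S1017.not_normalizer_le_centralizer Q (by rw [hQ]; norm_num)
      (by rw [hQ, hG]; norm_num)
    rw [hNQ]
    intro a ha
    rw [Subgroup.mem_centralizer_iff]
    intro b hb
    exact hQcomm b hb a ha
  · -- `N_G(Q) = M`: `Q` and `P` normalize each other, so `Q ≤ C(P)`
    have hNQ : Subgroup.normalizer ((Q : Subgroup G) : Set G) =
        Subgroup.normalizer ((P : Subgroup G) : Set G) := by
      apply Subgroup.eq_of_le_of_card_ge hNQM
      rw [h117, hM]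
    have hdisj : (Q : Subgroup G) ⊓ (P : Subgroup G) = ⊥ :=
      (Subgroup.disjoint_of_coprime_natCard (by rw [hQ, hP]; norm_num)).eq_bot
    have hQC : (Q : Subgroup G) ≤ Subgroup.centralizer ((P : Subgroup G) : Set G) := by
      intro a ha
      rw [Subgroup.mem_centralizer_iff]
      intro y hy
      -- the commutator `a y a⁻¹ y⁻¹` lies in `Q ⊓ P`
      have haM : a ∈ Subgroup.normalizer ((P : Subgroup G) : Set G) := hNQM (hQN ha)
      have hyN : y ∈ Subgroup.normalizer ((Q : Subgroup G) : Set G) := by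
        rw [hNQ]; exact Subgroup.le_normalizer hy
      have h1 : a * y * a⁻¹ ∈ (P : Subgroup G) := (Subgroup.mem_normalizer_iff.mp haM y).mp hy
      have h2 : y * a⁻¹ * y⁻¹ ∈ (Q : Subgroup G) :=
        (Subgroup.mem_normalizer_iff.mp hyN a⁻¹).mp (inv_mem ha)
      have hcP : a * y * a⁻¹ * y⁻¹ ∈ (P : Subgroup G) := mul_mem h1 (inv_mem hy)
      have hcQ : a * y * a⁻¹ * y⁻¹ ∈ (Q : Subgroup G) := by
        have : a * y * a⁻¹ * y⁻¹ = a * (y * a⁻¹ * y⁻¹) := by group
        rw [this]; exact mul_mem ha h2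
      have hc1 : a * y * a⁻¹ * y⁻¹ ∈ (Q : Subgroup G) ⊓ (P : Subgroup G) := ⟨hcQ, hcP⟩
      rw [hdisj, Subgroup.mem_bot] at hc1
      -- so `a y = y a`
      have : a * y = y * a := by
        have h := congrArg (fun t => t * y * a) hc1
        simpa [mul_assoc] using h
      exact this.symm
    have := Subgroup.card_dvd_of_le hQC
    rw [hQ, hC] at this
    omega

end Cfsg.Agent.Helper9.O6232
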