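import Mathlib
import Cfsg.Agent.S1017
import Cfsg.Agent.Lib.Helper17.Simple
import Cfsg.Agent.Lib.Helper17.SylowInter
import Cfsg.Agent.Lib.Helper17.SylowInter2
import Cfsg.Agent.Lib.Helper9.JordanKill

set_option autoImplicit false

namespace Cfsg.Agent.Helper9.O6232

open Cfsg MulAction
open scoped Pointwise Nat

universe u

/-- divisors of 120 that are 1 mod 7 -/
theorem h9_n7 (n : ℕ) (hd : n ∣ 120) (hm : n % 7 = 1) (h1 : n ≠ 1) : n = 8 ∨ n = 15 ∨ n = 120 := by
  have hle : n ≤ 120 := Nat.le_of_dvd (by norm_num) hd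
  obtain ⟨j, rfl⟩ : ∃ j, n = 7 * j + 1 := ⟨n / 7, by omega⟩
  have hj : j ≤ 17 := by omega
  interval_cases j <;> omega

theorem no_5880 {G : Type u} [Group G] [Finite G] [IsSimpleGroup G] : Nat.card G ≠ 5880 := by
  intro hG
  have hna : ¬ IsMulCommutative G :=
    Cfsg.Agent.Helper17.not_comm_of_not_prime (by rw [hG]; norm_num)
  have h7 : Fact (Nat.Prime 7) := ⟨by norm_num⟩
  have hfac : Nat.card G = 7 ^ 2 * 120 := by rw [hG]; norm_num
  obtain ⟨hdvd, hmod⟩ := Cfsg.Agent.Helper17.sylow_count (G := G) hfac (by norm_num)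
  have hne1 := Cfsg.Agent.Helper17.sylow_count_ne_one (G := G) hfac (by norm_num) two_ne_zero
    (by norm_num)
  obtain ⟨P⟩ : Nonempty (Sylow 7 G) := inferInstance
  have hPall : ∀ P : Sylow 7 G, Nat.card (P : Subgroup G) = 49 := by
    intro P
    have := Cfsg.Agent.Helper17.sylow_card_eq P hfac (by norm_num); simpa using this
  have hP := hPall P
  have hPcomm : ∀ a ∈ (P : Subgroup G), ∀ b ∈ (P : Subgroup G), a * b = b * a := by
    intro a ha b hb
    have hcard : Nat.card ↥(P : Subgroup G) = 7 ^ 2 := by rw [hP]; norm_num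
    have hc := IsPGroup.isMulCommutative_of_card_eq_prime_sq hcard
    have := hc.is_comm.comm (⟨a, ha⟩ : ↥(P : Subgroup G)) ⟨b, hb⟩
    exact congrArg Subtype.val this
  have hNd := Cfsg.Agent.S1017.card_sylow_mul_card_normalizer P
  rw [hG] at hNd
  rcases h9_n7 _ hdvd hmod hne1 with h8 | h15 | h120
  · -- embedding into `A_8`
    have hfact := Cfsg.Agent.Helper17.sylow_count_factorial (p := 7) hna hne1
    rw [h8, hG] at hfact
    revert hfact; decide
  · -- the main case: 15 Sylow 7-subgroups
    have hmod49 : ¬ Nat.card (Sylow 7 G) ≡ 1 [MOD 7 ^ 2] := by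
      rw [h15]; decide
    obtain ⟨R, hPR, hidx⟩ := Cfsg.Agent.Helper17.exists_sylow_large_inter 7 2 hmod49 P
    have hR := hPall R
    change (R : Subgroup G).relIndex (P : Subgroup G) ≤ 7 ^ (2 - 1) at hidx
    have hne : (R : Subgroup G).relIndex (P : Subgroup G) ≠ 1 := by
      intro h1
      rw [Subgroup.relIndex_eq_one] at h1
      apply hPR
      apply Sylow.ext
      exact Subgroup.eq_of_le_of_card_ge h1 (by rw [hP, hR])
    have hcD := Cfsg.Agent.Helper17.card_inf_mul_relIndex (R : Subgroup G) (P : Subgroup G)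
    rw [hP] at hcD
    -- `|R ⊓ P| = 7`
    have hD : Nat.card ↥((R : Subgroup G) ⊓ (P : Subgroup G)) = 7 := by
      have hle : (R : Subgroup G).relIndex (P : Subgroup G) ≤ 7 := by simpa using hidx
      have hpos : 0 < (R : Subgroup G).relIndex (P : Subgroup G) := by
        rcases Nat.eq_zero_or_pos ((R : Subgroup G).relIndex (P : Subgroup G)) with h0 | h0
        · rw [h0] at hcD; omega
        · exact h0
      generalize (R : Subgroup G).relIndex (P : Subgroup G) = j at *
      generalize Nat.card ↥((R : Subgroup G) ⊓ (P : Subgroup G)) = c at *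
      interval_cases j <;> omega
    -- an element `x` of order 7 in `R ⊓ P`
    obtain ⟨x', hx'⟩ := exists_prime_orderOf_dvd_card'
      (G := ↥((R : Subgroup G) ⊓ (P : Subgroup G))) 7 (by rw [hD])
    obtain ⟨x, hxdef⟩ : ∃ x : G, x = (x' : G) := ⟨_, rfl⟩
    have hxo : orderOf x = 7 := by rw [hxdef, Subgroup.orderOf_coe]; exact hx'
    have hxR : x ∈ (R : Subgroup G) := hxdef ▸ x'.2.1
    have hxP : x ∈ (P : Subgroup G) := hxdef ▸ x'.2.2
    have hx1 : x ≠ 1 := by
      intro h; rw [h, orderOf_one] at hxo; omega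
    have hfixP : P ∈ fixedBy (Sylow 7 G) x := Cfsg.Agent.S1017.smul_self_of_mem P x hxP
    have hfixR : R ∈ fixedBy (Sylow 7 G) x := Cfsg.Agent.S1017.smul_self_of_mem R x hxR
    have m7 := Cfsg.Agent.S1017.card_modEq_card_fixedBy (α := Sylow 7 G) x hxo
    have hle := Cfsg.Agent.S1017.card_fixedBy_le (α := Sylow 7 G) x
    have hnt := Cfsg.Agent.S1017.sylow_action_nontrivial (G := G) (p := 7) (by rw [h15]; norm_num)
    have hne15 := Cfsg.Agent.S1017.card_fixedBy_ne hnt x hx1
    have hne1' : Nat.card (fixedBy (Sylow 7 G) x) ≠ 1 := by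
      intro h1
      have hsub : Subsingleton (fixedBy (Sylow 7 G) x) := (Nat.card_eq_one_iff_unique.1 h1).1
      have := Subsingleton.elim (⟨P, hfixP⟩ : fixedBy (Sylow 7 G) x) ⟨R, hfixR⟩
      exact hPR (congrArg Subtype.val this)
    rw [h15] at m7 hle hne15
    have hf : Nat.card (fixedBy (Sylow 7 G) x) = 8 := by
      unfold Nat.ModEq at m7
      have hpos : 0 < Nat.card (fixedBy (Sylow 7 G) x) := by
        have : Nonempty (fixedBy (Sylow 7 G) x) := ⟨⟨P, hfixP⟩⟩
        exact Nat.card_pos
      generalize Nat.card (fixedBy (Sylow 7 G) x) = f at *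
      interval_cases f <;> omega
    -- `G` acts primitively on the 15 Sylow 7-subgroups
    have hnontriv : Nontrivial (Sylow 7 G) :=
      Finite.one_lt_card_iff_nontrivial.mp (by rw [h15]; norm_num)
    have hstab : stabilizer G P = Subgroup.normalizer ((P : Subgroup G) : Set G) :=
      Sylow.stabilizer_eq_normalizer P
    have hidxN : (Subgroup.normalizer ((P : Subgroup G) : Set G)).index = 15 := by
      have h2 := (Subgroup.normalizer ((P : Subgroup G) : Set G)).card_mul_index
      rw [h15] at hNd
      rw [hG] at h2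
      have hN392 : Nat.card ↥(Subgroup.normalizer ((P : Subgroup G) : Set G)) = 392 := by omega
      rw [hN392] at h2
      omega
    have hprim : IsPreprimitive G (Sylow 7 G) := by
      rw [← isCoatom_stabilizer_iff_preprimitive G P, hstab]
      refine ⟨?_, ?_⟩
      · intro htop
        rw [htop, Subgroup.index_top] at hidxN
        omega
      · intro K hK
        have hKdvd : K.index ∣ 15 := by
          rw [← hidxN]; exact Subgroup.index_dvd_of_le hK.le
        have hKle : K.index ≤ 15 := Nat.le_of_dvd (by norm_num) hKdvd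
        have hKne : K.index ≠ 15 := by
          intro h15'
          apply hK.ne
          apply Subgroup.eq_of_le_of_card_ge hK.le
          have h1 := K.card_mul_index
          have h2 := (Subgroup.normalizer ((P : Subgroup G) : Set G)).card_mul_index
          rw [h15'] at h1
          rw [hidxN] at h2
          omega
        by_contra hKtop
        have hfact := Cfsg.Agent.Helper17.two_mul_card_dvd_factorial hna K hKtop
        have hK1 : K.index ≠ 1 := fun h => hKtop (Subgroup.index_eq_one.1 h)
        rw [hG] at hfact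
        generalize K.index = k at *
        interval_cases k <;> first | omega | (revert hfact; decide)
    -- Jordan
    have hs : (fixedBy (Sylow 7 G) x).ncard = 7 + 1 := by
      rw [← _root_.Nat.card_coe_set_eq, hf]
    have hJ := Cfsg.Agent.Helper9.JordanKill.jordan_factorial_dvd hprim x 7 (by norm_num) hxo 7 hs
      (by rw [h15])
    rw [h15, hG] at hJ
    revert hJ
    norm_num [Nat.factorial]
  · -- `N(P) = P` is abelian: Burnside
    rw [h120] at hNd
    have hN : Nat.card ↥(Subgroup.normalizer ((P : Subgroup G) : Set G)) = 49 := by omega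
    have hPN : (P : Subgroup G) ≤ Subgroup.normalizer ((P : Subgroup G) : Set G) :=
      Subgroup.le_normalizer
    have hNP : Subgroup.normalizer ((P : Subgroup G) : Set G) = (P : Subgroup G) := by
      symm
      apply Subgroup.eq_of_le_of_card_ge hPN
      rw [hN, hP]
    apply Cfsg.Agent.S1017.not_normalizer_le_centralizer P (by rw [hP]; norm_num)
      (by rw [hP, hG]; norm_num)
    rw [hNP]
    intro a ha
    rw [Subgroup.mem_centralizer_iff]
    intro b hb
    exact hPcomm b hb a ha

end Cfsg.Agent.Helper9.O6232
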