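import Mathlib
import Cfsg.Agent.Lib.Helper5.OrthLag12
import Cfsg.Agent.Lib.Helper43.OrthConj
import Cfsg.Agent.Lib.Helper14.SimForm
import Cfsg.Agent.Lib.Helper43.SpinorNorm

set_option autoImplicit false

/-! OSS piece (P4) for helper13's S2721 server: an isometry of order prime to the characteristic
fixing a nonzero vector fixes a nonsingular vector, and the reflection in it commutes with `t`. -/

namespace Cfsg.Agent.Helper9.OSS

open Matrix QuadraticMap Cfsg.Agent.Helper5.OrthAut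

variable {F : Type*} [Field F] {ι : Type} [Fintype ι] [DecidableEq ι]

theorem h9_iso_apply (Q : QuadraticForm F (ι → F)) (t : GL ι F)
    (ht : t ∈ Cfsg.isometryGroup F ⇑Q) (u : ι → F) :
    Q ((t : Matrix ι ι F) *ᵥ u) = Q u := ht u u

theorem h9_polar_iso (Q : QuadraticForm F (ι → F)) (t : GL ι F)
    (ht : t ∈ Cfsg.isometryGroup F ⇑Q) (u w : ι → F) :
    polar (⇑Q) ((t : Matrix ι ι F) *ᵥ u) ((t : Matrix ι ι F) *ᵥ w) = polar (⇑Q) u w := by
  unfold QuadraticMap.polar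
  rw [← Matrix.mulVec_add, h9_iso_apply Q t ht, h9_iso_apply Q t ht, h9_iso_apply Q t ht]

theorem h9_polar_fixed_pow (Q : QuadraticForm F (ι → F)) (t : GL ι F)
    (ht : t ∈ Cfsg.isometryGroup F ⇑Q) (v : ι → F) (hv : (t : Matrix ι ι F) *ᵥ v = v)
    (w : ι → F) (i : ℕ) :
    polar (⇑Q) v (((t : Matrix ι ι F) ^ i) *ᵥ w) = polar (⇑Q) v w := by
  induction i with
  | zero => simp
  | succ i ih =>
    rw [pow_succ', ← Matrix.mulVec_mulVec]
    calc polar (⇑Q) v ((t : Matrix ι ι F) *ᵥ (((t : Matrix ι ι F) ^ i) *ᵥ w))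
        = polar (⇑Q) ((t : Matrix ι ι F) *ᵥ v)
            ((t : Matrix ι ι F) *ᵥ (((t : Matrix ι ι F) ^ i) *ᵥ w)) := by rw [hv]
      _ = polar (⇑Q) v (((t : Matrix ι ι F) ^ i) *ᵥ w) := h9_polar_iso Q t ht _ _
      _ = polar (⇑Q) v w := ih

theorem h9_sum_fixed (T : Matrix ι ι F) (r : ℕ) (hT : T ^ r = 1) (w : ι → F) :
    T *ᵥ (∑ i ∈ Finset.range r, (T ^ i) *ᵥ w) = ∑ i ∈ Finset.range r, (T ^ i) *ᵥ w := by
  have h1 : T *ᵥ (∑ i ∈ Finset.range r, (T ^ i) *ᵥ w)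
      = ∑ i ∈ Finset.range r, (T ^ (i + 1)) *ᵥ w := by
    rw [Matrix.mulVec_sum]
    refine Finset.sum_congr rfl ?_
    intro i _
    rw [Matrix.mulVec_mulVec, pow_succ']
  rw [h1]
  have h2 := Finset.sum_range_succ' (fun i => (T ^ i) *ᵥ w) r
  have h3 := Finset.sum_range_succ (fun i => (T ^ i) *ᵥ w) r
  have h4 : (T ^ r) *ᵥ w = (T ^ 0) *ᵥ w := by rw [hT, pow_zero]
  rw [h4] at h3
  rw [h3] at h2
  exact (add_right_cancel h2).symm

theorem exists_fixed_refl (Q : QuadraticForm F (ι → F)) (hQ : (polarBilin Q).Nondegenerate)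
    (t : GL ι F) (ht : t ∈ Cfsg.isometryGroup F ⇑Q) (r : ℕ) (hrF : (r : F) ≠ 0)
    (htr : t ^ r = 1) (v₀ : ι → F) (hv₀ : v₀ ≠ 0) (hfix : (t : Matrix ι ι F) *ᵥ v₀ = v₀) :
    ∃ v : ι → F, Q v ≠ 0 ∧ (t : Matrix ι ι F) *ᵥ v = v ∧
      Cfsg.reflectionMatrix (⇑Q) v * (t : Matrix ι ι F) =
        (t : Matrix ι ι F) * Cfsg.reflectionMatrix (⇑Q) v := by
  have hT : (t : Matrix ι ι F) ^ r = 1 := by
    have := congrArg (fun g : GL ι F => (g : Matrix ι ι F)) htr
    simpa using this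
  -- existence of a nonsingular fixed vector
  have hex : ∃ v : ι → F, Q v ≠ 0 ∧ (t : Matrix ι ι F) *ᵥ v = v := by
    by_contra hcon
    push Not at hcon
    have hzero : ∀ v : ι → F, (t : Matrix ι ι F) *ᵥ v = v → Q v = 0 := by
      intro v hv
      by_contra hne
      exact hcon v hne hv
    apply hv₀
    apply hQ.1
    intro w
    set S : ι → F := ∑ i ∈ Finset.range r, ((t : Matrix ι ι F) ^ i) *ᵥ w with hS
    have hSfix : (t : Matrix ι ι F) *ᵥ S = S := h9_sum_fixed _ r hT w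
    have hsumfix : (t : Matrix ι ι F) *ᵥ (v₀ + S) = v₀ + S := by
      rw [Matrix.mulVec_add, hfix, hSfix]
    have hB0 : polar (⇑Q) v₀ S = 0 := by
      unfold QuadraticMap.polar
      rw [hzero _ hsumfix, hzero _ hfix, hzero _ hSfix]
      ring
    have hB1 : polar (⇑Q) v₀ S = (r : F) * polar (⇑Q) v₀ w := by
      rw [hS]
      have : polar (⇑Q) v₀ (∑ i ∈ Finset.range r, ((t : Matrix ι ι F) ^ i) *ᵥ w)
          = ∑ i ∈ Finset.range r, polar (⇑Q) v₀ (((t : Matrix ι ι F) ^ i) *ᵥ w) := by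
        exact map_sum (polarBilin Q v₀) (fun i => ((t : Matrix ι ι F) ^ i) *ᵥ w)
          (Finset.range r)
      rw [this]
      rw [Finset.sum_congr rfl (fun i _ => h9_polar_fixed_pow Q t ht v₀ hfix w i)]
      simp
    rw [hB1] at hB0
    have : polar (⇑Q) v₀ w = 0 := by
      rcases mul_eq_zero.mp hB0 with h | h
      · exact absurd h hrF
      · exact h
    simpa using this
  obtain ⟨v, hv, hvfix⟩ := hex
  refine ⟨v, hv, hvfix, ?_⟩
  apply Cfsg.Agent.Helper43.matrix_ext_mulVec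
  intro x
  rw [← Matrix.mulVec_mulVec, ← Matrix.mulVec_mulVec,
    Cfsg.Agent.Helper13.reflectionMatrix_mulVec, Cfsg.Agent.Helper13.reflectionMatrix_mulVec,
    Matrix.mulVec_sub, Matrix.mulVec_smul, hvfix]
  have : polar (⇑Q) v ((t : Matrix ι ι F) *ᵥ x) = polar (⇑Q) v x := by
    have := h9_polar_iso Q t ht v x
    rw [hvfix] at this
    exact this
  rw [this]

end Cfsg.Agent.Helper9.OSS
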