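import Mathlib
import Cfsg.Agent.Lib.Helper41.SL2NormCent

set_option autoImplicit false

/-!
# Subgroups of `SL₂(F)` generated by `p`-elements, with abelian Sylow `2`-subgroups (helper9)

* `eq_one_of_central_involution`: transfer into an abelian `2`-subgroup of odd index kills a group
  generated by elements of odd order, so such a group has no central involution.
* `isPGroup_of_generated_sl2`: a finite subgroup of `SL₂(F)`, `char F = p` odd, generated by elements
  of order dividing `p` and having an abelian `2`-subgroup of odd index, is a `p`-group.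
-/

namespace Cfsg.Agent.Helper9

open scoped IsMulCommutative in
/-- A group generated by elements of odd order, with an abelian `2`-subgroup of odd index, has no
central involution. -/
theorem eq_one_of_central_involution {K : Type*} [Group K] [Finite K] (X : Set K)
    (hX : Subgroup.closure X = ⊤) (hXo : ∀ x ∈ X, Odd (orderOf x)) (A : Subgroup K)
    [hAc : IsMulCommutative A] (hA2 : IsPGroup 2 A) (hAi : Odd A.index) (z : K)
    (hz : z ∈ Subgroup.center K) (hz2 : z * z = 1) : z = 1 := by
  classical
  set V : K →* A := MonoidHom.transfer (MonoidHom.id A) with hV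
  -- V kills the generators
  have hgen : ∀ x ∈ X, V x = 1 := by
    intro x hx
    obtain ⟨k, hk⟩ := hA2 (V x)
    have h1 : orderOf (V x) ∣ 2 ^ k := orderOf_dvd_of_pow_eq_one hk
    have h2 : orderOf (V x) ∣ orderOf x := orderOf_map_dvd V x
    have h3 : Odd (orderOf (V x)) := (hXo x hx).of_dvd_nat h2
    have h4 : orderOf (V x) = 1 := by
      rcases (Nat.dvd_prime_pow Nat.prime_two).mp h1 with ⟨j, -, hj⟩
      rcases Nat.eq_zero_or_pos j with rfl | hjpos
      · simpa using hj
      · exfalso
        rw [hj] at h3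
        exact (Nat.not_even_iff_odd.mpr h3) (Nat.even_pow.mpr ⟨even_two, hjpos.ne'⟩)
    exact orderOf_eq_one_iff.mp h4
  have hker : (⊤ : Subgroup K) ≤ V.ker := by
    rw [← hX, Subgroup.closure_le]
    intro x hx
    exact MonoidHom.mem_ker.mpr (hgen x hx)
  have hVz : V z = 1 := MonoidHom.mem_ker.mp (hker (Subgroup.mem_top z))
  -- but V z = z ^ index
  have key : ∀ (k : ℕ) (g₀ : K), g₀⁻¹ * z ^ k * g₀ ∈ A → g₀⁻¹ * z ^ k * g₀ = z ^ k := by
    intro k g₀ _
    have hc : z ^ k ∈ Subgroup.center K := (Subgroup.center K).pow_mem hz k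
    have := (Subgroup.mem_center_iff.mp hc) g₀
    calc g₀⁻¹ * z ^ k * g₀ = g₀⁻¹ * (z ^ k * g₀) := by group
      _ = g₀⁻¹ * (g₀ * z ^ k) := by rw [this]
      _ = z ^ k := by group
  have hpow := MonoidHom.transfer_eq_pow (MonoidHom.id A) z key
  rw [← hV, hVz] at hpow
  have h5 : z ^ A.index = 1 := by
    have := congrArg Subtype.val hpow
    simpa using this.symm
  obtain ⟨m, hm⟩ := hAi
  rw [hm, pow_succ, pow_mul, pow_two, hz2, one_pow, one_mul] at h5
  exact h5

section sl2

variable {F : Type*} [Field F]

/-- An involution of `SL₂(F)`, `2 ≠ 0` in `F`, is central. -/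
theorem sl2_mem_center_of_mul_self_eq_one (h2 : (2 : F) ≠ 0)
    (z : Matrix.SpecialLinearGroup (Fin 2) F) (hz : z * z = 1) :
    z ∈ Subgroup.center (Matrix.SpecialLinearGroup (Fin 2) F) := by
  rw [Helper41.sl2_mem_center_iff]
  have hdet : (z : Matrix (Fin 2) (Fin 2) F).det = 1 := z.2
  rw [Matrix.det_fin_two] at hdet
  have hzz : (z : Matrix (Fin 2) (Fin 2) F) * (z : Matrix (Fin 2) (Fin 2) F) = 1 := by
    rw [← Matrix.SpecialLinearGroup.coe_mul, hz, Matrix.SpecialLinearGroup.coe_one]
  have e00 := congrFun (congrFun hzz 0) 0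
  have e01 := congrFun (congrFun hzz 0) 1
  have e10 := congrFun (congrFun hzz 1) 0
  have e11 := congrFun (congrFun hzz 1) 1
  simp only [Matrix.mul_apply, Fin.sum_univ_two, Matrix.one_apply_eq, Matrix.one_apply_ne,
    ne_eq, Fin.zero_eq_one_iff, Fin.one_eq_zero_iff, OfNat.ofNat_ne_one, not_false_eq_true]
    at e00 e01 e10 e11
  set a := (z : Matrix (Fin 2) (Fin 2) F) 0 0 with ha
  set b := (z : Matrix (Fin 2) (Fin 2) F) 0 1 with hb
  set c := (z : Matrix (Fin 2) (Fin 2) F) 1 0 with hc
  set d := (z : Matrix (Fin 2) (Fin 2) F) 1 1 with hd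
  have hs : a + d ≠ 0 := by
    intro h0
    have hd' : d = -a := by linear_combination h0
    have : (2 : F) = 0 := by
      rw [hd'] at hdet e11
      linear_combination -e00 - hdet
    exact h2 this
  have hb0 : b = 0 := by
    have : b * (a + d) = 0 := by linear_combination e01
    exact (mul_eq_zero.mp this).resolve_right hs
  have hc0 : c = 0 := by
    have : c * (a + d) = 0 := by linear_combination e10
    exact (mul_eq_zero.mp this).resolve_right hs
  have had : a = d := by
    have h1 : a * d = 1 := by rw [hb0] at hdet; linear_combination hdet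
    have h2' : a * a = 1 := by rw [hb0] at e00; linear_combination e00
    have h3 : a * (a - d) = 0 := by linear_combination h2' - h1
    have ha0 : a ≠ 0 := by
      intro h0; rw [h0] at h1; simp at h1
    have := (mul_eq_zero.mp h3).resolve_left ha0
    linear_combination this
  have haa : (a - 1) * (a + 1) = 0 := by rw [hb0] at e00; linear_combination e00
  rcases mul_eq_zero.mp haa with h | h
  · left
    have ha1 : a = 1 := by linear_combination h
    ext i j
    fin_cases i <;> fin_cases j
    · simpa [ha] using ha1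
    · simpa [hb] using hb0
    · simpa [hc] using hc0
    · show d = _
      rw [← had, ha1]; simp
  · right
    have ha1 : a = -1 := by linear_combination h
    ext i j
    fin_cases i <;> fin_cases j
    · simpa [ha] using ha1
    · simpa [hb] using hb0
    · simpa [hc] using hc0
    · show d = _
      rw [← had, ha1]; simp

/-- A finite subgroup of `SL₂(F)` (`char F = p` odd) generated by elements of order dividing `p` and
possessing an abelian `2`-subgroup of odd index is a `p`-group. -/
theorem isPGroup_of_generated_sl2 (p : ℕ) [hp : Fact p.Prime] [CharP F p] (hp2 : p ≠ 2)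
    {K : Type*} [Group K] [Finite K] (φ : K →* Matrix.SpecialLinearGroup (Fin 2) F)
    (hφ : Function.Injective φ) (X : Set K) (hX : Subgroup.closure X = ⊤)
    (hXp : ∀ x ∈ X, x ^ p = 1) (A : Subgroup K) [IsMulCommutative A] (hA2 : IsPGroup 2 A)
    (hAi : Odd A.index) : IsPGroup p K := by
  classical
  have hpodd : Odd p := hp.out.odd_of_ne_two hp2
  have h2F : (2 : F) ≠ 0 := by
    intro h0
    have h1 : ((2 : ℕ) : F) = 0 := by exact_mod_cast h0
    have h2 := (CharP.cast_eq_zero_iff F p 2).mp h1
    have := (Nat.prime_dvd_prime_iff_eq hp.out Nat.prime_two).mp h2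
    exact hp2 this
  have hXo : ∀ x ∈ X, Odd (orderOf x) := by
    intro x hx
    exact hpodd.of_dvd_nat (orderOf_dvd_of_pow_eq_one (hXp x hx))
  have hodd : Odd (Nat.card K) := by
    by_contra hcon
    have heven : Even (Nat.card K) := Nat.not_odd_iff_even.mp hcon
    have h2 : 2 ∣ Nat.card K := heven.two_dvd
    haveI : Fact (Nat.Prime 2) := ⟨Nat.prime_two⟩
    obtain ⟨z, hz⟩ := exists_prime_orderOf_dvd_card' 2 h2
    have hzz : z * z = 1 := by rw [← pow_two, ← hz]; exact pow_orderOf_eq_one z
    have hz1 : z ≠ 1 := by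
      intro h; rw [h, orderOf_one] at hz; omega
    have hφz : φ z * φ z = 1 := by rw [← map_mul, hzz, map_one]
    have hc := sl2_mem_center_of_mul_self_eq_one h2F (φ z) hφz
    have hzc : z ∈ Subgroup.center K := by
      rw [Subgroup.mem_center_iff]
      intro g
      apply hφ
      rw [map_mul, map_mul]
      exact (Subgroup.mem_center_iff.mp hc) (φ g)
    exact hz1 (eq_one_of_central_involution X hX hXo A hA2 hAi z hzc hzz)
  obtain ⟨P⟩ : Nonempty (Sylow p K) := inferInstance
  have hall : ∀ x ∈ X, x ∈ (P : Subgroup K) := by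
    intro x hx
    have hzp : IsPGroup p (Subgroup.zpowers x) := by
      rintro ⟨y, hy⟩
      obtain ⟨j, rfl⟩ := Subgroup.mem_zpowers_iff.mp hy
      refine ⟨1, Subtype.ext ?_⟩
      simp only [pow_one, Subgroup.coe_pow, Subgroup.coe_one]
      rw [← zpow_natCast, ← zpow_mul, mul_comm, zpow_mul, zpow_natCast, hXp x hx, one_zpow]
    obtain ⟨Q, hQ⟩ := hzp.exists_le_sylow
    have := Helper41.sylow_char_unique_of_odd p hodd φ hφ Q P
    rw [← this]
    exact hQ (Subgroup.mem_zpowers x)
  have htop : (⊤ : Subgroup K) ≤ (P : Subgroup K) := by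
    rw [← hX, Subgroup.closure_le]
    exact hall
  intro g
  obtain ⟨k, hk⟩ := P.isPGroup' ⟨g, htop (Subgroup.mem_top g)⟩
  refine ⟨k, ?_⟩
  have := congrArg Subtype.val hk
  simpa using this

end sl2

end Cfsg.Agent.Helper9
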