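import Mathlib
import Cfsg.Prelude.Def_PLocal
import Cfsg.Agent.Lib.Helper10.PStableSolv
import Cfsg.Agent.Lib.Helper9.QuadSylowTwo
import Cfsg.Agent.Lib.Helper67.BaerSuzuki

/-!
# Groups with abelian Sylow `2`-subgroups are `p`-stable (`p` odd)  (helper9)
-/

set_option autoImplicit false

namespace Cfsg.Agent.Helper9

open Cfsg Cfsg.Agent.Helper10

open scoped commutatorElement

universe u v w

/-- All Sylow `2`-subgroups are abelian. -/
def AbSylTwo (G : Type*) [Group G] : Prop := ∀ T : Sylow 2 G, IsMulCommutative T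

theorem AbSylTwo.of_surjective {G G' : Type*} [Group G] [Finite G] [Group G'] (h : AbSylTwo G)
    (f : G →* G') (hf : Function.Surjective f) : AbSylTwo G' := by
  intro T'
  haveI : Fact (Nat.Prime 2) := ⟨Nat.prime_two⟩
  obtain ⟨T, rfl⟩ := Sylow.mapSurjective_surjective hf 2 T'
  have hT : IsMulCommutative ↥(T : Subgroup G) := h T
  show IsMulCommutative ↥((T : Subgroup G).map f)
  infer_instance

theorem AbSylTwo.subgroup {G : Type*} [Group G] [Finite G] (h : AbSylTwo G) (K : Subgroup G) :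
    AbSylTwo K := by
  intro T₀
  haveI : Fact (Nat.Prime 2) := ⟨Nat.prime_two⟩
  set T₀' : Subgroup G := (T₀ : Subgroup K).map K.subtype with hT₀'
  have hT₀p : IsPGroup 2 T₀' := T₀.isPGroup'.map _
  obtain ⟨Q, hQ⟩ := hT₀p.exists_le_sylow
  have hQc : IsMulCommutative ↥(Q : Subgroup G) := h Q
  refine ⟨⟨fun x y => ?_⟩⟩
  have hx : K.subtype (x : K) ∈ (Q : Subgroup G) := hQ ⟨_, x.2, rfl⟩
  have hy : K.subtype (y : K) ∈ (Q : Subgroup G) := hQ ⟨_, y.2, rfl⟩
  have h1 := mul_comm' (⟨_, hx⟩ : ↥(Q : Subgroup G)) ⟨_, hy⟩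
  have h2 := congrArg Subtype.val h1
  simp only [Subgroup.coe_mul] at h2
  rw [← map_mul, ← map_mul] at h2
  exact Subtype.ext (K.subtype_injective h2)

/-- Representation-level form of the quadratic pair theorem: a finite group generated by two
quadratic elements, faithful on a `ZMod p`-module (`p` odd), with an abelian Sylow `2`-subgroup, is a
`p`-group. -/
theorem isPGroup_of_quadratic_pair_rep {Γ : Type w} [Group Γ] [Finite Γ] {p : ℕ} [Fact p.Prime]
    (hp : p ≠ 2) {M : Type v} [AddCommGroup M] [Module (ZMod p) M] [Finite M]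
    (ρ : Γ →* Module.End (ZMod p) M) (hρinj : Function.Injective ρ) (a b : Γ)
    (hgen : Subgroup.closure {a, b} = ⊤)
    (hqa : ∀ m, ρ a (ρ a m - m) = ρ a m - m) (hqb : ∀ m, ρ b (ρ b m - m) = ρ b m - m)
    (T : Sylow 2 Γ) (hTc : IsMulCommutative T) : IsPGroup p Γ := by
  classical
  have hpp : p.Prime := Fact.out
  by_contra hnp
  have hex : ∃ h' : Γ, h' ≠ 1 ∧ (orderOf h').Coprime p := by
    by_contra hcon
    push Not at hcon
    apply hnp
    intro g
    have ho : orderOf g ≠ 0 := (orderOf_pos g).ne'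
    obtain ⟨e, k, hpk, hek⟩ := Nat.exists_eq_pow_mul_and_not_dvd ho p hpp.ne_one
    refine ⟨e, ?_⟩
    by_contra hg1
    apply hcon (g ^ p ^ e) hg1
    have h1 : orderOf (g ^ p ^ e) ∣ k := by
      apply orderOf_dvd_of_pow_eq_one
      rw [← pow_mul, ← hek]; exact pow_orderOf_eq_one g
    have h2 : Nat.Coprime k p := ((Nat.Prime.coprime_iff_not_dvd hpp).mpr hpk).symm
    exact Nat.Coprime.coprime_dvd_left h1 h2
  obtain ⟨h', hh'1, hoh⟩ := hex
  have hρh : ρ h' ≠ 1 := fun h0 => hh'1 (hρinj (by rw [h0, map_one]))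
  obtain ⟨F, _, _, _, φ, hφ⟩ := exists_field_sl2_hom ρ a b hgen hqa hqb h' hρh hoh
  have hap : a ^ p = 1 := by
    apply hρinj
    rw [map_pow, map_one]
    exact pow_char_eq_one_of_quad (K := ZMod p) (p := p) (ρ a) hqa
  have hbp : b ^ p = 1 := by
    apply hρinj
    rw [map_pow, map_one]
    exact pow_char_eq_one_of_quad (K := ZMod p) (p := p) (ρ b) hqb
  set ψ : Γ →* φ.range := φ.rangeRestrict with hψ
  have hψs : Function.Surjective ψ := φ.rangeRestrict_surjective
  have hTc' : IsMulCommutative ↥(T : Subgroup Γ) := hTc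
  set A : Subgroup φ.range := (T : Subgroup Γ).map ψ with hA
  have hA2 : IsPGroup 2 A := T.isPGroup'.map ψ
  have hAi : Odd A.index := by
    have h1 : A.index ∣ (T : Subgroup Γ).index := Subgroup.index_map_dvd _ hψs
    have h2 : ¬ 2 ∣ (T : Subgroup Γ).index := T.not_dvd_index
    have h3 : ¬ 2 ∣ A.index := fun h => h2 (h.trans h1)
    exact Nat.odd_iff.mpr (Nat.two_dvd_ne_zero.mp h3)
  have hX : Subgroup.closure ({ψ a, ψ b} : Set φ.range) = ⊤ := by
    have := congrArg (Subgroup.map ψ) hgen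
    rw [MonoidHom.map_closure, Set.image_pair, Subgroup.map_top_of_surjective ψ hψs] at this
    exact this
  have hXp : ∀ x ∈ ({ψ a, ψ b} : Set φ.range), x ^ p = 1 := by
    intro x hx
    rcases hx with rfl | hx
    · rw [← map_pow, hap, map_one]
    · rw [Set.mem_singleton_iff] at hx; subst hx
      rw [← map_pow, hbp, map_one]
  have hKp := isPGroup_of_generated_sl2 p hp φ.range.subtype
    (Subgroup.subtype_injective _) _ hX hXp A hA2 hAi
  obtain ⟨k, hk⟩ := hKp (ψ h')
  have h1 : orderOf (ψ h') ∣ p ^ k := orderOf_dvd_of_pow_eq_one hk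
  have h2 : orderOf (ψ h') ∣ orderOf h' := orderOf_map_dvd ψ h'
  have h3 : orderOf (ψ h') ∣ Nat.gcd (orderOf h') (p ^ k) := Nat.dvd_gcd h2 h1
  rw [Nat.Coprime.gcd_eq_one (hoh.pow_right k), Nat.dvd_one] at h3
  have h4 : ψ h' = 1 := orderOf_eq_one_iff.mp h3
  apply hφ
  have := congrArg Subtype.val h4
  simpa [hψ] using this

/-- `p`-stability at the level of representations: a quadratic element of a finite group with abelian
Sylow `2`-subgroups acting faithfully on a `ZMod p`-module (`p` odd) lies in `O_p`. -/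
theorem mem_pCore_of_quadratic_rep {Γ : Type w} [Group Γ] [Finite Γ] {p : ℕ} [Fact p.Prime]
    (hp : p ≠ 2) (hab : AbSylTwo Γ) {M : Type v} [AddCommGroup M] [Module (ZMod p) M] [Finite M]
    (ρ : Γ →* Module.End (ZMod p) M) (hρ : Function.Injective ρ)
    (a : Γ) (hqa : ∀ m, ρ a (ρ a m - m) = ρ a m - m) : a ∈ pCore p Γ := by
  classical
  by_contra hna
  have hBS : ∃ g : Γ, ¬ IsPGroup p ↥(Subgroup.closure {a, g * a * g⁻¹}) := by
    by_contra hcon
    simp only [not_exists, not_not] at hcon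
    obtain ⟨N, hN, hNp, hle⟩ := Cfsg.Agent.Helper67.baer_suzuki (p := p) (Subgroup.zpowers a) (by
      intro g
      have : Subgroup.zpowers a ⊔ (Subgroup.zpowers a).map (MulAut.conj g).toMonoidHom =
          Subgroup.closure {a, g * a * g⁻¹} := by
        rw [MonoidHom.map_zpowers, Subgroup.zpowers_eq_closure, Subgroup.zpowers_eq_closure,
          ← Subgroup.closure_union]
        rfl
      rw [this]
      exact hcon g)
    have h1 : N ≤ pCore p Γ := le_sSup ⟨hN, hNp⟩
    exact hna (h1 (hle (Subgroup.mem_zpowers a)))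
  obtain ⟨g, hg⟩ := hBS
  set b := g * a * g⁻¹ with hb
  set Γ₀ : Subgroup Γ := Subgroup.closure {a, b} with hΓ₀
  have haΓ : a ∈ Γ₀ := Subgroup.subset_closure (by simp)
  have hbΓ : b ∈ Γ₀ := Subgroup.subset_closure (by simp)
  set a₀ : Γ₀ := ⟨a, haΓ⟩ with ha₀
  set b₀ : Γ₀ := ⟨b, hbΓ⟩ with hb₀
  have hgen : Subgroup.closure {a₀, b₀} = (⊤ : Subgroup Γ₀) := by
    apply Subgroup.map_injective Γ₀.subtype_injective
    rw [MonoidHom.map_closure, ← MonoidHom.range_eq_map, Subgroup.range_subtype]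
    rw [Set.image_pair]
    rfl
  set ρ₀ : Γ₀ →* Module.End (ZMod p) M := ρ.comp Γ₀.subtype with hρ₀
  have hρ₀inj : Function.Injective ρ₀ := hρ.comp Γ₀.subtype_injective
  have hqa₀ : ∀ m, ρ₀ a₀ (ρ₀ a₀ m - m) = ρ₀ a₀ m - m := hqa
  have hqb₀ : ∀ m, ρ₀ b₀ (ρ₀ b₀ m - m) = ρ₀ b₀ m - m := quad_conj_of_quad ρ a g hqa
  obtain ⟨T₀⟩ : Nonempty (Sylow 2 Γ₀) := inferInstance
  exact hg (isPGroup_of_quadratic_pair_rep hp ρ₀ hρ₀inj a₀ b₀ hgen hqa₀ hqb₀ T₀
    (hab.subgroup Γ₀ T₀))

section stable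

variable {G : Type u} [Group G]

/-- **`p`-stability of groups with abelian Sylow `2`-subgroups** on a normal elementary abelian
subgroup. -/
theorem isPStableOn_of_abSylTwo [Finite G] {p : ℕ} [Fact p.Prime] (hp : p ≠ 2)
    (hab : AbSylTwo G) (V : Subgroup G) [hVn : V.Normal] (hV : IsElementaryAbelian p V) :
    IsPStableOn p V := by
  intro a hq
  set C := Subgroup.centralizer (V : Set G) with hC
  have hker : C ≤ (conjRepNormal hV).ker := by
    intro c hc
    rw [MonoidHom.mem_ker, conjRepNormal_eq_one_iff]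
    exact hc
  set ρ : G ⧸ C →* Module.End (ZMod p) (ElemAbAdd p V hV) :=
    QuotientGroup.lift C (conjRepNormal hV) hker with hρ
  have hρinj : Function.Injective ρ := by
    rw [injective_iff_map_eq_one]
    intro q hq1
    obtain ⟨g, rfl⟩ := QuotientGroup.mk_surjective q
    rw [hρ, QuotientGroup.lift_mk, conjRepNormal_eq_one_iff] at hq1
    exact (QuotientGroup.eq_one_iff g).mpr hq1
  have hqa : ∀ m, ρ (QuotientGroup.mk a) (ρ (QuotientGroup.mk a) m - m) =
      ρ (QuotientGroup.mk a) m - m := by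
    intro m
    rw [hρ, QuotientGroup.lift_mk]
    exact conjRepNormal_quadratic hV a hq m
  exact mem_pCore_of_quadratic_rep hp
    (hab.of_surjective (QuotientGroup.mk' C) (QuotientGroup.mk'_surjective C)) ρ hρinj
    (QuotientGroup.mk a) hqa

/-- **`p`-stability of groups with abelian Sylow `2`-subgroups** on an elementary abelian section. -/
theorem isPStableOnSection_of_abSylTwo [Finite G] {p : ℕ} [Fact p.Prime] (hp : p ≠ 2)
    (hab : AbSylTwo G) (K N : Subgroup G) [hKn : K.Normal] [hNn : N.Normal]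
    (hcomm : ∀ x ∈ K, ∀ y ∈ K, ⁅x, y⁆ ∈ N) (hpow : ∀ x ∈ K, x ^ p ∈ N) :
    IsPStableOnSection p K N := by
  intro a hq
  set π := QuotientGroup.mk' N with hπ
  have hπs : Function.Surjective π := QuotientGroup.mk'_surjective N
  set V : Subgroup (G ⧸ N) := K.map π with hVdef
  haveI hVn : V.Normal := hKn.map π hπs
  have hV : IsElementaryAbelian p V := by
    rw [isElementaryAbelian_iff]
    constructor
    · rintro _ ⟨x, hx, rfl⟩ _ ⟨y, hy, rfl⟩
      have h1 := hcomm x hx y hy
      have h2 : π ⁅x, y⁆ = 1 := (QuotientGroup.eq_one_iff _).mpr h1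
      rw [map_commutatorElement, commutatorElement_eq_one_iff_mul_comm] at h2
      exact h2
    · rintro _ ⟨x, hx, rfl⟩
      rw [← map_pow]
      exact (QuotientGroup.eq_one_iff _).mpr (hpow x hx)
  have hst := isPStableOn_of_abSylTwo hp (hab.of_surjective π hπs) V hV
  have hq' : ⁅⁅V, Subgroup.zpowers (π a)⁆, Subgroup.zpowers (π a)⁆ = ⊥ := by
    rw [hVdef, ← MonoidHom.map_zpowers, ← Subgroup.map_commutator, ← Subgroup.map_commutator,
      Subgroup.map_eq_bot_iff, QuotientGroup.ker_mk']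
    exact hq
  have hmem := hst (π a) hq'
  set C := Subgroup.centralizer (V : Set (G ⧸ N)) with hC
  set π₂ := QuotientGroup.mk' C with hπ₂
  have hπ₂s : Function.Surjective π₂ := QuotientGroup.mk'_surjective C
  set Q := pCore p ((G ⧸ N) ⧸ C) with hQ
  set D' : Subgroup (G ⧸ N) := Q.comap π₂ with hD'
  have hsk : sectionKernel K N = C.comap π := rfl
  refine ⟨D'.comap π, inferInstance, ?_, ?_, ?_⟩
  · rw [hsk]
    apply Subgroup.comap_mono
    intro c hc
    rw [hD', Subgroup.mem_comap]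
    have : π₂ c = 1 := (QuotientGroup.eq_one_iff c).mpr hc
    rw [this]; exact Q.one_mem
  · obtain ⟨k, hk⟩ := IsPGroup.iff_card.mp (Cfsg.Agent.Helper54.isPGroup_pCore (p := p)
      (G := (G ⧸ N) ⧸ C))
    refine ⟨k, ?_⟩
    rw [hsk, Subgroup.relIndex_comap, Subgroup.map_comap_eq_self_of_surjective hπs]
    have h1 := relIndex_ker_comap (QuotientGroup.mk' C) (QuotientGroup.mk'_surjective C) Q
    rw [QuotientGroup.ker_mk'] at h1
    rw [hD', hπ₂, h1]
    exact hk
  · rw [Subgroup.mem_comap, hD', Subgroup.mem_comap]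
    exact hmem

end stable

end Cfsg.Agent.Helper9
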