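import Mathlib

set_option autoImplicit false

namespace Cfsg.Agent.Helper9

open Subgroup

/-- primary decomposition: an element all of whose prime-power-order powers lie in `S`
lies in `S`. -/
theorem mem_of_forall_primePow_pow_mem {G : Type*} [Group G] (S : Subgroup G) :
    ∀ (n : ℕ) (g : G), orderOf g = n → 0 < n →
      (∀ k : ℕ, (∃ p a : ℕ, p.Prime ∧ orderOf (g ^ k) = p ^ a) → g ^ k ∈ S) → g ∈ S := by
  intro n
  induction n using Nat.strong_induction_on with
  | _ n ih =>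
  intro g hn hpos h
  by_cases h1 : n = 1
  · have : g = 1 := orderOf_eq_one_iff.mp (hn.trans h1)
    rw [this]; exact S.one_mem
  set p := n.minFac with hp
  have hpp : p.Prime := Nat.minFac_prime h1
  have hpn : p ∣ n := Nat.minFac_dvd n
  obtain ⟨a, m, hpm, hnm⟩ := Nat.exists_eq_pow_mul_and_not_dvd hpos.ne' p hpp.ne_one
  by_cases hm1 : m = 1
  · have := h 1 ⟨p, a, hpp, by rw [pow_one, hn, hnm, hm1, mul_one]⟩
    rwa [pow_one] at this
  have hm0 : m ≠ 0 := by
    rintro rfl; exact hpm (dvd_zero p)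
  have ha0 : a ≠ 0 := by
    rintro rfl
    rw [pow_zero, one_mul] at hnm
    rw [hnm] at hpn
    exact hpm hpn
  have hpa2 : 2 ≤ p ^ a := by
    calc 2 ≤ p := hpp.two_le
      _ = p ^ 1 := (pow_one p).symm
      _ ≤ p ^ a := Nat.pow_le_pow_right hpp.pos (Nat.one_le_iff_ne_zero.mpr ha0)
  have hm2 : 2 ≤ m := by omega
  have hpa0 : p ^ a ≠ 0 := pow_ne_zero _ hpp.ne_zero
  -- g1 = g^(p^a) has order m, g2 = g^m has order p^a
  have ho1 : orderOf (g ^ (p ^ a)) = m := by
    rw [orderOf_pow_of_dvd hpa0 (by rw [hn, hnm]; exact dvd_mul_right _ _), hn, hnm,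
      Nat.mul_div_cancel_left _ (Nat.pos_of_ne_zero hpa0)]
  have ho2 : orderOf (g ^ m) = p ^ a := by
    rw [orderOf_pow_of_dvd hm0 (by rw [hn, hnm]; exact dvd_mul_left _ _), hn, hnm,
      Nat.mul_div_cancel _ (Nat.pos_of_ne_zero hm0)]
  have hlt1 : m < n := by
    rw [hnm]; nlinarith
  have hlt2 : p ^ a < n := by
    rw [hnm]; nlinarith [Nat.pos_of_ne_zero hpa0]
  have hg1 : g ^ (p ^ a) ∈ S := by
    apply ih m hlt1 _ ho1 (Nat.pos_of_ne_zero hm0)
    intro k hk
    rw [← pow_mul] at hk ⊢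
    exact h _ hk
  have hg2 : g ^ m ∈ S := by
    apply ih (p ^ a) hlt2 _ ho2 (Nat.pos_of_ne_zero hpa0)
    intro k hk
    rw [← pow_mul] at hk ⊢
    exact h _ hk
  have hcop : Nat.Coprime (p ^ a) m :=
    Nat.Coprime.pow_left a ((Nat.Prime.coprime_iff_not_dvd hpp).mpr hpm)
  have hb := Int.gcd_eq_gcd_ab (p ^ a : ℕ) (m : ℕ)
  have hgcd : Int.gcd ((p ^ a : ℕ) : ℤ) (m : ℤ) = 1 := by
    rw [Int.gcd_natCast_natCast]; exact hcop
  rw [hgcd] at hb
  have : g = (g ^ (p ^ a)) ^ (Int.gcdA ((p ^ a : ℕ) : ℤ) (m : ℤ)) *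
      (g ^ m) ^ (Int.gcdB ((p ^ a : ℕ) : ℤ) (m : ℤ)) := by
    rw [← zpow_natCast g (p ^ a), ← zpow_natCast g m, ← zpow_mul, ← zpow_mul, ← zpow_add, ← hb]
    simp
  rw [this]
  exact S.mul_mem (S.zpow_mem hg1 _) (S.zpow_mem hg2 _)

section

variable {N : Type*} [CommGroup N]

/-- fixed points of an automorphism -/
def fixSub (x : MulAut N) : Subgroup N where
  carrier := {v | x v = v}
  one_mem' := map_one x
  mul_mem' := by
    intro a b ha hb
    show x (a * b) = a * b
    rw [map_mul, show x a = a from ha, show x b = b from hb]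
  inv_mem' := by
    intro a ha
    show x a⁻¹ = a⁻¹
    rw [map_inv, show x a = a from ha]

theorem mem_fixSub {x : MulAut N} {v : N} : v ∈ fixSub x ↔ x v = v := Iff.rfl

/-- the commutator map `v ↦ x v / v` -/
def deltaHom (x : MulAut N) : N →* N where
  toFun v := x v / v
  map_one' := by simp
  map_mul' a b := by rw [map_mul]; exact mul_div_mul_comm _ _ _ _

@[simp] theorem deltaHom_apply (x : MulAut N) (v : N) : deltaHom x v = x v / v := rfl

/-- the commutator subgroup `[N, x]` -/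
def comSub (x : MulAut N) : Subgroup N := (deltaHom x).range

theorem mem_comSub {x : MulAut N} {w : N} : w ∈ comSub x ↔ ∃ v, x v / v = w := Iff.rfl

theorem div_mem_comSub (x : MulAut N) (v : N) : x v / v ∈ comSub x := ⟨v, rfl⟩

theorem ker_deltaHom (x : MulAut N) : (deltaHom x).ker = fixSub x := by
  ext v
  rw [MonoidHom.mem_ker, deltaHom_apply, div_eq_one, mem_fixSub]

theorem card_fix_mul_card_com [Finite N] (x : MulAut N) :
    Nat.card (fixSub x) * Nat.card (comSub x) = Nat.card N := by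
  have h := (deltaHom x).ker.card_mul_index
  rw [Subgroup.index_ker, ker_deltaHom] at h
  exact h

theorem apply_mem_comSub {x : MulAut N} {w : N} (hw : w ∈ comSub x) : x w ∈ comSub x := by
  obtain ⟨v, rfl⟩ := hw
  exact ⟨x v, by rw [deltaHom_apply, deltaHom_apply, map_div]⟩

theorem pow_apply_of_fix {x : MulAut N} {v w : N} (hw : x v / v = w) (hf : x w = w) (k : ℕ) :
    (x ^ k) v = w ^ k * v := by
  induction k with
  | zero => simp
  | succ k ih =>
    rw [pow_succ', MulAut.mul_apply, ih, map_mul, map_pow, hf, pow_succ]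
    have : x v = w * v := by rw [← hw]; simp
    rw [this, mul_assoc]

theorem fix_inf_com {r : ℕ} (hexp : ∀ v : N, v ^ r = 1) (x : MulAut N)
    (hcop : (orderOf x).Coprime r) : fixSub x ⊓ comSub x = ⊥ := by
  rw [eq_bot_iff]
  rintro w ⟨hf, v, hv⟩
  rw [mem_bot]
  have h1 := pow_apply_of_fix hv hf (orderOf x)
  rw [pow_orderOf_eq_one, MulAut.one_apply] at h1
  have h2 : w ^ orderOf x = 1 := by
    have : w ^ orderOf x * v = 1 * v := by rw [one_mul]; exact h1.symm
    exact mul_right_cancel this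
  have h3 : orderOf w ∣ Nat.gcd (orderOf x) r :=
    Nat.dvd_gcd (orderOf_dvd_of_pow_eq_one h2) (orderOf_dvd_of_pow_eq_one (hexp w))
  rw [hcop] at h3
  exact orderOf_eq_one_iff.mp (Nat.dvd_one.mp h3)

theorem exists_fix_mul_com [Finite N] {r : ℕ} (hexp : ∀ v : N, v ^ r = 1) (x : MulAut N)
    (hcop : (orderOf x).Coprime r) (v : N) : ∃ c ∈ fixSub x, ∃ d ∈ comSub x, c * d = v := by
  have h1 := isComplement'_of_card_mul_and_disjoint (card_fix_mul_card_com x)
    (disjoint_iff.mpr (fix_inf_com hexp x hcop))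
  have h2 := h1.sup_eq_top
  have : v ∈ fixSub x ⊔ comSub x := by rw [h2]; exact mem_top v
  exact Subgroup.mem_sup.mp this

theorem com_eq_top_of_fix_eq_bot [Finite N] (x : MulAut N) (h : fixSub x = ⊥) :
    comSub x = ⊤ := by
  have h1 := card_fix_mul_card_com x
  rw [h, Subgroup.card_bot, one_mul] at h1
  exact Subgroup.eq_top_of_card_eq _ h1

theorem eq_one_of_fix_eq_top (x : MulAut N) (h : fixSub x = ⊤) : x = 1 := by
  ext v
  have : v ∈ fixSub x := by rw [h]; exact mem_top v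
  rw [MulAut.one_apply]
  exact this

/-- a nontrivial element of a cyclic group of prime order generates it -/
theorem mem_zpowers_of_mem_zpowers_prime {r : ℕ} [hr : Fact r.Prime] {u w : N}
    (hw : w ^ r = 1) (hu : u ∈ zpowers w) (hu1 : u ≠ 1) : w ∈ zpowers u := by
  have hw1 : w ≠ 1 := by
    rintro rfl
    rw [zpowers_one_eq_bot, mem_bot] at hu
    exact hu1 hu
  have how : orderOf w = r := orderOf_eq_prime hw hw1
  have hur : u ^ r = 1 := by
    obtain ⟨k, rfl⟩ := mem_zpowers_iff.mp hu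
    rw [← zpow_natCast, ← zpow_mul, mul_comm, zpow_mul, zpow_natCast, hw, one_zpow]
  have hou : orderOf u = r := orderOf_eq_prime hur hu1
  have hle : zpowers u ≤ zpowers w := zpowers_le.mpr hu
  have hfin : Finite (zpowers w) := by
    rw [← Nat.card_pos_iff.trans ⟨fun h => h.2, fun h => ⟨⟨1⟩, h⟩⟩]
    rw [Nat.card_zpowers, how]; exact hr.out.pos
  have : zpowers u = zpowers w := by
    apply eq_of_le_of_card_ge hle
    rw [Nat.card_zpowers, Nat.card_zpowers, how, hou]
  rw [this]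
  exact mem_zpowers w

/-- a homomorphism mapping each element of `D` into its cyclic group acts on `D` as a
universal power (elementary abelian case) -/
theorem exists_pow_of_forall_mem_zpowers [Finite N] {r : ℕ} [hr : Fact r.Prime]
    (hexp : ∀ v : N, v ^ r = 1) (D : Subgroup N) (T : N →* N)
    (hT : ∀ w ∈ D, T w ∈ zpowers w) : ∃ μ : ℕ, ∀ w ∈ D, T w = w ^ μ := by
  have hnat : ∀ w ∈ D, ∃ k : ℕ, T w = w ^ k := by
    intro w hw
    have := mem_powers_iff_mem_zpowers.mpr (hT w hw)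
    obtain ⟨k, hk⟩ := Submonoid.mem_powers_iff _ _ |>.mp this
    exact ⟨k, hk.symm⟩
  by_cases hD : ∀ w ∈ D, w = 1
  · refine ⟨1, fun w hw => ?_⟩
    rw [hD w hw, map_one, one_pow]
  push Not at hD
  obtain ⟨w0, hw0D, hw01⟩ := hD
  obtain ⟨μ, hμ⟩ := hnat w0 hw0D
  have ho0 : orderOf w0 = r := orderOf_eq_prime (hexp w0) hw01
  refine ⟨μ, fun w hw => ?_⟩
  by_cases hw1 : w = 1
  · rw [hw1, map_one, one_pow]
  have how : orderOf w = r := orderOf_eq_prime (hexp w) hw1
  obtain ⟨j, hj⟩ := hnat w hw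
  -- suffices j ≡ μ mod r
  suffices hmod : j ≡ μ [MOD r] by
    rw [hj]
    rw [← how] at hmod
    exact pow_eq_pow_iff_modEq.mpr hmod
  by_cases hmem : w ∈ zpowers w0
  · obtain ⟨t, rfl⟩ := mem_zpowers_iff.mp hmem
    have h1 : T (w0 ^ t) = (w0 ^ t) ^ μ := by
      rw [map_zpow, hμ, ← zpow_natCast, ← zpow_natCast, ← zpow_mul, ← zpow_mul, mul_comm]
    rw [hj] at h1
    rw [← how]
    exact pow_eq_pow_iff_modEq.mp h1
  · obtain ⟨i, hi⟩ := hnat (w * w0) (D.mul_mem hw hw0D)
    rw [map_mul, hj, hμ, mul_pow] at hi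
    -- w^j * w0^μ = w^i * w0^i
    have hu : w ^ j / w ^ i = w0 ^ i / w0 ^ μ := by
      rw [div_eq_div_iff_mul_eq_mul, hi, mul_comm]
    have hu1 : w ^ j / w ^ i = 1 := by
      by_contra hne
      have h1 : w ^ j / w ^ i ∈ zpowers w :=
        (zpowers w).div_mem (pow_mem (mem_zpowers w) j) (pow_mem (mem_zpowers w) i)
      have h2 : w ^ j / w ^ i ∈ zpowers w0 := by
        rw [hu]
        exact (zpowers w0).div_mem (pow_mem (mem_zpowers w0) i) (pow_mem (mem_zpowers w0) μ)
      have h3 : w ∈ zpowers (w ^ j / w ^ i) :=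
        mem_zpowers_of_mem_zpowers_prime (hexp w) h1 hne
      exact hmem (zpowers_le.mpr h2 h3)
    have h4 : w ^ j = w ^ i := div_eq_one.mp hu1
    have h5 : w0 ^ i = w0 ^ μ := by
      rw [hu1] at hu
      exact div_eq_one.mp hu.symm
    have h6 : j ≡ i [MOD r] := by
      rw [← how]; exact pow_eq_pow_iff_modEq.mp h4
    have h7 : i ≡ μ [MOD r] := by
      rw [← ho0]; exact pow_eq_pow_iff_modEq.mp h5
    exact h6.trans h7

/-- power automorphisms: automorphisms normalizing every cyclic subgroup -/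
def powAut (N : Type*) [CommGroup N] [Finite N] : Subgroup (MulAut N) where
  carrier := {x | ∀ v, x v ∈ zpowers v}
  one_mem' := fun v => by rw [MulAut.one_apply]; exact mem_zpowers v
  mul_mem' := by
    intro x y hx hy v
    rw [MulAut.mul_apply]
    obtain ⟨k, hk⟩ := mem_zpowers_iff.mp (hy v)
    rw [← hk, map_zpow]
    exact (zpowers v).zpow_mem (hx v) k
  inv_mem' := by
    intro x hx v
    have hle : zpowers (x v) ≤ zpowers v := zpowers_le.mpr (hx v)
    have heq : zpowers (x v) = zpowers v := by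
      apply eq_of_le_of_card_ge hle
      rw [Nat.card_zpowers, Nat.card_zpowers, MulEquiv.orderOf_eq]
    have hv : v ∈ zpowers (x v) := by rw [heq]; exact mem_zpowers v
    obtain ⟨k, hk⟩ := mem_zpowers_iff.mp hv
    have : x⁻¹ v = v ^ k := by
      conv_lhs => rw [← hk]
      rw [map_zpow, MulAut.inv_apply_self]
    rw [this]
    exact (zpowers v).zpow_mem (mem_zpowers v) k

theorem mem_powAut [Finite N] {x : MulAut N} : x ∈ powAut N ↔ ∀ v, x v ∈ zpowers v := Iff.rfl

theorem exists_pow_of_mem_powAut [Finite N] {r : ℕ} [hr : Fact r.Prime]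
    (hexp : ∀ v : N, v ^ r = 1) {x : MulAut N} (hx : x ∈ powAut N) :
    ∃ μ : ℕ, ∀ v, x v = v ^ μ := by
  obtain ⟨μ, hμ⟩ := exists_pow_of_forall_mem_zpowers hexp ⊤ x.toMonoidHom
    (fun w _ => hx w)
  exact ⟨μ, fun v => hμ v (mem_top v)⟩

theorem commute_of_mem_powAut [Finite N] {r : ℕ} [hr : Fact r.Prime]
    (hexp : ∀ v : N, v ^ r = 1) {x : MulAut N} (hx : x ∈ powAut N) (y : MulAut N) :
    x * y = y * x := by
  obtain ⟨μ, hμ⟩ := exists_pow_of_mem_powAut hexp hx
  ext v
  rw [MulAut.mul_apply, MulAut.mul_apply, hμ, hμ, map_pow]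

theorem apply_mem_of_mem_powAut [Finite N] {x : MulAut N} (hx : x ∈ powAut N) (U : Subgroup N)
    {u : N} (hu : u ∈ U) : x u ∈ U :=
  zpowers_le.mpr hu (hx u)

end

end Cfsg.Agent.Helper9
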