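import Mathlib
import Cfsg.Agent.Lib.Helper9.Supersolvable
import Cfsg.Agent.Lib.Helper9.SupersolvablePrime
import Cfsg.Agent.Lib.Helper9.PowerAut

set_option autoImplicit false
set_option linter.unusedSectionVars false

namespace Cfsg.Agent.Helper9

open Subgroup

section

variable {N : Type*} [CommGroup N] [Finite N]

/-- irreducibility of `K` on `N` -/
def IrrOn (K : Subgroup (MulAut N)) : Prop :=
  ∀ U : Subgroup N, (∀ k ∈ K, ∀ u ∈ U, k u ∈ U) → U = ⊥ ∨ U = ⊤

/-- quasi-reflection hypothesis: every element of prime power order prime to `r` normalizes the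
cyclic groups generated by its commutators. -/
def QRefl (r : ℕ) (K : Subgroup (MulAut N)) : Prop :=
  ∀ x ∈ K, ∀ p a : ℕ, p.Prime → p ≠ r → orderOf x = p ^ a →
    ∀ g : N, x (x g / g) ∈ zpowers (x g / g)

theorem coprime_of_primePow {p a r n : ℕ} (hp : p.Prime) (hr : r.Prime) (hpr : p ≠ r)
    (h : n = p ^ a) : n.Coprime r := by
  rw [h]; exact Nat.Coprime.pow_left a ((Nat.coprime_primes hp hr).mpr hpr)

variable {r : ℕ} [hr : Fact r.Prime]

theorem QRefl.exists_pow (hexp : ∀ v : N, v ^ r = 1) {K : Subgroup (MulAut N)} (hq : QRefl r K)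
    {x : MulAut N} (hx : x ∈ K) {p a : ℕ} (hp : p.Prime) (hpr : p ≠ r)
    (ho : orderOf x = p ^ a) : ∃ μ : ℕ, ∀ w ∈ comSub x, x w = w ^ μ := by
  obtain ⟨μ, hμ⟩ := exists_pow_of_forall_mem_zpowers hexp (comSub x) x.toMonoidHom (by
    rintro w ⟨g, rfl⟩
    exact hq x hx p a hp hpr ho g)
  exact ⟨μ, fun w hw => hμ w hw⟩

theorem QRefl.mem_powAut_of_fix_eq_bot {K : Subgroup (MulAut N)} (hq : QRefl r K)
    {x : MulAut N} (hx : x ∈ K) {p a : ℕ} (hp : p.Prime) (hpr : p ≠ r)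
    (ho : orderOf x = p ^ a) (hfix : fixSub x = ⊥) : x ∈ powAut N := by
  intro v
  have htop := com_eq_top_of_fix_eq_bot x hfix
  have hv : v ∈ comSub x := by rw [htop]; exact mem_top v
  obtain ⟨g, rfl⟩ := hv
  exact hq x hx p a hp hpr ho g

theorem pow_eq_of_modEq (hexp : ∀ v : N, v ^ r = 1) {m m' : ℕ} (h : m ≡ m' [MOD r]) (v : N) :
    v ^ m = v ^ m' := by
  apply pow_eq_pow_iff_modEq.mpr
  exact Nat.ModEq.of_dvd (orderOf_dvd_of_pow_eq_one (hexp v)) h

theorem modEq_of_pow_eq (hexp : ∀ v : N, v ^ r = 1) {m m' : ℕ} {v : N} (hv : v ≠ 1)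
    (h : v ^ m = v ^ m') : m ≡ m' [MOD r] := by
  have ho : orderOf v = r := orderOf_eq_prime (hexp v) hv
  rw [← ho]
  exact pow_eq_pow_iff_modEq.mp h

theorem eq_one_of_pow_eq_self (hexp : ∀ v : N, v ^ r = 1) {m : ℕ} (h : ∃ v0 : N, v0 ^ m ≠ v0)
    {v : N} (hv : v ^ m = v) : v = 1 := by
  by_contra hne
  obtain ⟨v0, hv0⟩ := h
  have h1 : m ≡ 1 [MOD r] := modEq_of_pow_eq hexp hne (by rw [hv, pow_one])
  apply hv0
  rw [pow_eq_of_modEq hexp h1 v0, pow_one]

/-- a normalized `r`-subgroup acts trivially -/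
theorem eq_bot_of_isPGroup_of_normalized (hexp : ∀ v : N, v ^ r = 1) [Nontrivial N]
    {K : Subgroup (MulAut N)} (hirr : IrrOn K) (R : Subgroup (MulAut N)) (hR : IsPGroup r R)
    (hnorm : ∀ k ∈ K, ∀ x ∈ R, k * x * k⁻¹ ∈ R) : R = ⊥ := by
  let F : Subgroup N :=
    { carrier := {v | ∀ x ∈ R, x v = v}
      one_mem' := fun x _ => map_one x
      mul_mem' := by
        intro a b ha hb x hx
        rw [map_mul, ha x hx, hb x hx]
      inv_mem' := by
        intro a ha x hx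
        rw [map_inv, ha x hx] }
  have hFinv : ∀ k ∈ K, ∀ u ∈ F, k u ∈ F := by
    intro k hk u hu x hx
    have h1 : k⁻¹ * x * k ∈ R := by
      have := hnorm k⁻¹ (K.inv_mem hk) x hx
      rwa [inv_inv] at this
    have h2 := hu _ h1
    rw [MulAut.mul_apply, MulAut.mul_apply] at h2
    have := congrArg k h2
    rwa [MulAut.apply_inv_self] at this
  have hpN : IsPGroup r N := fun g => ⟨1, by rw [pow_one]; exact hexp g⟩
  obtain ⟨n, hn⟩ := IsPGroup.iff_card.mp hpN
  have hcard : 1 < Nat.card N := Finite.one_lt_card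
  have hn0 : n ≠ 0 := by
    rintro rfl
    rw [pow_zero] at hn; omega
  have hdvd : r ∣ Nat.card N := by rw [hn]; exact dvd_pow_self r hn0
  have hfix1 : (1 : N) ∈ MulAction.fixedPoints R N := by
    rw [MulAction.mem_fixedPoints]
    intro x
    rw [Subgroup.smul_def, MulAut.smul_def, map_one]
  obtain ⟨b, hb, hb1⟩ := hR.exists_fixed_point_of_prime_dvd_card_of_fixed_point N hdvd hfix1
  have hbF : b ∈ F := by
    intro x hx
    have := MulAction.mem_fixedPoints.mp hb ⟨x, hx⟩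
    rwa [Subgroup.smul_def, MulAut.smul_def] at this
  have hFtop : F = ⊤ := by
    rcases hirr F hFinv with h | h
    · exfalso
      rw [h, mem_bot] at hbF
      exact hb1 hbF.symm
    · exact h
  rw [eq_bot_iff]
  intro x hx
  rw [mem_bot]
  ext v
  have : v ∈ F := by rw [hFtop]; exact mem_top v
  rw [MulAut.one_apply]
  exact this x hx

/-- central `r`-elements are trivial -/
theorem eq_one_of_central_of_orderOf (hexp : ∀ v : N, v ^ r = 1) [Nontrivial N]
    {K : Subgroup (MulAut N)} (hirr : IrrOn K) {z : MulAut N}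
    (hz : ∀ k ∈ K, k * z = z * k) {c : ℕ} (ho : orderOf z = r ^ c) : z = 1 := by
  have h1 : zpowers z = ⊥ := by
    apply eq_bot_of_isPGroup_of_normalized hexp hirr
    · exact IsPGroup.of_card (n := c) (by rw [Nat.card_zpowers, ho])
    · intro k hk x hx
      obtain ⟨i, rfl⟩ := mem_zpowers_iff.mp hx
      have hc : Commute k z := hz k hk
      have : k * z ^ i * k⁻¹ = z ^ i := by
        rw [(hc.zpow_right i).eq, mul_assoc, mul_inv_cancel, mul_one]
      rw [this]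
      exact zpow_mem (mem_zpowers z) i
  have : z ∈ zpowers z := mem_zpowers z
  rw [h1, mem_bot] at this
  exact this

/-- central elements of prime power order are power automorphisms -/
theorem mem_powAut_of_central_of_orderOf (hexp : ∀ v : N, v ^ r = 1) [Nontrivial N]
    {K : Subgroup (MulAut N)} (hirr : IrrOn K) (hq : QRefl r K) {z : MulAut N} (hzK : z ∈ K)
    (hz : ∀ k ∈ K, k * z = z * k) {p a : ℕ} (hp : p.Prime) (ho : orderOf z = p ^ a) :
    z ∈ powAut N := by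
  by_cases hpr : p = r
  · subst hpr
    rw [eq_one_of_central_of_orderOf hexp hirr hz ho]
    exact (powAut N).one_mem
  have hinv : ∀ k ∈ K, ∀ u ∈ fixSub z, k u ∈ fixSub z := by
    intro k hk u hu
    rw [mem_fixSub] at hu ⊢
    have := congrArg (fun f : MulAut N => f u) (hz k hk)
    simp only [MulAut.mul_apply] at this
    rw [← this, hu]
  rcases hirr _ hinv with h | h
  · exact hq.mem_powAut_of_fix_eq_bot hzK hp hpr ho h
  · rw [eq_one_of_fix_eq_top z h]
    exact (powAut N).one_mem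

theorem mem_powAut_of_central (hexp : ∀ v : N, v ^ r = 1) [Nontrivial N]
    {K : Subgroup (MulAut N)} (hirr : IrrOn K) (hq : QRefl r K) {z : MulAut N} (hzK : z ∈ K)
    (hz : ∀ k ∈ K, k * z = z * k) : z ∈ powAut N := by
  apply mem_of_forall_primePow_pow_mem (powAut N) (orderOf z) z rfl (orderOf_pos z)
  rintro k ⟨p, a, hp, ho⟩
  apply mem_powAut_of_central_of_orderOf hexp hirr hq (K.pow_mem hzK k) _ hp ho
  intro k' hk'
  exact ((show Commute k' z from hz k' hk').pow_right k).eq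

theorem orderOf_conj_eq {G : Type*} [Group G] (h x : G) : orderOf (h * x * h⁻¹) = orderOf x := by
  have := MulEquiv.orderOf_eq (MulAut.conj h) x
  rwa [MulAut.conj_apply] at this

theorem exists_orderOf_eq_of_commute {G : Type*} [Group G] {p a : ℕ} (hp : p.Prime) {x y : G}
    (hc : Commute x y) (hx : x ^ (p ^ a) = 1) (hy : y ^ (p ^ a) = 1) :
    ∃ a', orderOf (x * y) = p ^ a' := by
  have h1 : (x * y) ^ (p ^ a) = 1 := by rw [hc.mul_pow, hx, hy, one_mul]
  obtain ⟨k, -, hk⟩ := (Nat.dvd_prime_pow hp).mp (orderOf_dvd_of_pow_eq_one h1)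
  exact ⟨k, hk⟩

theorem fixSub_conj (h x : MulAut N) :
    fixSub (h * x * h⁻¹) = (fixSub x).map h.toMonoidHom := by
  ext v
  rw [mem_fixSub, Subgroup.mem_map]
  constructor
  · intro hv
    refine ⟨h⁻¹ v, ?_, MulAut.apply_inv_self _ h v⟩
    rw [mem_fixSub]
    rw [MulAut.mul_apply, MulAut.mul_apply] at hv
    have := congrArg (fun t => (h⁻¹ : MulAut N) t) hv
    simp only [MulAut.inv_apply_self] at this
    exact this
  · rintro ⟨u, hu, rfl⟩
    rw [mem_fixSub] at hu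
    show (h * x * h⁻¹) (h u) = h u
    rw [MulAut.mul_apply, MulAut.mul_apply, MulAut.inv_apply_self, hu]

theorem pow_apply_of_mem_fixSub {x : MulAut N} {c : N} (hc : c ∈ fixSub x) (j : ℕ) :
    (x ^ j) c = c := by
  induction j with
  | zero => simp
  | succ j ih => rw [pow_succ, MulAut.mul_apply, mem_fixSub.mp hc, ih]

theorem pow_apply_of_forall_pow {x : MulAut N} {D : Subgroup N} {μ : ℕ}
    (hμ : ∀ w ∈ D, x w = w ^ μ) (j : ℕ) : ∀ d ∈ D, (x ^ j) d = d ^ (μ ^ j) := by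
  induction j with
  | zero => intro d _; simp
  | succ j ih =>
    intro d hd
    rw [pow_succ, MulAut.mul_apply, hμ d hd, ih _ (D.pow_mem hd μ), ← pow_mul, pow_succ, mul_comm]

/-- two exponents on complementary invariant subgroups must agree for a quasi-reflection. -/
theorem modEq_of_two_exponents (hexp : ∀ v : N, v ^ r = 1) {K : Subgroup (MulAut N)}
    (hq : QRefl r K) {C D : Subgroup N} (hCD : C ⊓ D = ⊥)
    (hsplit : ∀ v : N, ∃ c ∈ C, ∃ d ∈ D, c * d = v)
    {c0 d0 : N} (hc0 : c0 ∈ C) (hc01 : c0 ≠ 1) (hd0 : d0 ∈ D) (hd01 : d0 ≠ 1)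
    {y : MulAut N} (hyK : y ∈ K) {p a : ℕ} (hp : p.Prime) (hpr : p ≠ r)
    (ho : orderOf y = p ^ a) {m1 m2 : ℕ} (h1 : ∀ c ∈ C, y c = c ^ m1) (h2 : ∀ d ∈ D, y d = d ^ m2)
    (hm1 : ∃ v0 : N, v0 ^ m1 ≠ v0) (hm2 : ∃ v0 : N, v0 ^ m2 ≠ v0) : m1 ≡ m2 [MOD r] := by
  have hfix : fixSub y = ⊥ := by
    rw [eq_bot_iff]
    intro v hv
    rw [mem_fixSub] at hv
    obtain ⟨c, hc, d, hd, rfl⟩ := hsplit v
    rw [map_mul, h1 c hc, h2 d hd] at hv
    have h3 : c ^ m1 / c = d / d ^ m2 := by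
      rw [div_eq_div_iff_mul_eq_mul, hv, mul_comm]
    have h4 : c ^ m1 / c ∈ C ⊓ D := by
      refine ⟨C.div_mem (C.pow_mem hc _) hc, ?_⟩
      rw [h3]; exact D.div_mem hd (D.pow_mem hd _)
    rw [hCD, mem_bot] at h4
    have h5 : c ^ m1 = c := div_eq_one.mp h4
    have h6 : d ^ m2 = d := by
      rw [h4] at h3
      exact (div_eq_one.mp h3.symm).symm
    rw [eq_one_of_pow_eq_self hexp hm1 h5, eq_one_of_pow_eq_self hexp hm2 h6, mul_one, mem_bot]
  have hpow := hq.mem_powAut_of_fix_eq_bot hyK hp hpr ho hfix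
  obtain ⟨κ, hκ⟩ := exists_pow_of_mem_powAut hexp hpow
  have e1 : m1 ≡ κ [MOD r] := modEq_of_pow_eq hexp hc01 (by rw [← h1 c0 hc0, hκ])
  have e2 : m2 ≡ κ [MOD r] := modEq_of_pow_eq hexp hd01 (by rw [← h2 d0 hd0, hκ])
  exact e1.trans e2.symm

/-- parity lemma for a swapping automorphism -/
theorem pow_swap {C D : Subgroup N} {h : MulAut N} (hhC : ∀ c ∈ C, h c ∈ D)
    (hhD : ∀ d ∈ D, h d ∈ C) (n : ℕ) :
    (Even n → (∀ c ∈ C, (h ^ n) c ∈ C) ∧ (∀ d ∈ D, (h ^ n) d ∈ D)) ∧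
    (Odd n → (∀ c ∈ C, (h ^ n) c ∈ D) ∧ (∀ d ∈ D, (h ^ n) d ∈ C)) := by
  induction n with
  | zero =>
    refine ⟨fun _ => ⟨fun c hc => by simpa using hc, fun d hd => by simpa using hd⟩, fun h0 => ?_⟩
    exact absurd h0 (by decide)
  | succ n ih =>
    constructor
    · intro he
      have ho : Odd n := by
        rcases Nat.even_or_odd n with h1 | h1
        · exact absurd he (Nat.not_even_iff_odd.mpr (Even.add_one h1))
        · exact h1
      obtain ⟨h1, h2⟩ := ih.2 ho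
      refine ⟨fun c hc => ?_, fun d hd => ?_⟩
      · rw [pow_succ, MulAut.mul_apply]; exact h2 _ (hhC c hc)
      · rw [pow_succ, MulAut.mul_apply]; exact h1 _ (hhD d hd)
    · intro ho
      have he : Even n := by
        rcases Nat.even_or_odd n with h1 | h1
        · exact h1
        · exact absurd ho (Nat.not_odd_iff_even.mpr (Odd.add_one h1))
      obtain ⟨h1, h2⟩ := ih.1 he
      refine ⟨fun c hc => ?_, fun d hd => ?_⟩
      · rw [pow_succ, MulAut.mul_apply]; exact h2 _ (hhC c hc)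
      · rw [pow_succ, MulAut.mul_apply]; exact h1 _ (hhD d hd)

/-- the final contradiction: an involution-like `β` and a swapping element. -/
theorem swap_false (hexp : ∀ v : N, v ^ r = 1) (hr2 : r ≠ 2) {K : Subgroup (MulAut N)}
    (hq : QRefl r K) {C D : Subgroup N} (hCD : C ⊓ D = ⊥)
    (hsplit : ∀ v : N, ∃ c ∈ C, ∃ d ∈ D, c * d = v)
    {c0 : N} (hc0 : c0 ∈ C) (hc01 : c0 ≠ 1)
    {β : MulAut N} (hβK : β ∈ K) (hβC : ∀ c ∈ C, β c = c) (hβD : ∀ d ∈ D, β d = d⁻¹)
    {h : MulAut N} (hhK : h ∈ K) (hhC : ∀ c ∈ C, h c ∈ D) (hhD : ∀ d ∈ D, h d ∈ C) : False := by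
  have hinter : ∀ v, v ∈ C → v ∈ D → v = 1 := by
    intro v h1 h2
    have : v ∈ C ⊓ D := ⟨h1, h2⟩
    rwa [hCD, mem_bot] at this
  -- pass to a 2-element
  obtain ⟨e, m, hm, hord⟩ := Nat.exists_eq_two_pow_mul_odd (orderOf_pos h).ne'
  have hm0 : m ≠ 0 := by
    rintro rfl; exact absurd hm (by decide)
  set h' := h ^ m with hh'
  have hh'K : h' ∈ K := K.pow_mem hhK m
  have ho' : orderOf h' = 2 ^ e := by
    rw [hh', orderOf_pow_of_dvd hm0 (by rw [hord]; exact dvd_mul_left _ _), hord,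
      Nat.mul_div_cancel _ (Nat.pos_of_ne_zero hm0)]
  obtain ⟨hC', hD'⟩ := (pow_swap hhC hhD m).2 hm
  have h2r : (2 : ℕ) ≠ r := fun h => hr2 h.symm
  obtain ⟨ν, hν⟩ := hq.exists_pow hexp hh'K Nat.prime_two h2r ho'
  have hcop : (orderOf h').Coprime r := coprime_of_primePow Nat.prime_two hr.out h2r ho'
  have hsplit' := exists_fix_mul_com hexp h' hcop
  -- d = h' c0
  have hd : h' c0 ∈ D := hC' c0 hc0
  have hd1 : h' c0 ≠ 1 := by
    intro h1
    apply hc01
    have := congrArg (fun t => (h'⁻¹ : MulAut N) t) h1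
    simpa using this
  have hc2 : h' (h' c0) ∈ C := hD' _ hd
  have hw : h' (h' c0 / c0) = (h' c0 / c0) ^ ν := hν _ (div_mem_comSub h' c0)
  rw [map_div, div_pow, div_eq_div_iff_mul_eq_mul] at hw
  -- hw : h' (h' c0) * c0 ^ ν = h' c0 ^ ν * h' c0
  have h3 : h' (h' c0) * c0 ^ ν = 1 := by
    apply hinter
    · exact C.mul_mem hc2 (C.pow_mem hc0 _)
    · rw [hw]; exact D.mul_mem (D.pow_mem hd _) hd
  have h4 : h' c0 ^ (ν + 1) = h' c0 ^ 0 := by
    rw [pow_succ, ← hw, h3, pow_zero]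
  have hν1 : ν + 1 ≡ 0 [MOD r] := modEq_of_pow_eq hexp hd1 h4
  have hinv : ∀ v : N, v ^ ν = v⁻¹ := by
    intro v
    have : v ^ (ν + 1) = v ^ 0 := pow_eq_of_modEq hexp hν1 v
    rw [pow_succ, pow_zero] at this
    exact eq_inv_of_mul_eq_one_left this
  have hsq : ∀ v : N, h' (h' v) = v := by
    intro v
    obtain ⟨c, hc, d, hd, rfl⟩ := hsplit' v
    rw [mem_fixSub] at hc
    rw [map_mul, hc, hν d hd, hinv, map_mul, hc, map_inv, hν d hd, hinv, inv_inv]
  -- s = h' * β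
  obtain ⟨s, hs⟩ : ∃ s : MulAut N, s = h' * β := ⟨_, rfl⟩
  have hsK : s ∈ K := by rw [hs]; exact K.mul_mem hh'K hβK
  have hss : ∀ v : N, s (s v) = v⁻¹ := by
    intro v
    obtain ⟨c, hc, d, hd, rfl⟩ := hsplit v
    have e1 : s c = h' c := by rw [hs, MulAut.mul_apply, hβC c hc]
    have e2 : s (h' c) = c⁻¹ := by
      rw [hs, MulAut.mul_apply, hβD _ (hC' c hc), map_inv, hsq]
    have e3 : s d = (h' d)⁻¹ := by
      rw [hs, MulAut.mul_apply, hβD d hd, map_inv]
    have e4 : s (h' d)⁻¹ = d⁻¹ := by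
      rw [hs, MulAut.mul_apply, hβC _ (C.inv_mem (hD' d hd)), map_inv, hsq]
    rw [map_mul, map_mul, e1, e2, e3, e4, mul_inv]
  have hs4 : s ^ 4 = 1 := by
    have h22 : s ^ 4 = (s * s) * (s * s) := by
      rw [show (4 : ℕ) = 2 + 2 from rfl, pow_add, pow_two]
    rw [h22]
    ext v
    show s (s (s (s v))) = v
    rw [hss, hss, inv_inv]
  obtain ⟨e', -, he'⟩ := (Nat.dvd_prime_pow Nat.prime_two).mp
    (show orderOf s ∣ 2 ^ 2 from orderOf_dvd_of_pow_eq_one hs4)
  have hfix : fixSub s = ⊥ := by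
    rw [eq_bot_iff]
    intro v hv
    rw [mem_fixSub] at hv
    have h1 := hss v
    rw [hv, hv] at h1
    have h2 : v ^ 2 = 1 := by
      rw [pow_two]
      nth_rewrite 1 [h1]
      exact inv_mul_cancel v
    have h5 : orderOf v ∣ Nat.gcd 2 r :=
      Nat.dvd_gcd (orderOf_dvd_of_pow_eq_one h2) (orderOf_dvd_of_pow_eq_one (hexp v))
    have h6 : Nat.gcd 2 r = 1 := (Nat.coprime_primes Nat.prime_two hr.out).mpr h2r
    rw [h6] at h5
    rw [mem_bot]
    exact orderOf_eq_one_iff.mp (Nat.dvd_one.mp h5)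
  have hspow := hq.mem_powAut_of_fix_eq_bot hsK Nat.prime_two h2r he' hfix
  have h7 : s c0 ∈ C := apply_mem_of_mem_powAut hspow C hc0
  have h8 : s c0 = h' c0 := by rw [hs, MulAut.mul_apply, hβC c0 hc0]
  rw [h8] at h7
  exact hd1 (hinter _ h7 hd)

/-- a non-central element of prime power order whose conjugates are powers times central
elements leads to a contradiction. -/
theorem noncentral_false (hexp : ∀ v : N, v ^ r = 1) [Nontrivial N] {K : Subgroup (MulAut N)}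
    (hirr : IrrOn K) (hq : QRefl r K) {β : MulAut N} (hβK : β ∈ K) {p a : ℕ} (hp : p.Prime)
    (hβo : orderOf β = p ^ a)
    (hconj : ∀ k ∈ K, ∃ j : ℕ, ∃ z ∈ K, (∀ k' ∈ K, k' * z = z * k') ∧ k * β * k⁻¹ = β ^ j * z)
    (hβZ : ¬ ∀ k ∈ K, k * β = β * k) : False := by
  have hβpow : β ^ (p ^ a) = 1 := by rw [← hβo]; exact pow_orderOf_eq_one β
  -- step 1: p ≠ r
  have hpr : p ≠ r := by
    rintro rfl
    have hnorm : ∀ k ∈ K, ∀ x ∈ zpowers β, k * x * k⁻¹ ∈ zpowers β := by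
      intro k hk x hx
      obtain ⟨i, rfl⟩ := mem_zpowers_iff.mp hx
      obtain ⟨j, z, hzK, hz, hkz⟩ := hconj k hk
      have hcz : Commute (β ^ j) z := ((show Commute β z from hz β hβK).pow_left j)
      have h1 : (β ^ j * z) ^ (p ^ a) = z ^ (p ^ a) := by
        rw [hcz.mul_pow, ← pow_mul, mul_comm, pow_mul, hβpow, one_pow, one_mul]
      have h2 : (k * β * k⁻¹) ^ (p ^ a) = 1 := by
        rw [conj_pow, hβpow, mul_one, mul_inv_cancel]
      rw [hkz, h1] at h2
      obtain ⟨c, -, hc⟩ := (Nat.dvd_prime_pow hp).mp (orderOf_dvd_of_pow_eq_one h2)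
      have hz1 : z = 1 := eq_one_of_central_of_orderOf hexp hirr hz hc
      rw [hz1, mul_one] at hkz
      rw [← conj_zpow, hkz]
      exact zpow_mem (pow_mem (mem_zpowers β) j) i
    have h1 : zpowers β = ⊥ := by
      apply eq_bot_of_isPGroup_of_normalized hexp hirr _ _ hnorm
      exact IsPGroup.of_card (n := a) (by rw [Nat.card_zpowers, hβo])
    have h2 : β ∈ zpowers β := mem_zpowers β
    rw [h1, mem_bot] at h2
    apply hβZ
    intro k _
    rw [h2, mul_one, one_mul]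
  have hcop : (orderOf β).Coprime r := coprime_of_primePow hp hr.out hpr hβo
  obtain ⟨μ, hμ⟩ := hq.exists_pow hexp hβK hp hpr hβo
  have hCD : fixSub β ⊓ comSub β = ⊥ := fix_inf_com hexp β hcop
  have hsplit := exists_fix_mul_com hexp β hcop
  have hinter : ∀ v, v ∈ fixSub β → v ∈ comSub β → v = 1 := by
    intro v h1 h2
    have : v ∈ fixSub β ⊓ comSub β := ⟨h1, h2⟩
    rwa [hCD, mem_bot] at this
  -- C ≠ ⊥, C ≠ ⊤
  have hCbot : fixSub β ≠ ⊥ := by
    intro h
    have := hq.mem_powAut_of_fix_eq_bot hβK hp hpr hβo h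
    apply hβZ
    intro k _
    exact (commute_of_mem_powAut hexp this k).symm
  have hCtop : fixSub β ≠ ⊤ := by
    intro h
    apply hβZ
    intro k _
    rw [eq_one_of_fix_eq_top β h, mul_one, one_mul]
  obtain ⟨⟨c0, hc0⟩, hc01'⟩ := (Subgroup.ne_bot_iff_exists_ne_one).mp hCbot
  have hc01 : c0 ≠ 1 := fun h => hc01' (Subtype.ext h)
  -- D ≠ ⊥
  have hDne : ∃ d0 ∈ comSub β, d0 ≠ 1 := by
    by_contra hno
    push Not at hno
    apply hCtop
    rw [eq_top_iff]
    intro v _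
    obtain ⟨c, hc, d, hd, rfl⟩ := hsplit v
    rw [hno d hd, mul_one]; exact hc
  obtain ⟨d0, hd0, hd01⟩ := hDne
  -- μ is not 1
  have hμne : ∃ v0 : N, v0 ^ μ ≠ v0 := by
    refine ⟨d0, fun h => hd01 (hinter d0 ?_ hd0)⟩
    rw [mem_fixSub, hμ d0 hd0, h]
  -- some h moves C
  have hmove : ∃ h ∈ K, ∃ c ∈ fixSub β, h c ∉ fixSub β := by
    by_contra hno
    push Not at hno
    rcases hirr (fixSub β) hno with h | h
    · exact hCbot h
    · exact hCtop h
  obtain ⟨h, hhK, c1, hc1, hc1'⟩ := hmove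
  obtain ⟨j, z, hzK, hz, hkz⟩ := hconj h hhK
  obtain ⟨ζ, hζ⟩ := exists_pow_of_mem_powAut hexp (mem_powAut_of_central hexp hirr hq hzK hz)
  obtain ⟨b', hb'⟩ : ∃ b' : MulAut N, b' = h * β * h⁻¹ := ⟨_, rfl⟩
  have hb'z : b' = β ^ j * z := by rw [hb', hkz]
  have hb'K : b' ∈ K := by rw [hb']; exact K.mul_mem (K.mul_mem hhK hβK) (K.inv_mem hhK)
  have hfixb' : ∀ c ∈ fixSub β, b' (h c) = h c := by
    intro c hc
    rw [hb', MulAut.mul_apply, MulAut.mul_apply, MulAut.inv_apply_self, mem_fixSub.mp hc]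
  have hb'C : ∀ c ∈ fixSub β, b' c = c ^ ζ := by
    intro c hc
    rw [hb'z, MulAut.mul_apply, hζ, map_pow, pow_apply_of_mem_fixSub hc]
  have hb'D : ∀ d ∈ comSub β, b' d = d ^ (ζ * μ ^ j) := by
    intro d hd
    rw [hb'z, MulAut.mul_apply, hζ, pow_apply_of_forall_pow hμ j _ ((comSub β).pow_mem hd _),
      ← pow_mul]
  -- z ≠ 1
  have hζne : ∃ v0 : N, v0 ^ ζ ≠ v0 := by
    by_contra hno
    push Not at hno
    have hle : fixSub β ≤ fixSub b' := by
      intro c hc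
      rw [mem_fixSub, hb'C c hc, hno]
    have hcard : Nat.card (fixSub b') = Nat.card (fixSub β) := by
      rw [hb', fixSub_conj]
      exact Subgroup.card_map_of_injective h.injective
    have heq : fixSub β = fixSub b' := eq_of_le_of_card_ge hle hcard.le
    apply hc1'
    rw [heq, mem_fixSub]
    exact hfixb' c1 hc1
  -- h maps C into D
  have hhC : ∀ c ∈ fixSub β, h c ∈ comSub β := by
    intro c' hc'
    obtain ⟨c, hc, d, hd, hcd⟩ := hsplit (h c')
    have h1 := hfixb' c' hc'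
    rw [← hcd, map_mul, hb'C c hc, hb'D d hd] at h1
    have h3 : c ^ ζ / c = d / d ^ (ζ * μ ^ j) := by
      rw [div_eq_div_iff_mul_eq_mul, h1, mul_comm]
    have h4 : c ^ ζ / c = 1 := by
      apply hinter
      · exact (fixSub β).div_mem ((fixSub β).pow_mem hc _) hc
      · rw [h3]; exact (comSub β).div_mem hd ((comSub β).pow_mem hd _)
    have h5 : c = 1 := eq_one_of_pow_eq_self hexp hζne (div_eq_one.mp h4)
    rw [← hcd, h5, one_mul]; exact hd
  -- b' fixes D pointwise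
  have hb'D1 : ∀ d ∈ comSub β, b' d = d := by
    have hd1 : h c0 ≠ 1 := by
      intro h1
      apply hc01
      have := congrArg (fun t => (h⁻¹ : MulAut N) t) h1
      simpa using this
    have h1 := hfixb' c0 hc0
    rw [hb'D _ (hhC c0 hc0)] at h1
    have h2 : ζ * μ ^ j ≡ 1 [MOD r] := modEq_of_pow_eq hexp hd1 (by rw [h1, pow_one])
    intro d hd
    rw [hb'D d hd, pow_eq_of_modEq hexp h2 d, pow_one]
  -- commutation and orders
  have hcomm : Commute b' β := by
    rw [hb'z]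
    exact ((Commute.refl β).pow_left j).mul_left (show Commute z β from (hz β hβK).symm)
  have hb'pow : b' ^ (p ^ a) = 1 := by
    rw [hb', conj_pow, hβpow, mul_one, mul_inv_cancel]
  -- ζ ≡ μ
  obtain ⟨a1, ha1⟩ := exists_orderOf_eq_of_commute hp hcomm hb'pow hβpow
  have hζμ : ζ ≡ μ [MOD r] := by
    apply modEq_of_two_exponents hexp hq hCD hsplit hc0 hc01 hd0 hd01 (K.mul_mem hb'K hβK) hp hpr
      ha1 _ _ hζne hμne
    · intro c hc
      rw [MulAut.mul_apply, mem_fixSub.mp hc, hb'C c hc]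
    · intro d hd
      rw [MulAut.mul_apply, hμ d hd, hb'D1 _ ((comSub β).pow_mem hd _)]
  -- μ * μ ≡ 1
  have hμμ : ∀ v : N, v ^ (μ * μ) = v := by
    by_contra hno
    push Not at hno
    have hcomm2 : Commute b' (β * β) := hcomm.mul_right hcomm
    have hββ : (β * β) ^ (p ^ a) = 1 := by
      rw [(Commute.refl β).mul_pow, hβpow, one_mul]
    obtain ⟨a2, ha2⟩ := exists_orderOf_eq_of_commute hp hcomm2 hb'pow hββ
    have h1 : ζ ≡ μ * μ [MOD r] := by
      apply modEq_of_two_exponents hexp hq hCD hsplit hc0 hc01 hd0 hd01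
        (K.mul_mem hb'K (K.mul_mem hβK hβK)) hp hpr ha2 _ _ hζne hno
      · intro c hc
        rw [MulAut.mul_apply, MulAut.mul_apply, mem_fixSub.mp hc, mem_fixSub.mp hc, hb'C c hc]
      · intro d hd
        rw [MulAut.mul_apply, MulAut.mul_apply, hμ d hd, hμ _ ((comSub β).pow_mem hd _),
          hb'D1 _ ((comSub β).pow_mem ((comSub β).pow_mem hd _) _), ← pow_mul]
    have h2 : μ * μ ≡ μ [MOD r] := h1.symm.trans hζμ
    have h3 : d0 ^ (μ * μ) = d0 ^ μ := pow_eq_of_modEq hexp h2 d0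
    have h4 : β (β d0) = β d0 := by
      rw [hμ d0 hd0, hμ _ ((comSub β).pow_mem hd0 _), ← pow_mul, h3]
    have h5 : β d0 = d0 := β.injective h4
    exact hd01 (hinter d0 h5 hd0)
  -- β inverts D
  have hβD : ∀ d ∈ comSub β, β d = d⁻¹ := by
    intro d hd
    have h1 : β (β d) = d := by
      rw [hμ d hd, hμ _ ((comSub β).pow_mem hd _), ← pow_mul, hμμ]
    have h2 : β d * d = 1 := by
      apply hinter
      · rw [mem_fixSub, map_mul, h1, mul_comm]
      · exact (comSub β).mul_mem (apply_mem_comSub hd) hd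
    exact eq_inv_of_mul_eq_one_left h2
  have hμinv : ∀ v : N, v ^ μ = v⁻¹ := by
    have h1 : d0 ^ (μ + 1) = d0 ^ 0 := by
      rw [pow_succ, ← hμ d0 hd0, hβD d0 hd0, inv_mul_cancel, pow_zero]
    have h2 : μ + 1 ≡ 0 [MOD r] := modEq_of_pow_eq hexp hd01 h1
    intro v
    have : v ^ (μ + 1) = v ^ 0 := pow_eq_of_modEq hexp h2 v
    rw [pow_succ, pow_zero] at this
    exact eq_inv_of_mul_eq_one_left this
  have hr2 : r ≠ 2 := by
    rintro rfl
    obtain ⟨v0, hv0⟩ := hμne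
    apply hv0
    rw [hμinv]
    have : v0 * v0 = 1 := by rw [← pow_two]; exact hexp v0
    exact inv_eq_of_mul_eq_one_left this
  -- b' inverts C
  have hb'Cinv : ∀ c ∈ fixSub β, b' c = c⁻¹ := by
    intro c hc
    rw [hb'C c hc, pow_eq_of_modEq hexp hζμ c, hμinv]
  -- h maps D into C
  have hhD : ∀ d ∈ comSub β, h d ∈ fixSub β := by
    intro d hd
    obtain ⟨c1', hc1', d1, hd1, hcd⟩ := hsplit (h d)
    have h1 : b' (h d) = (h d)⁻¹ := by
      rw [hb', MulAut.mul_apply, MulAut.mul_apply, MulAut.inv_apply_self, hβD d hd, map_inv]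
    rw [← hcd, map_mul, hb'Cinv _ hc1', hb'D1 _ hd1, mul_inv] at h1
    have h2 : d1 = d1⁻¹ := mul_left_cancel h1
    have h3 : d1 ^ 2 = 1 := by
      rw [pow_two]
      nth_rewrite 1 [h2]
      exact inv_mul_cancel d1
    have h5 : orderOf d1 ∣ Nat.gcd 2 r :=
      Nat.dvd_gcd (orderOf_dvd_of_pow_eq_one h3) (orderOf_dvd_of_pow_eq_one (hexp d1))
    have h6 : Nat.gcd 2 r = 1 :=
      (Nat.coprime_primes Nat.prime_two hr.out).mpr (fun h => hr2 h.symm)
    rw [h6] at h5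
    have h7 : d1 = 1 := orderOf_eq_one_iff.mp (Nat.dvd_one.mp h5)
    rw [← hcd, h7, mul_one]; exact hc1'
  exact swap_false hexp hr2 hq hCD hsplit hc0 hc01 hβK (fun c hc => mem_fixSub.mp hc) hβD hhK
    hhC hhD

/-- **Main lemma**: a supersolvable irreducible group of automorphisms of an elementary abelian
`r`-group all of whose `r'`-elements of prime power order are quasi-reflections consists of
power automorphisms. -/
theorem le_powAut_of_isSupersolvable (hexp : ∀ v : N, v ^ r = 1) [Nontrivial N]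
    {K : Subgroup (MulAut N)} (hK : Cfsg.IsSupersolvable ↥K) (hirr : IrrOn K) (hq : QRefl r K) :
    K ≤ powAut N := by
  by_cases hab : ∀ x ∈ K, ∀ y ∈ K, x * y = y * x
  · intro z hz
    exact mem_powAut_of_central hexp hirr hq hz (fun k hk => hab k hk z hz)
  exfalso
  push Not at hab
  obtain ⟨x, hx, y, hy, hxy⟩ := hab
  set Z := Subgroup.center ↥K with hZ
  have hQss : Cfsg.IsSupersolvable (↥K ⧸ Z) := isSupersolvable_quotient hK Z
  have hyZ : (⟨y, hy⟩ : ↥K) ∉ Z := by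
    intro h
    rw [hZ, Subgroup.mem_center_iff] at h
    have := h ⟨x, hx⟩
    exact hxy (congrArg Subtype.val this)
  have hnt : Nontrivial (↥K ⧸ Z) := by
    refine ⟨⟨((⟨y, hy⟩ : ↥K) : ↥K ⧸ Z), 1, ?_⟩⟩
    intro h
    exact hyZ ((QuotientGroup.eq_one_iff _).mp h)
  obtain ⟨C, hCn, hCp⟩ := exists_normal_prime_card hQss
  have hCne : C ≠ ⊥ := by
    intro h
    rw [h, Subgroup.card_bot] at hCp
    exact Nat.not_prime_one hCp
  obtain ⟨⟨cbar, hcbar⟩, hcbar1'⟩ := (Subgroup.ne_bot_iff_exists_ne_one).mp hCne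
  have hcbar1 : cbar ≠ 1 := fun h => hcbar1' (Subtype.ext h)
  obtain ⟨b0, rfl⟩ := QuotientGroup.mk_surjective cbar
  have hb0Z : b0 ∉ Z := fun h => hcbar1 ((QuotientGroup.eq_one_iff _).mpr h)
  -- choose a power of prime power order outside Z
  have hex : ∃ m : ℕ, (∃ p a : ℕ, p.Prime ∧ orderOf (b0 ^ m) = p ^ a) ∧ b0 ^ m ∉ Z := by
    by_contra hno
    push Not at hno
    exact hb0Z (mem_of_forall_primePow_pow_mem Z (orderOf b0) b0 rfl (orderOf_pos b0)
      (fun k hk => hno k hk))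
  obtain ⟨m, ⟨p, a, hp, hbo⟩, hbZ⟩ := hex
  set b : ↥K := b0 ^ m with hb
  have hbC : ((b : ↥K) : ↥K ⧸ Z) ∈ C := by
    rw [hb, QuotientGroup.mk_pow]; exact C.pow_mem hcbar m
  have hb1 : ((b : ↥K) : ↥K ⧸ Z) ≠ 1 := fun h => hbZ ((QuotientGroup.eq_one_iff _).mp h)
  have hpC : Fact (Nat.card C).Prime := ⟨hCp⟩
  have hgen : zpowers (⟨((b : ↥K) : ↥K ⧸ Z), hbC⟩ : ↥C) = ⊤ :=
    zpowers_eq_top_of_prime_card rfl (fun h => hb1 (congrArg Subtype.val h))
  have hpowers : ∀ y ∈ C, ∃ j : ℕ, ((b : ↥K) : ↥K ⧸ Z) ^ j = y := by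
    intro y hy
    have h1 : (⟨y, hy⟩ : ↥C) ∈ zpowers (⟨((b : ↥K) : ↥K ⧸ Z), hbC⟩ : ↥C) := by
      rw [hgen]; exact mem_top _
    have h2 := mem_powers_iff_mem_zpowers.mpr h1
    obtain ⟨j, hj⟩ := (Submonoid.mem_powers_iff _ _).mp h2
    exact ⟨j, by simpa using congrArg Subtype.val hj⟩
  apply noncentral_false hexp hirr hq (β := (b : MulAut N)) b.2 hp
    (by rw [Subgroup.orderOf_coe]; exact hbo)
  · intro k hk
    set k' : ↥K := ⟨k, hk⟩ with hk'
    have h1 : ((k' * b * k'⁻¹ : ↥K) : ↥K ⧸ Z) ∈ C := by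
      have := hCn.conj_mem _ hbC (k' : ↥K ⧸ Z)
      simpa using this
    obtain ⟨j, hj⟩ := hpowers _ h1
    rw [← QuotientGroup.mk_pow, QuotientGroup.eq] at hj
    refine ⟨j, (((b ^ j)⁻¹ * (k' * b * k'⁻¹) : ↥K) : MulAut N), Subtype.coe_prop _, ?_, ?_⟩
    · intro k'' hk''
      rw [hZ, Subgroup.mem_center_iff] at hj
      have := hj ⟨k'', hk''⟩
      exact congrArg Subtype.val this
    · rw [← Subgroup.coe_pow, ← Subgroup.coe_mul, mul_inv_cancel_left]
      rfl
  · intro hcent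
    apply hbZ
    rw [hZ, Subgroup.mem_center_iff]
    intro g
    exact Subtype.ext (hcent g g.2)

/-- consequently `N` has no proper nontrivial subgroups. -/
theorem subgroup_eq_bot_or_top_of_isSupersolvable (hexp : ∀ v : N, v ^ r = 1) [Nontrivial N]
    {K : Subgroup (MulAut N)} (hK : Cfsg.IsSupersolvable ↥K) (hirr : IrrOn K) (hq : QRefl r K)
    (U : Subgroup N) : U = ⊥ ∨ U = ⊤ := by
  apply hirr
  intro k hk u hu
  exact apply_mem_of_mem_powAut (le_powAut_of_isSupersolvable hexp hK hirr hq hk) U hu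

end

end Cfsg.Agent.Helper9
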