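import Mathlib
import Cfsg.Prelude.Def_RootSubgroups
import Cfsg.Agent.Lib.Helper21.RankOneSpecial
import Cfsg.Agent.Lib.Helper83.R2Defs
import Cfsg.Agent.Lib.Helper83.R1Braid
import Cfsg.Agent.S5017
import Cfsg.Agent.S5021
import Cfsg.Agent.S5022

set_option autoImplicit false

namespace Cfsg.Agent.Helper9.R2

open Cfsg Cfsg.Agent.Helper83 Cfsg.Agent.Helper83.R2 Cfsg.Agent.Helper21.RankOneSpecial

variable {X : Type*} [Group X] {A B : Subgroup X}

/-- in a special rank one group with abelian unipotents, a non-identity element of `A` has at most one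
square root in `A`. -/
theorem h9_sqrt_unique (h : IsRankOneGroup X A B) (hs : IsSpecialRankOnePair A B)
    (hab : HasAbelianUnipotents A B) {x : X} (hx1 : x ≠ 1) {a a' : X} (ha : a ∈ A) (ha' : a' ∈ A)
    (e : a * a = x) (e' : a' * a' = x) : a = a' := by
  have hA := hab.1
  have comm : ∀ {u v : X}, u ∈ A → v ∈ A → u * v = v * u := fun hu hv => comm_of_mem hA hu hv
  have hcA : a * a'⁻¹ ∈ A := A.mul_mem ha (A.inv_mem ha')
  have hc : (a * a'⁻¹) ^ 2 = 1 := by
    have h1 : a'⁻¹ * a = a * a'⁻¹ := comm (A.inv_mem ha') ha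
    calc (a * a'⁻¹) ^ 2 = a * (a'⁻¹ * a) * a'⁻¹ := by rw [pow_two]; group
      _ = a * (a * a'⁻¹) * a'⁻¹ := by rw [h1]
      _ = (a * a) * (a' * a')⁻¹ := by group
      _ = 1 := by rw [e, e', mul_inv_cancel]
  have hc1 : a * a'⁻¹ = 1 := by
    rcases Cfsg.Agent.S5021.result h hs hab with ⟨p, hp, hel⟩ | ⟨htf, -⟩
    · have hpow := hel.2
      by_cases hp2 : p = 2
      · exfalso
        apply hx1
        rw [← e, ← pow_two, ← hp2]
        exact hpow a ha
      · have hcp : (a * a'⁻¹) ^ p = 1 := hpow _ hcA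
        have d1 : orderOf (a * a'⁻¹) ∣ 2 := orderOf_dvd_of_pow_eq_one hc
        have d2 : orderOf (a * a'⁻¹) ∣ p := orderOf_dvd_of_pow_eq_one hcp
        have hcop : Nat.Coprime 2 p := (Nat.coprime_primes Nat.prime_two hp).2 (Ne.symm hp2)
        have d3 : orderOf (a * a'⁻¹) ∣ 1 := by
          have := Nat.dvd_gcd d1 d2
          rwa [hcop.gcd_eq_one] at this
        exact orderOf_eq_one_iff.1 (Nat.dvd_one.1 d3)
    · by_contra hne
      exact htf _ hcA hne (isOfFinOrder_iff_pow_eq_one.2 ⟨2, two_pos, hc⟩)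
  exact mul_inv_eq_one.1 hc1

/-- (F) `A ≤ [A, H]` when `|A| > 3`, GIVEN (E) as a hypothesis. -/
theorem le_comm_of_mul_mem (h : IsRankOneGroup X A B) (hs : IsSpecialRankOnePair A B)
    (hab : HasAbelianUnipotents A B) (hcard : 3 < ENat.card A)
    (hE : ∀ a ∈ A, a ≠ 1 → ∀ d ∈ A, d ≠ 1 → a ≠ d → a * d ∈ ⁅A, rankOneDiagonal A B⁆) :
    A ≤ ⁅A, rankOneDiagonal A B⁆ := by
  classical
  intro x hx
  by_cases hx1 : x = 1
  · rw [hx1]; exact Subgroup.one_mem _
  -- find `a ∈ A#`, `a ≠ x`, `a * a ≠ x`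
  have hex : ∃ a ∈ A, a ≠ 1 ∧ a ≠ x ∧ a * a ≠ x := by
    by_contra hcon
    push Not at hcon
    -- the chosen square root
    obtain ⟨r, hr⟩ : ∃ r : X, ∀ a ∈ A, a * a = x → a = r := by
      by_cases hr : ∃ r ∈ A, r * r = x
      · obtain ⟨r, hrA, hrr⟩ := hr
        exact ⟨r, fun a ha e => h9_sqrt_unique h hs hab hx1 ha hrA e hrr⟩
      · exact ⟨1, fun a ha e => (hr ⟨a, ha, e⟩).elim⟩
    have hsub : (A : Set X) ⊆ (↑({1, x, r} : Finset X) : Set X) := by
      intro a ha
      have haA : a ∈ A := ha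
      simp only [Finset.coe_insert, Finset.coe_singleton, Set.mem_insert_iff,
        Set.mem_singleton_iff]
      by_cases h1 : a = 1
      · exact Or.inl h1
      by_cases h2 : a = x
      · exact Or.inr (Or.inl h2)
      · exact Or.inr (Or.inr (hr a haA (hcon a haA h1 h2)))
    have h1 : (A : Set X).encard ≤ (↑({1, x, r} : Finset X) : Set X).encard :=
      Set.encard_le_encard hsub
    rw [Set.encard_coe_eq_coe_finsetCard] at h1
    have h2 : (({1, x, r} : Finset X).card : ℕ∞) ≤ 3 := by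
      exact_mod_cast Finset.card_le_three
    have h3 : ENat.card A ≤ 3 := le_trans h1 h2
    exact absurd hcard (not_lt.2 h3)
  obtain ⟨a, haA, ha1, hax, haa⟩ := hex
  have hdA : a⁻¹ * x ∈ A := A.mul_mem (A.inv_mem haA) hx
  have hd1 : a⁻¹ * x ≠ 1 := by
    intro e
    apply hax
    have := inv_mul_eq_one.1 e
    exact this
  have had : a ≠ a⁻¹ * x := by
    intro e
    apply haa
    calc a * a = a * (a⁻¹ * x) := by rw [← e]
      _ = x := by group
  have := hE a haA ha1 (a⁻¹ * x) hdA hd1 had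
  rwa [mul_inv_cancel_left] at this

end Cfsg.Agent.Helper9.R2
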