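import Mathlib
import Cfsg.Agent.Lib.Helper31.SCHDefs

set_option autoImplicit false
set_option linter.unusedSectionVars false

namespace Cfsg.Agent.Helper9.SCH
open Cfsg Cfsg.Agent.Helper31.SCH

section P
variable {P : Type*} [Group P] [Finite P] {p : ℕ} [Fact p.Prime]

/-- (P11) `p = 2`, `q = 3`: the conjugates of `H` under `α` cover `P`, so `P` has exponent 2. -/
theorem endgame_two (α : MulAut P) (hα3 : α ^ 3 = 1)
    (hfix : ∀ x : P, α x = x ↔ x ∈ Subgroup.center P)
    (hnf : ∀ x : P, x ∉ Subgroup.center P → x⁻¹ * α x ∉ Subgroup.center P)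
    (hna : ∃ a b : P, a * b ≠ b * a)
    (hidx : (Subgroup.center P).index = 4) (H : Subgroup P) (hZH : Subgroup.center P ≤ H)
    (hHidx : H.index = 2) (hHexp : ∀ x ∈ H, x ^ 2 = 1) : False := by
  have h3 : ∀ z : P, α (α (α z)) = z := by
    intro z
    have := congrArg (fun f : MulAut P => f z) hα3
    simpa [pow_succ, MulAut.mul_apply] using this
  -- `α` preserves the complement of the centre
  have hZ' : ∀ z : P, z ∉ Subgroup.center P → α z ∉ Subgroup.center P := by
    intro z hz hz'
    apply hz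
    have e : α (α z) = α z := (hfix (α z)).2 hz'
    exact (hfix z).1 (α.injective e)
  -- index two facts
  have I1 : ∀ u v : P, u ∉ H → v ∉ H → u⁻¹ * v ∈ H := by
    intro u v hu hv
    rw [Subgroup.mul_mem_iff_of_index_two hHidx, inv_mem_iff]
    exact ⟨fun h => (hu h).elim, fun h => (hv h).elim⟩
  have hrel : (Subgroup.center P).relIndex H = 2 := by
    have := Subgroup.relIndex_mul_index hZH
    rw [hidx, hHidx] at this
    omega
  have I2 : ∀ u v : P, u ∈ H → v ∈ H → u ∉ Subgroup.center P → v ∉ Subgroup.center P →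
      u⁻¹ * v ∈ Subgroup.center P := by
    intro u v hu hv hu' hv'
    have hidx2 : ((Subgroup.center P).subgroupOf H).index = 2 := hrel
    have := Subgroup.mul_mem_iff_of_index_two hidx2 (a := (⟨u, hu⟩ : H)⁻¹) (b := ⟨v, hv⟩)
    rw [inv_mem_iff] at this
    have h2 : (⟨u, hu⟩ : H)⁻¹ * ⟨v, hv⟩ ∈ (Subgroup.center P).subgroupOf H := by
      rw [this]
      exact ⟨fun h => (hu' (Subgroup.mem_subgroupOf.1 h)).elim,
        fun h => (hv' (Subgroup.mem_subgroupOf.1 h)).elim⟩
    exact Subgroup.mem_subgroupOf.1 h2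
  -- one of `x`, `α x`, `α² x` lies in `H`
  have key : ∀ x : P, x ∉ Subgroup.center P → x ∈ H ∨ α x ∈ H ∨ α (α x) ∈ H := by
    intro x hx
    by_contra hcon
    push Not at hcon
    obtain ⟨h0, h1, h2⟩ := hcon
    have hy : x⁻¹ * α x ∉ Subgroup.center P := hnf x hx
    have hyH : x⁻¹ * α x ∈ H := I1 _ _ h0 h1
    have hαy : α (x⁻¹ * α x) = (α x)⁻¹ * α (α x) := by rw [map_mul, map_inv]
    have hy'H : α (x⁻¹ * α x) ∈ H := by rw [hαy]; exact I1 _ _ h1 h2
    have hy' : α (x⁻¹ * α x) ∉ Subgroup.center P := hZ' _ hy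
    exact hnf _ hy (I2 _ _ hyH hy'H hy hy')
  -- exponent two
  have hexp : ∀ x : P, x ^ 2 = 1 := by
    intro x
    by_cases hx : x ∈ Subgroup.center P
    · exact hHexp x (hZH hx)
    rcases key x hx with h | h | h
    · exact hHexp x h
    · have := hHexp _ h
      rw [← map_pow] at this
      exact α.injective (this.trans (map_one α).symm)
    · have := hHexp _ h
      rw [← map_pow, ← map_pow] at this
      have e1 : α (x ^ 2) = 1 := α.injective (this.trans (map_one α).symm)
      exact α.injective (e1.trans (map_one α).symm)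
  obtain ⟨a, b, hab⟩ := hna
  apply hab
  have hinv : ∀ x : P, x⁻¹ = x := by
    intro x
    have := hexp x
    rw [pow_two] at this
    exact inv_eq_of_mul_eq_one_right this
  calc a * b = (a * b)⁻¹ := (hinv _).symm
    _ = b⁻¹ * a⁻¹ := mul_inv_rev a b
    _ = b * a := by rw [hinv a, hinv b]

end P

end Cfsg.Agent.Helper9.SCH
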