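import Mathlib
import Cfsg.Agent.Lib.Helper31.SCHDefs

set_option autoImplicit false

namespace Cfsg.Agent.Helper9.SCH
open Cfsg Cfsg.Agent.Helper31.SCH

section G
variable {G : Type*} [Group G] [Finite G] {p : ℕ} [Fact p.Prime]

/-- (SQ2) the image of a Sylow `p`-subgroup `P` in `G ⧸ Y` (`Y ≤ P` normal in `G`) is a Sylow
`p`-subgroup isomorphic to `P ⧸ Y`. -/
theorem sylow_quot_p (Y : Subgroup G) [Y.Normal] (P : Sylow p G) (hY : Y ≤ (P : Subgroup G)) :
    ∃ P' : Sylow p (G ⧸ Y), Nonempty (↥(P' : Subgroup (G ⧸ Y)) ≃*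
      (↥(P : Subgroup G) ⧸ Y.subgroupOf (P : Subgroup G))) := by
  refine ⟨P.mapSurjective (QuotientGroup.mk'_surjective Y), ⟨?_⟩⟩
  set f : ↥(P : Subgroup G) →* G ⧸ Y :=
    (QuotientGroup.mk' Y).comp (P : Subgroup G).subtype with hf
  have hker : f.ker = Y.subgroupOf (P : Subgroup G) := by
    ext x
    rw [MonoidHom.mem_ker, Subgroup.mem_subgroupOf, hf, MonoidHom.comp_apply,
      QuotientGroup.mk'_apply, QuotientGroup.eq_one_iff]
    rfl
  have hrange : f.range = (P : Subgroup G).map (QuotientGroup.mk' Y) := by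
    rw [hf, MonoidHom.range_comp, Subgroup.range_subtype]
  have e1 : ↥((P.mapSurjective (QuotientGroup.mk'_surjective Y) : Sylow p (G ⧸ Y)) :
      Subgroup (G ⧸ Y)) ≃* ↥f.range :=
    MulEquiv.subgroupCongr (by rw [Sylow.coe_mapSurjective, hrange])
  have e2 : ↥(P : Subgroup G) ⧸ f.ker ≃* ↥f.range := QuotientGroup.quotientKerEquivRange f
  have e3 : ↥(P : Subgroup G) ⧸ f.ker ≃* ↥(P : Subgroup G) ⧸ Y.subgroupOf (P : Subgroup G) :=
    QuotientGroup.quotientMulEquivOfEq hker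
  exact e1.trans (e2.symm.trans e3)

end G

end Cfsg.Agent.Helper9.SCH
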