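import Mathlib
import Cfsg.Agent.Lib.Helper9.SupersolvableCLT

set_option autoImplicit false

namespace Cfsg.Agent.Helper9

open Subgroup

universe u

/-- chains of normal subgroups with prime-index steps, non-increasing primes, all `≤ b0`,
last prime `b`. -/
inductive PChain {G : Type*} [Group G] (b0 : ℕ) : ℕ → Subgroup G → Prop
  | bot : PChain b0 b0 ⊥
  | step (b : ℕ) (A B : Subgroup G) : PChain b0 b A → A ≤ B → B.Normal →
      (A.relIndex B).Prime → A.relIndex B ≤ b → PChain b0 (A.relIndex B) B

theorem PChain.comap_mk' {G : Type*} [Group G] (C : Subgroup G) [C.Normal] (p b0 : ℕ)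
    (hC : Nat.card C = p) (hp : p.Prime) (hpb : p ≤ b0) {b : ℕ} {B : Subgroup (G ⧸ C)}
    (h : PChain (G := G ⧸ C) p b B) : PChain (G := G) b0 b (B.comap (QuotientGroup.mk' C)) := by
  induction h with
  | bot =>
    rw [MonoidHom.comap_bot, QuotientGroup.ker_mk']
    have h1 : (⊥ : Subgroup G).relIndex C = p := by rw [relIndex_bot_left, hC]
    have := PChain.step (b0 := b0) b0 ⊥ C PChain.bot bot_le inferInstance (h1 ▸ hp) (h1 ▸ hpb)
    rwa [h1] at this
  | step b A B hA hAB hBn hprime hle ih =>
    have hrel : (A.comap (QuotientGroup.mk' C)).relIndex (B.comap (QuotientGroup.mk' C))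
        = A.relIndex B := by
      rw [relIndex_comap, Subgroup.map_comap_eq_self_of_surjective (QuotientGroup.mk'_surjective C)]
    have := PChain.step (b0 := b0) b _ _ ih (Subgroup.comap_mono hAB)
      (hBn.comap (QuotientGroup.mk' C)) (hrel ▸ hprime) (hrel ▸ hle)
    rwa [hrel] at this

/-- a nontrivial finite supersolvable group has a normal subgroup whose order is the largest
prime divisor of the group order -/
theorem exists_normal_card_eq_max_prime_aux : ∀ (n : ℕ) (G : Type u) [Group G] [Finite G],
    Nat.card G = n → Cfsg.IsSupersolvable G → ∀ p : ℕ, p.Prime → p ∣ Nat.card G →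
    (∀ q : ℕ, q.Prime → q ∣ Nat.card G → q ≤ p) →
    ∃ C : Subgroup G, C.Normal ∧ Nat.card C = p := by
  intro n
  induction n using Nat.strong_induction_on with
  | _ n ih =>
    intro G _ _ hcard hG p hp hpd hmax
    have hnt : Nontrivial G := by
      rw [← Finite.one_lt_card_iff_nontrivial]
      exact lt_of_lt_of_le hp.one_lt (Nat.le_of_dvd Nat.card_pos hpd)
    obtain ⟨C, hCn, hCp⟩ := exists_normal_prime_card hG
    by_cases hq : Nat.card C = p
    · exact ⟨C, hCn, hq⟩
    · set q := Nat.card C with hqdef
      have hcardG := Subgroup.card_eq_card_quotient_mul_card_subgroup C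
      have hlt : Nat.card (G ⧸ C) < n := by
        rw [← hcard]; exact card_quotient_lt C hCp.one_lt
      have hpQ : p ∣ Nat.card (G ⧸ C) := by
        have : p ∣ Nat.card (G ⧸ C) * q := hcardG ▸ hpd
        have hcop : Nat.Coprime p q := (Nat.coprime_primes hp hCp).mpr (Ne.symm hq)
        exact hcop.dvd_of_dvd_mul_right this
      have hmaxQ : ∀ r : ℕ, r.Prime → r ∣ Nat.card (G ⧸ C) → r ≤ p := by
        intro r hr hrd
        exact hmax r hr (hcardG ▸ (hrd.trans (dvd_mul_right _ _)))
      obtain ⟨Dbar, hDn, hDp⟩ := ih _ hlt (G ⧸ C) rfl (isSupersolvable_quotient hG C) p hp hpQ hmaxQ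
      set D := Dbar.comap (QuotientGroup.mk' C) with hD
      have hDnorm : D.Normal := hDn.comap _
      have hDcard : Nat.card D = p * q := by rw [hD, card_comap_mk', hDp]
      have hqp : q < p := lt_of_le_of_ne (hmax q hCp (hcardG ▸ dvd_mul_left _ _)) hq
      -- the Sylow p-subgroup of D is normal in D
      have : Fact p.Prime := ⟨hp⟩
      obtain P : Sylow p D := default
      have hPcard : Nat.card P = p := by
        rw [Sylow.card_eq_multiplicity, hDcard, Nat.factorization_mul hp.ne_zero hCp.ne_zero]
        simp [hp.factorization_self, Nat.factorization_eq_zero_of_not_dvd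
          (fun h => hq ((Nat.prime_dvd_prime_iff_eq hp hCp).mp h).symm)]
      have hPidx : (P : Subgroup D).index = q := by
        have := Subgroup.card_mul_index (P : Subgroup D)
        rw [hPcard, hDcard] at this
        exact Nat.eq_of_mul_eq_mul_left hp.pos this
      have hPn : (P : Subgroup D).Normal := by
        have h1 : Nat.card (Sylow p D) ∣ q := hPidx ▸ P.card_dvd_index
        have h2 : Nat.card (Sylow p D) ≡ 1 [MOD p] := card_sylow_modEq_one p D
        have h3 : Nat.card (Sylow p D) = 1 := by
          rcases (Nat.dvd_prime hCp).mp h1 with h | h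
          · exact h
          · exfalso
            rw [h] at h2
            have h4 : q % p = 1 % p := h2
            rw [Nat.mod_eq_of_lt hqp, Nat.mod_eq_of_lt hp.one_lt] at h4
            exact hCp.one_lt.ne' h4
        have hsub : Subsingleton (Sylow p D) := (Nat.card_eq_one_iff_unique.mp h3).1
        exact Sylow.normal_of_subsingleton P
      have hPc : (P : Subgroup D).Characteristic := P.characteristic_of_normal hPn
      refine ⟨(P : Subgroup D).map D.subtype, inferInstance, ?_⟩
      rw [Subgroup.card_map_of_injective D.subtype_injective, hPcard]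

theorem exists_pchain_aux : ∀ (n : ℕ) (G : Type u) [Group G] [Finite G],
    Nat.card G = n → Cfsg.IsSupersolvable G → ∀ b0 : ℕ,
    (∀ q : ℕ, q.Prime → q ∣ Nat.card G → q ≤ b0) →
    ∃ b : ℕ, PChain (G := G) b0 b ⊤ := by
  intro n
  induction n using Nat.strong_induction_on with
  | _ n ih =>
    intro G _ _ hcard hG b0 hb0
    by_cases hnt : Nontrivial G
    · have h1 : 1 < Nat.card G := Finite.one_lt_card_iff_nontrivial.mpr hnt
      have hne : (Nat.card G).primeFactors.Nonempty :=
        Nat.nonempty_primeFactors.mpr h1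
      set p := (Nat.card G).primeFactors.max' hne with hpdef
      have hpmem : p ∈ (Nat.card G).primeFactors := Finset.max'_mem _ hne
      have hp : p.Prime := Nat.prime_of_mem_primeFactors hpmem
      have hpd : p ∣ Nat.card G := Nat.dvd_of_mem_primeFactors hpmem
      have hmax : ∀ q : ℕ, q.Prime → q ∣ Nat.card G → q ≤ p := by
        intro q hq hqd
        exact Finset.le_max' _ q (Nat.mem_primeFactors.mpr ⟨hq, hqd, Nat.card_pos.ne'⟩)
      obtain ⟨C, hCn, hCp⟩ := exists_normal_card_eq_max_prime_aux _ G rfl hG p hp hpd hmax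
      have hcardG := Subgroup.card_eq_card_quotient_mul_card_subgroup C
      have hlt : Nat.card (G ⧸ C) < n := by
        rw [← hcard]; exact card_quotient_lt C (hCp ▸ hp.one_lt)
      have hmaxQ : ∀ r : ℕ, r.Prime → r ∣ Nat.card (G ⧸ C) → r ≤ p := by
        intro r hr hrd
        exact hmax r hr (hcardG ▸ (hrd.trans (dvd_mul_right _ _)))
      obtain ⟨b, hb⟩ := ih _ hlt (G ⧸ C) rfl (isSupersolvable_quotient hG C) p hmaxQ
      refine ⟨b, ?_⟩
      have := PChain.comap_mk' C p b0 hCp hp (hb0 p hp hpd) hb
      rwa [Subgroup.comap_top] at this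
    · rw [not_nontrivial_iff_subsingleton] at hnt
      refine ⟨b0, ?_⟩
      have : (⊤ : Subgroup G) = ⊥ := Subsingleton.elim _ _
      rw [this]; exact PChain.bot

theorem chain_of_pchain {G : Type*} [Group G] {b0 b : ℕ} {A : Subgroup G}
    (h : PChain b0 b A) :
    ∃ (n : ℕ) (H : Fin (n + 1) → Subgroup G), H 0 = ⊥ ∧ H (Fin.last n) = A ∧
      (∀ i, (H i).Normal) ∧
      (∀ i : Fin n, H i.castSucc ≤ H i.succ ∧ ((H i.castSucc).relIndex (H i.succ)).Prime) ∧
      (∀ i j : Fin n, i ≤ j →
        (H j.castSucc).relIndex (H j.succ) ≤ (H i.castSucc).relIndex (H i.succ)) ∧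
      (∀ i : Fin n, b ≤ (H i.castSucc).relIndex (H i.succ)) := by
  induction h with
  | bot =>
    exact ⟨0, fun _ => ⊥, rfl, rfl, fun _ => Subgroup.normal_bot, fun i => i.elim0,
      fun i => i.elim0, fun i => i.elim0⟩
  | step b A B hA hAB hBn hprime hle ih =>
    obtain ⟨n, H, h0, hl, hnorm, hstep, hmono, hbound⟩ := ih
    set H' : Fin (n + 1 + 1) → Subgroup G := Fin.snoc H B with hH'
    have hcs : ∀ j : Fin (n + 1), H' j.castSucc = H j := fun j => by
      rw [hH', Fin.snoc_castSucc]
    have hlast : H' (Fin.last (n + 1)) = B := by rw [hH', Fin.snoc_last]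
    have hR_last : (H' (Fin.last n).castSucc).relIndex (H' (Fin.last n).succ) = A.relIndex B := by
      rw [hcs, Fin.succ_last, hlast, hl]
    have hR_cast : ∀ j : Fin n, (H' j.castSucc.castSucc).relIndex (H' j.castSucc.succ)
        = (H j.castSucc).relIndex (H j.succ) := by
      intro j
      rw [hcs, ← Fin.castSucc_succ, hcs]
    refine ⟨n + 1, H', ?_, hlast, ?_, ?_, ?_, ?_⟩
    · have : (0 : Fin (n + 1 + 1)) = Fin.castSucc (0 : Fin (n + 1)) := rfl
      rw [this, hcs]; exact h0
    · intro i
      induction i using Fin.lastCases with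
      | last => rw [hlast]; exact hBn
      | cast j => rw [hcs]; exact hnorm j
    · intro i
      induction i using Fin.lastCases with
      | last =>
        rw [hR_last]
        refine ⟨?_, hprime⟩
        rw [hcs, Fin.succ_last, hlast, hl]; exact hAB
      | cast j =>
        rw [hR_cast]
        refine ⟨?_, (hstep j).2⟩
        rw [hcs, ← Fin.castSucc_succ, hcs]; exact (hstep j).1
    · intro i j hij
      induction j using Fin.lastCases with
      | last =>
        rw [hR_last]
        induction i using Fin.lastCases with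
        | last => rw [hR_last]
        | cast i' => rw [hR_cast]; exact hle.trans (hbound i')
      | cast j' =>
        rw [hR_cast]
        induction i using Fin.lastCases with
        | last =>
          exfalso
          have : (Fin.last n : Fin (n + 1)) ≤ j'.castSucc := hij
          have h2 := Fin.castSucc_lt_last j'
          exact absurd (lt_of_le_of_lt this h2) (lt_irrefl _)
        | cast i' =>
          rw [hR_cast]
          exact hmono i' j' (by simpa using hij)
    · intro i
      induction i using Fin.lastCases with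
      | last => rw [hR_last]
      | cast j => rw [hR_cast]; exact hle.trans (hbound j)

theorem exists_prime_chain_of_isSupersolvable {G : Type*} [Group G] [Finite G]
    (hG : Cfsg.IsSupersolvable G) :
    ∃ (n : ℕ) (H : Fin (n + 1) → Subgroup G), H 0 = ⊥ ∧ H (Fin.last n) = ⊤ ∧
      (∀ i, (H i).Normal) ∧
      (∀ i : Fin n, H i.castSucc ≤ H i.succ ∧ ((H i.castSucc).relIndex (H i.succ)).Prime) ∧
      ∀ i j : Fin n, i ≤ j →
        (H j.castSucc).relIndex (H j.succ) ≤ (H i.castSucc).relIndex (H i.succ) := by
  obtain ⟨b, hb⟩ := exists_pchain_aux _ G rfl hG (Nat.card G)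
    (fun q _ hqd => Nat.le_of_dvd Nat.card_pos hqd)
  obtain ⟨n, H, h0, hl, hnorm, hstep, hmono, -⟩ := chain_of_pchain hb
  exact ⟨n, H, h0, hl, hnorm, hstep, hmono⟩

end Cfsg.Agent.Helper9
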