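import Mathlib
import Cfsg.Agent.Lib.Helper9.Supersolvable

set_option autoImplicit false

namespace Cfsg.Agent.Helper9

open Subgroup
open scoped commutatorElement

/-- In a group with a normal cyclic subgroup `zpowers z`, every commutator commutes with `z`. -/
theorem commutatorElement_mul_comm_of_normal_zpowers {Q : Type*} [Group Q] (z : Q)
    (hZ : (zpowers z).Normal) (x y : Q) : ⁅x, y⁆ * z = z * ⁅x, y⁆ := by
  have key : ∀ w : Q, ∃ k : ℤ, w * z * w⁻¹ = z ^ k := by
    intro w
    have := hZ.conj_mem z (mem_zpowers z) w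
    obtain ⟨k, hk⟩ := mem_zpowers_iff.mp this
    exact ⟨k, hk.symm⟩
  have pw : ∀ (w : Q) (k m : ℤ), w * z * w⁻¹ = z ^ k → w * z ^ m * w⁻¹ = z ^ (k * m) := by
    intro w k m h
    rw [← conj_zpow, h, zpow_mul]
  obtain ⟨a, ha⟩ := key x
  obtain ⟨b, hb⟩ := key y
  obtain ⟨a', ha'⟩ := key x⁻¹
  obtain ⟨b', hb'⟩ := key y⁻¹
  have e1 : z = z ^ (a * a') := by
    have := pw x a a' ha
    rw [← this, ← ha']
    group
  have e2 : z = z ^ (b * b') := by
    have := pw y b b' hb
    rw [← this, ← hb']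
    group
  have e3 : ⁅x, y⁆ * z * ⁅x, y⁆⁻¹ = z ^ (a * (b * (a' * b'))) := by
    have h1 : ⁅x, y⁆ * z * ⁅x, y⁆⁻¹ = x * (y * (x⁻¹ * (y⁻¹ * z * y⁻¹⁻¹) * x⁻¹⁻¹) * y⁻¹) * x⁻¹ := by
      rw [commutatorElement_def]; group
    rw [h1, hb', pw x⁻¹ a' b' ha', pw y b (a' * b') hb, pw x a _ ha]
  have e4 : z ^ (a * (b * (a' * b'))) = z := by
    have : a * (b * (a' * b')) = (a * a') * (b * b') := by ring
    rw [this, zpow_mul, ← e1, ← e2]
  rw [e4] at e3
  calc ⁅x, y⁆ * z = (⁅x, y⁆ * z * ⁅x, y⁆⁻¹) * ⁅x, y⁆ := by group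
    _ = z * ⁅x, y⁆ := by rw [e3]

theorem commutator_le_comap_centralizer_zpowers {Q : Type*} [Group Q] (z : Q)
    (hZ : (zpowers z).Normal) : commutator Q ≤ centralizer (zpowers z : Set Q) := by
  rw [commutator_eq_closure, Subgroup.closure_le]
  rintro _ ⟨x, y, rfl⟩
  rw [SetLike.mem_coe, mem_centralizer_iff]
  intro w hw
  obtain ⟨k, rfl⟩ := mem_zpowers_iff.mp hw
  have hc : Commute (⁅x, y⁆) z := commutatorElement_mul_comm_of_normal_zpowers z hZ x y
  exact (hc.zpow_right k).eq.symm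

/-- the commutator subgroup acts trivially on each cyclic step -/
theorem commutator_centralizes_step {G : Type*} [Group G] (A : Subgroup G) [hA : A.Normal] (g : G)
    (hB : (A ⊔ zpowers g).Normal) (d : G) (hd : d ∈ commutator G) (b : G)
    (hb : b ∈ A ⊔ zpowers g) : d * b * d⁻¹ * b⁻¹ ∈ A := by
  let π := QuotientGroup.mk' A
  have hmapA : A.map π = ⊥ := by
    rw [eq_bot_iff]
    rintro _ ⟨a, ha, rfl⟩
    rw [Subgroup.mem_bot, QuotientGroup.mk'_apply, QuotientGroup.eq_one_iff]
    exact ha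
  have hmap : (A ⊔ zpowers g).map π = zpowers (π g) := by
    rw [Subgroup.map_sup, MonoidHom.map_zpowers, hmapA, bot_sup_eq]
  have hZ : (zpowers (π g)).Normal := by
    rw [← hmap]; exact hB.map π (QuotientGroup.mk'_surjective A)
  have hdc : π d ∈ commutator (G ⧸ A) := by
    have : (commutator G).map π ≤ commutator (G ⧸ A) := by
      rw [commutator_def, commutator_def, Subgroup.map_commutator]
      exact Subgroup.commutator_mono le_top le_top
    exact this ⟨d, hd, rfl⟩
  have hcen := commutator_le_comap_centralizer_zpowers (π g) hZ hdc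
  rw [mem_centralizer_iff] at hcen
  have hpb : π b ∈ zpowers (π g) := by rw [← hmap]; exact ⟨b, hb, rfl⟩
  have := hcen (π b) hpb
  have h1 : π (d * b * d⁻¹ * b⁻¹) = 1 := by
    rw [map_mul, map_mul, map_mul, map_inv, map_inv, ← this]; group
  rwa [QuotientGroup.mk'_apply, QuotientGroup.eq_one_iff] at h1

theorem Reach.subgroupOf_commutator_le_upperCentralSeries {G : Type*} [Group G] {A : Subgroup G}
    (h : Reach A) : ∃ n : ℕ, A.subgroupOf (commutator G) ≤ Subgroup.upperCentralSeries (commutator G) n := by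
  induction h with
  | bot => exact ⟨0, by simp⟩
  | step A g hA hN ih =>
    obtain ⟨n, hn⟩ := ih
    refine ⟨n + 1, ?_⟩
    intro x hx
    rw [Subgroup.mem_upperCentralSeries_succ_iff]
    intro y
    apply hn
    rw [mem_subgroupOf] at hx ⊢
    have := hA.normal
    have h1 := commutator_centralizes_step A g hN (y : G) y.2 (x : G) hx
    have h2 := A.inv_mem h1
    have : ((⁅x, y⁆ : commutator G) : G) = ((y : G) * x * (y : G)⁻¹ * (x : G)⁻¹)⁻¹ := by
      rw [commutatorElement_def]; push_cast; group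
    rw [this]; exact h2

theorem isNilpotent_commutator_of_isSupersolvable {G : Type*} [Group G]
    (hG : Cfsg.IsSupersolvable G) : Group.IsNilpotent (commutator G) := by
  rw [isSupersolvable_iff_reach] at hG
  obtain ⟨n, hn⟩ := hG.subgroupOf_commutator_le_upperCentralSeries
  refine ⟨⟨n, ?_⟩⟩
  rw [eq_top_iff]
  intro x _
  apply hn
  rw [mem_subgroupOf]; trivial

end Cfsg.Agent.Helper9
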