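import Mathlib
import Cfsg.Agent.Lib.Helper9.Supersolvable
import Cfsg.Agent.Lib.Helper9.SupersolvableNilp
import Cfsg.Agent.Lib.Helper9.SupersolvablePrime
import Cfsg.Agent.Lib.Helper9.SupersolvableTwoP
import Cfsg.Agent.Lib.Helper9.PrimitiveSolvable
import Cfsg.Agent.Lib.Helper9.PowerAut
import Cfsg.Agent.Lib.Helper9.QuasiRefl
import Cfsg.Agent.Lib.Helper2.Frobenius

set_option autoImplicit false
set_option linter.style.haveILetI false

namespace Cfsg.Agent.Helper9

open Subgroup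

/-- an element of `q`-power order normalizing a cyclic group of prime order `p` with `q ∤ p - 1`
centralizes it. -/
theorem conj_eq_of_not_dvd_pred {G : Type*} [Group G] {g c : G} {p q b : ℕ} [hp : Fact p.Prime]
    (hq : q.Prime) (hco : orderOf c = p) (hgo : orderOf g = q ^ b) (hqp : ¬ q ∣ p - 1)
    (hmem : g * c * g⁻¹ ∈ zpowers c) : g * c * g⁻¹ = c := by
  have hfin : IsOfFinOrder c := by
    rw [← orderOf_pos_iff, hco]; exact hp.out.pos
  obtain ⟨k, hk⟩ := (Submonoid.mem_powers_iff _ _).mp (hfin.mem_powers_iff_mem_zpowers.mpr hmem)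
  have hn : ∀ n : ℕ, g ^ n * c * (g ^ n)⁻¹ = c ^ (k ^ n) := by
    intro n
    induction n with
    | zero => simp
    | succ n ih =>
      have : g ^ (n + 1) * c * (g ^ (n + 1))⁻¹ = g * (g ^ n * c * (g ^ n)⁻¹) * g⁻¹ := by
        rw [pow_succ']; group
      rw [this, ih, ← conj_pow, ← hk, ← pow_mul, pow_succ, mul_comm]
  have h1 := hn (q ^ b)
  rw [← hgo, pow_orderOf_eq_one, one_mul, inv_one, mul_one, hgo] at h1
  have h2 : k ^ (q ^ b) ≡ 1 [MOD p] := by
    rw [← hco]
    apply pow_eq_pow_iff_modEq.mp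
    rw [pow_one]; exact h1.symm
  have h3 : ((k : ZMod p)) ^ (q ^ b) = 1 := by
    have := (ZMod.natCast_eq_natCast_iff _ _ p).mpr h2
    simpa using this
  have hqb0 : q ^ b ≠ 0 := pow_ne_zero _ hq.ne_zero
  have hunit : IsUnit (k : ZMod p) := IsUnit.of_pow_eq_one h3 hqb0
  obtain ⟨u, hu⟩ := hunit
  have hu1 : u ^ (q ^ b) = 1 := by
    apply Units.ext
    rw [Units.val_pow_eq_pow_val, hu, h3]; rfl
  have hu2 : u ^ (p - 1) = 1 := ZMod.units_pow_card_sub_one_eq_one p u
  have hcop : Nat.Coprime (q ^ b) (p - 1) :=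
    Nat.Coprime.pow_left b ((Nat.Prime.coprime_iff_not_dvd hq).mpr hqp)
  have h4 : orderOf u ∣ Nat.gcd (q ^ b) (p - 1) :=
    Nat.dvd_gcd (orderOf_dvd_of_pow_eq_one hu1) (orderOf_dvd_of_pow_eq_one hu2)
  rw [hcop] at h4
  have hu3 : u = 1 := orderOf_eq_one_iff.mp (Nat.dvd_one.mp h4)
  have h5 : (k : ZMod p) = ((1 : ℕ) : ZMod p) := by
    rw [← hu, hu3]; simp
  have h6 : k ≡ 1 [MOD p] := (ZMod.natCast_eq_natCast_iff _ _ p).mp h5
  rw [← hk]
  rw [← hco] at h6
  have := pow_eq_pow_iff_modEq.mpr h6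
  rw [pow_one] at this
  exact this

/-- lifting elements of prime power order through a surjection of finite groups. -/
theorem exists_lift_primePow {G Q : Type*} [Group G] [Finite G] [Group Q] (f : G →* Q)
    (hf : Function.Surjective f) {p a : ℕ} (hp : p.Prime) {y : Q} (hy : orderOf y = p ^ a) :
    ∃ x : G, f x = y ∧ ∃ c : ℕ, orderOf x = p ^ c := by
  obtain ⟨x0, rfl⟩ := hf y
  obtain ⟨c, m, hpm, hn⟩ := Nat.exists_eq_pow_mul_and_not_dvd (orderOf_pos x0).ne' p hp.ne_one
  have hcop : Nat.Coprime m (p ^ a) :=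
    (Nat.Coprime.pow_left a ((Nat.Prime.coprime_iff_not_dvd hp).mpr hpm)).symm
  by_cases ha : a = 0
  · refine ⟨1, ?_, 0, by simp⟩
    rw [ha, pow_zero, orderOf_eq_one_iff] at hy
    rw [map_one, hy]
  have hpa1 : 1 < p ^ a := Nat.one_lt_pow ha hp.one_lt
  obtain ⟨m', -, hm'⟩ := Nat.exists_mul_mod_eq_one_of_coprime hcop hpa1
  refine ⟨x0 ^ (m * m'), ?_, ?_⟩
  · rw [map_pow, ← pow_mod_orderOf, hy, hm', pow_one]
  · have h1 : (x0 ^ (m * m')) ^ (p ^ c) = 1 := by
      rw [← pow_mul, mul_comm, ← mul_assoc, ← hn, pow_mul, pow_orderOf_eq_one, one_pow]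
    obtain ⟨k, -, hk⟩ := (Nat.dvd_prime_pow hp).mp (orderOf_dvd_of_pow_eq_one h1)
    exact ⟨k, hk⟩

theorem isSolvable_of_isSupersolvable {G : Type*} [Group G] (h : Cfsg.IsSupersolvable G) :
    Group.IsSolvable G := by
  have h1 : Group.IsNilpotent (commutator G) := isNilpotent_commutator_of_isSupersolvable h
  have h2 : Group.IsSolvable (commutator G) := inferInstance
  have h3 : Group.IsSolvable (G ⧸ commutator G) :=
    (inferInstance : Group.IsSolvable (Abelianization G))
  exact Group.isSolvable_of_ker_le_range (commutator G).subtype (QuotientGroup.mk' (commutator G))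
    (by rw [QuotientGroup.ker_mk', Subgroup.range_subtype])

/-- existence of a minimal normal subgroup. -/
theorem exists_minNormal (G : Type*) [Group G] [Finite G] [Nontrivial G] :
    ∃ N : Subgroup G, N.Normal ∧ N ≠ ⊥ ∧ ∀ K : Subgroup G, K.Normal → K ≤ N → K = ⊥ ∨ K = N := by
  classical
  have hex : ∃ n : ℕ, ∃ N : Subgroup G, N.Normal ∧ N ≠ ⊥ ∧ Nat.card N = n :=
    ⟨_, ⊤, inferInstance, top_ne_bot, rfl⟩
  obtain ⟨N, hNn, hNne, hNc⟩ := Nat.find_spec hex
  refine ⟨N, hNn, hNne, fun K hKn hKN => ?_⟩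
  by_cases hK : K = ⊥
  · exact Or.inl hK
  right
  have h1 : Nat.find hex ≤ Nat.card K := Nat.find_min' hex ⟨K, hKn, hK, rfl⟩
  exact eq_of_le_of_card_ge hKN (by rw [hNc]; exact h1)

/-- a minimal normal subgroup of a solvable group has prime exponent -/
theorem minNormal_exponent {G : Type*} [Group G] [Finite G] [Group.IsSolvable G] (M : Subgroup G)
    [hMn : M.Normal] (hM : M ≠ ⊥)
    (hmin : ∀ K : Subgroup G, K.Normal → K ≤ M → K = ⊥ ∨ K = M) :
    ∃ r : ℕ, r.Prime ∧ ∀ v ∈ M, v ^ r = 1 := by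
  have hcomm := minNormal_comm M hM hmin
  have hnt : Nontrivial M := (Subgroup.nontrivial_iff_ne_bot M).mpr hM
  have h1 : 1 < Nat.card M := Finite.one_lt_card_iff_nontrivial.mpr hnt
  obtain ⟨p, hp, hpd⟩ := Nat.exists_prime_and_dvd (ne_of_gt h1)
  have : Fact p.Prime := ⟨hp⟩
  obtain ⟨x, hx⟩ := exists_prime_orderOf_dvd_card' p hpd
  have hK : torsionIn M hcomm p = M := by
    rcases hmin (torsionIn M hcomm p) (torsionIn_normal M hcomm p) (fun g hg => hg.1) with h | h
    · exfalso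
      have hxK : (x : G) ∈ torsionIn M hcomm p := by
        refine ⟨x.2, ?_⟩
        have : x ^ p = 1 := by rw [← hx]; exact pow_orderOf_eq_one x
        have := congrArg Subtype.val this
        simpa using this
      rw [h, mem_bot] at hxK
      have hx1 : x = 1 := Subtype.ext hxK
      rw [hx1, orderOf_one] at hx
      exact hp.one_lt.ne hx
    · exact h
  refine ⟨p, hp, fun v hv => ?_⟩
  have : v ∈ torsionIn M hcomm p := by rw [hK]; exact hv
  exact this.2

/-- the hypothesis of the supersolvability criterion -/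
def SqHyp (G : Type*) [Group G] : Prop :=
  ∀ (p q : ℕ), p.Prime → q.Prime → p ≠ q → ∀ (x g : G), (∃ a : ℕ, orderOf x = p ^ a) →
    (∃ b : ℕ, orderOf g = q ^ b) →
      ¬ q ^ 2 ∣ Nat.card ↥(Subgroup.zpowers x ⊔ Subgroup.zpowers (g * x * g⁻¹))

theorem SqHyp.subgroup {G : Type*} [Group G] (h : SqHyp G) (H : Subgroup G) : SqHyp H := by
  intro p q hp hq hpq x g hx hg hdvd
  apply h p q hp hq hpq (x : G) (g : G)
    (by rw [Subgroup.orderOf_coe]; exact hx) (by rw [Subgroup.orderOf_coe]; exact hg)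
  have h1 : (zpowers x ⊔ zpowers (g * x * g⁻¹)).map H.subtype =
      zpowers (x : G) ⊔ zpowers ((g : G) * x * (g : G)⁻¹) := by
    rw [Subgroup.map_sup, MonoidHom.map_zpowers, MonoidHom.map_zpowers]
    simp
  rw [← h1, Subgroup.card_map_of_injective H.subtype_injective]
  exact hdvd

theorem SqHyp.quotient {G : Type*} [Group G] [Finite G] (h : SqHyp G) (N : Subgroup G)
    [N.Normal] : SqHyp (G ⧸ N) := by
  intro p q hp hq hpq xb gb hx hg hdvd
  obtain ⟨a, ha⟩ := hx
  obtain ⟨b, hb⟩ := hg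
  obtain ⟨x, rfl, hxo⟩ := exists_lift_primePow (QuotientGroup.mk' N)
    (QuotientGroup.mk'_surjective N) hp ha
  obtain ⟨g, rfl, hgo⟩ := exists_lift_primePow (QuotientGroup.mk' N)
    (QuotientGroup.mk'_surjective N) hq hb
  apply h p q hp hq hpq x g hxo hgo
  have h1 : (zpowers x ⊔ zpowers (g * x * g⁻¹)).map (QuotientGroup.mk' N) =
      zpowers ((QuotientGroup.mk' N) x) ⊔
        zpowers ((QuotientGroup.mk' N) g * (QuotientGroup.mk' N) x * ((QuotientGroup.mk' N) g)⁻¹) := by
    rw [Subgroup.map_sup, MonoidHom.map_zpowers, MonoidHom.map_zpowers]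
    simp
  rw [← h1] at hdvd
  exact dvd_trans hdvd (Subgroup.card_map_dvd _ _)

/-- key consequence: `y` normalizes the cyclic group generated by a `q`-element of
`⟨y, y^g⟩` lying in a `y`-invariant `q`-subgroup. -/
theorem SqHyp.conj_mem_zpowers {G : Type*} [Group G] [Finite G] (h : SqHyp G) {p q : ℕ}
    (hp : p.Prime) (hq : q.Prime) (hpq : p ≠ q) {y g : G} (hy : ∃ a : ℕ, orderOf y = p ^ a)
    (hg : ∃ b : ℕ, orderOf g = q ^ b) (X : Subgroup G) (hX : IsPGroup q X)
    (hyX : ∀ u ∈ X, y * u * y⁻¹ ∈ X) {c : G} (hcX : c ∈ X)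
    (hcL : c ∈ zpowers y ⊔ zpowers (g * y * g⁻¹)) :
    y * c * y⁻¹ ∈ zpowers c ∧ (c ≠ 1 → orderOf c = q) := by
  by_cases hc1 : c = 1
  · subst hc1
    refine ⟨by simp, fun h => absurd rfl h⟩
  have : Fact q.Prime := ⟨hq⟩
  set L := zpowers y ⊔ zpowers (g * y * g⁻¹) with hL
  have hnd := h p q hp hq hpq y g hy hg
  have hT : IsPGroup q ↥(L ⊓ X) := hX.to_le inf_le_right
  obtain ⟨t, ht⟩ := IsPGroup.iff_card.mp hT
  have hTL : Nat.card ↥(L ⊓ X) ∣ Nat.card L := Subgroup.card_dvd_of_le inf_le_left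
  have ht1 : t ≤ 1 := by
    by_contra hlt
    push Not at hlt
    apply hnd
    refine dvd_trans ?_ hTL
    rw [ht]
    exact pow_dvd_pow q hlt
  have hcT : c ∈ L ⊓ X := ⟨hcL, hcX⟩
  have hle : zpowers c ≤ L ⊓ X := zpowers_le.mpr hcT
  have hco : orderOf c ∣ q ^ t := by
    rw [← ht, ← Nat.card_zpowers]
    exact Subgroup.card_dvd_of_le hle
  have hco1 : orderOf c ≠ 1 := fun h => hc1 (orderOf_eq_one_iff.mp h)
  have ht' : t = 1 := by
    rcases Nat.eq_zero_or_pos t with h0 | h0
    · rw [h0, pow_zero] at hco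
      exact absurd (Nat.dvd_one.mp hco) hco1
    · omega
  rw [ht', pow_one] at hco ht
  have hcoq : orderOf c = q := by
    rcases (Nat.dvd_prime hq).mp hco with h1 | h1
    · exact absurd h1 hco1
    · exact h1
  have heq : zpowers c = L ⊓ X := by
    apply eq_of_le_of_card_ge hle
    rw [ht, Nat.card_zpowers, hcoq]
  refine ⟨?_, fun _ => hcoq⟩
  rw [heq]
  refine ⟨?_, hyX c hcX⟩
  have hyL : y ∈ L := (le_sup_left : zpowers y ≤ L) (mem_zpowers y)
  exact L.mul_mem (L.mul_mem hyL hcL) (L.inv_mem hyL)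

/-- a `q`-element normalizing a `p`-subgroup centralizes it when `q ∤ p - 1`. -/
theorem SqHyp.mem_centralizer {G : Type*} [Group G] [Finite G] (h : SqHyp G) {p q b : ℕ}
    [hp : Fact p.Prime] (hq : q.Prime) (hqp' : q ≠ p) (hqp : ¬ q ∣ p - 1) (X : Subgroup G)
    (hX : IsPGroup p X) {g : G} (hgN : g ∈ normalizer (X : Set G)) (hgo : orderOf g = q ^ b) :
    g ∈ centralizer (X : Set G) := by
  rw [mem_centralizer_iff]
  intro x hx
  have hx : x ∈ X := hx
  rw [Subgroup.mem_normalizer_iff] at hgN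
  set c := g⁻¹ * (x * g * x⁻¹) with hc
  have hxo : ∃ k : ℕ, orderOf x = p ^ k := by
    obtain ⟨k, hk⟩ := IsPGroup.iff_orderOf.mp hX ⟨x, hx⟩
    exact ⟨k, by rw [← hk]; exact Subgroup.orderOf_coe (⟨x, hx⟩ : X)⟩
  have hcX : c ∈ X := by
    have h1 : g⁻¹ * x * g ∈ X := by
      rw [hgN (g⁻¹ * x * g)]
      have : g * (g⁻¹ * x * g) * g⁻¹ = x := by group
      rw [this]; exact hx
    have : c = (g⁻¹ * x * g) * x⁻¹ := by rw [hc]; group
    rw [this]
    exact X.mul_mem h1 (X.inv_mem hx)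
  have hcL : c ∈ zpowers g ⊔ zpowers (x * g * x⁻¹) := by
    apply Subgroup.mul_mem
    · exact (le_sup_left : zpowers g ≤ _) (inv_mem (mem_zpowers g))
    · exact (le_sup_right : zpowers (x * g * x⁻¹) ≤ _) (mem_zpowers _)
  obtain ⟨hmem, hord⟩ := h.conj_mem_zpowers hq hp.out hqp' ⟨b, hgo⟩ hxo X hX
    (fun u hu => (hgN u).mp hu) hcX hcL
  have hc1 : c = 1 := by
    by_contra hne
    have hco := hord hne
    have hcomm : g * c * g⁻¹ = c := conj_eq_of_not_dvd_pred hq hco hgo hqp hmem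
    have hcg : Commute g c := by
      have : g * c = c * g := by
        calc g * c = (g * c * g⁻¹) * g := by group
          _ = c * g := by rw [hcomm]
      exact this
    have hg' : x * g * x⁻¹ = g * c := by rw [hc]; group
    have hcg' : Commute g⁻¹ (x * g * x⁻¹) := by
      rw [hg']
      exact (Commute.refl g).inv_left.mul_right hcg.inv_left
    have hpow : c ^ (q ^ b) = 1 := by
      rw [hc, hcg'.mul_pow, inv_pow, ← hgo, pow_orderOf_eq_one, inv_one, one_mul, conj_pow,
        pow_orderOf_eq_one, mul_one, mul_inv_cancel]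
    have h1 : p ∣ q ^ b := by
      rw [← hco]; exact orderOf_dvd_of_pow_eq_one hpow
    have h2 : p ∣ q := hp.out.dvd_of_dvd_pow h1
    exact hqp' ((Nat.prime_dvd_prime_iff_eq hp.out hq).mp h2).symm
  have : x * g * x⁻¹ = g := by
    have : g⁻¹ * (x * g * x⁻¹) = 1 := hc1
    calc x * g * x⁻¹ = g * (g⁻¹ * (x * g * x⁻¹)) := by group
      _ = g := by rw [this, mul_one]
  calc x * g = (x * g * x⁻¹) * x := by group
    _ = g * x := by rw [this]

/-- Frobenius' condition for the smallest prime divisor. -/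
theorem SqHyp.frobCond {G : Type*} [Group G] [Finite G] [Nontrivial G] (h : SqHyp G) :
    Cfsg.Agent.Helper2.FrobCond (Nat.card G).minFac G := by
  have hcard : Nat.card G ≠ 1 := (Finite.one_lt_card (α := G)).ne'
  have hp : (Nat.card G).minFac.Prime := Nat.minFac_prime hcard
  have : Fact (Nat.card G).minFac.Prime := ⟨hp⟩
  intro X hX g hgN hgo
  apply mem_of_forall_primePow_pow_mem (centralizer (X : Set G)) (orderOf g) g rfl (orderOf_pos g)
  rintro k ⟨q, b, hq, hqb⟩
  by_cases hb : b = 0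
  · rw [hb, pow_zero, orderOf_eq_one_iff] at hqb
    rw [hqb]; exact Subgroup.one_mem _
  have hqg : q ∣ orderOf g := by
    have h1 : q ∣ orderOf (g ^ k) := by rw [hqb]; exact dvd_pow_self q hb
    exact dvd_trans h1 (orderOf_pow_dvd k)
  have hqne : q ≠ (Nat.card G).minFac := by
    intro heq
    have h2 : (Nat.card G).minFac ∣ 1 := by
      have := Nat.dvd_gcd (heq ▸ hqg) (dvd_refl (Nat.card G).minFac)
      rwa [hgo] at this
    exact hp.one_lt.ne' (Nat.dvd_one.mp h2)
  have hqG : q ∣ Nat.card G := dvd_trans hqg (orderOf_dvd_natCard g)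
  have hle : (Nat.card G).minFac ≤ q := Nat.minFac_le_of_dvd hq.two_le hqG
  have hlt : (Nat.card G).minFac < q := lt_of_le_of_ne hle (Ne.symm hqne)
  have hqp : ¬ q ∣ (Nat.card G).minFac - 1 := by
    intro hd
    have hpos : 0 < (Nat.card G).minFac - 1 := by have := hp.two_le; omega
    have := Nat.le_of_dvd hpos hd
    omega
  exact h.mem_centralizer hq hqne hqp X hX (Subgroup.pow_mem _ hgN k) hqb

universe u

/-- a minimal normal elementary abelian subgroup `N` with `G ⧸ N` supersolvable is cyclic under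
the hypothesis. -/
theorem SqHyp.isCyclic_minNormal {G : Type*} [Group G] [Finite G] (h : SqHyp G)
    (N : Subgroup G) [hNn : N.Normal] (hNne : N ≠ ⊥)
    (hmin : ∀ K : Subgroup G, K.Normal → K ≤ N → K = ⊥ ∨ K = N)
    (hcomm : ∀ a ∈ N, ∀ b ∈ N, a * b = b * a) {r : ℕ} (hr : r.Prime)
    (hrexp : ∀ v ∈ N, v ^ r = 1) (hQ : Cfsg.IsSupersolvable (G ⧸ N)) : IsCyclic ↥N := by
  letI : CommGroup ↥N :=
    { (inferInstance : Group ↥N) with
      mul_comm := fun a b => Subtype.ext (hcomm a a.2 b b.2) }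
  haveI : Fact r.Prime := ⟨hr⟩
  have hexp : ∀ v : ↥N, v ^ r = 1 := fun v => Subtype.ext (by simpa using hrexp v v.2)
  haveI : Nontrivial ↥N := (Subgroup.nontrivial_iff_ne_bot N).mpr hNne
  let φ : G →* MulAut ↥N := MulAut.conjNormal
  have hφ : ∀ (g : G) (v : ↥N), ((φ g v : ↥N) : G) = g * v * g⁻¹ :=
    fun g v => MulAut.conjNormal_apply g v
  -- supersolvability of the range
  have hker : N ≤ φ.rangeRestrict.ker := by
    intro n hn
    rw [MonoidHom.mem_ker]
    apply Subtype.ext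
    ext v
    show ((φ n v : ↥N) : G) = v
    rw [hφ, hcomm n hn v v.2, mul_assoc, mul_inv_cancel, mul_one]
  let ψ : G ⧸ N →* ↥φ.range := QuotientGroup.lift N φ.rangeRestrict hker
  have hψ : Function.Surjective ψ := by
    intro k
    obtain ⟨g, hg⟩ := φ.rangeRestrict_surjective k
    exact ⟨(g : G ⧸ N), by rw [← hg]; rfl⟩
  have hKss : Cfsg.IsSupersolvable ↥φ.range := isSupersolvable_of_surjective ψ hψ hQ
  -- irreducibility
  have hirr : IrrOn φ.range := by
    intro U hU
    have hUn : (U.map N.subtype).Normal := by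
      constructor
      rintro _ ⟨u, hu, rfl⟩ g
      refine ⟨φ g u, hU (φ g) ⟨g, rfl⟩ u hu, ?_⟩
      exact hφ g u
    have hUle : U.map N.subtype ≤ N := by
      rintro _ ⟨u, -, rfl⟩
      exact u.2
    rcases hmin _ hUn hUle with h1 | h1
    · left
      exact (Subgroup.map_eq_bot_iff_of_injective U N.subtype_injective).mp h1
    · right
      rw [eq_top_iff]
      intro v _
      have : (v : G) ∈ U.map N.subtype := by rw [h1]; exact v.2
      obtain ⟨u, hu, huv⟩ := this
      have : u = v := Subtype.ext huv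
      rwa [← this]
  -- quasi-reflections
  have hq : QRefl r φ.range := by
    intro xb hxb p a hp hpr ho v
    have ho' : orderOf (⟨xb, hxb⟩ : ↥φ.range) = p ^ a := by
      rw [← ho]; exact (Subgroup.orderOf_coe (⟨xb, hxb⟩ : ↥φ.range)).symm
    obtain ⟨x, hx, hxo⟩ := exists_lift_primePow φ.rangeRestrict φ.rangeRestrict_surjective hp ho'
    have hxφ : φ x = xb := congrArg Subtype.val hx
    have hvo : ∃ b : ℕ, orderOf (v : G) = r ^ b := by
      have h1 : (v : G) ^ r = 1 := hrexp v v.2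
      obtain ⟨k, -, hk⟩ := (Nat.dvd_prime_pow hr).mp
        (show orderOf (v : G) ∣ r ^ 1 by rw [pow_one]; exact orderOf_dvd_of_pow_eq_one h1)
      exact ⟨k, hk⟩
    have hNp : IsPGroup r ↥N := fun g => ⟨1, by rw [pow_one]; exact hexp g⟩
    set c : G := x * v * x⁻¹ * (v : G)⁻¹ with hc
    have hcX : c ∈ N := N.mul_mem (hNn.conj_mem v v.2 x) (N.inv_mem v.2)
    have hcL : c ∈ zpowers x ⊔ zpowers ((v : G) * x * (v : G)⁻¹) := by
      have : c = x * ((v : G) * x * (v : G)⁻¹)⁻¹ := by rw [hc]; group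
      rw [this]
      apply Subgroup.mul_mem
      · exact (le_sup_left : zpowers x ≤ _) (mem_zpowers x)
      · exact (le_sup_right : zpowers ((v : G) * x * (v : G)⁻¹) ≤ _) (inv_mem (mem_zpowers _))
    obtain ⟨hmem, -⟩ := h.conj_mem_zpowers hp hr hpr hxo hvo N hNp
      (fun u hu => hNn.conj_mem u hu x) hcX hcL
    obtain ⟨k, hk⟩ := mem_zpowers_iff.mp hmem
    have hw : ((xb v / v : ↥N) : G) = c := by
      rw [← hxφ, Subgroup.coe_div, hφ, div_eq_mul_inv]
    rw [mem_zpowers_iff]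
    refine ⟨k, Subtype.ext ?_⟩
    rw [Subgroup.coe_zpow, hw, hk, ← hxφ, hφ, hxφ, hw]
  -- conclusion
  have hall := subgroup_eq_bot_or_top_of_isSupersolvable hexp hKss hirr hq
  obtain ⟨v, hv⟩ := exists_ne (1 : ↥N)
  have hz : zpowers v = ⊤ := by
    rcases hall (zpowers v) with h1 | h1
    · exfalso
      apply hv
      have : v ∈ zpowers v := mem_zpowers v
      rwa [h1, mem_bot] at this
    · exact h1
  exact ⟨v, fun w => by
    have : w ∈ zpowers v := by rw [hz]; exact mem_top w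
    exact mem_zpowers_iff.mp this⟩

theorem isSupersolvable_of_sqHyp_aux : ∀ (n : ℕ) (G : Type u) [Group G] [Finite G],
    Nat.card G = n → SqHyp G → Cfsg.IsSupersolvable G := by
  intro n
  induction n using Nat.strong_induction_on with
  | _ n ih =>
  intro G _ _ hn hH
  by_cases hsub : Subsingleton G
  · exact isSupersolvable_of_subsingleton
  rw [not_subsingleton_iff_nontrivial] at hsub
  have hcard : Nat.card G ≠ 1 := (Finite.one_lt_card (α := G)).ne'
  set p := (Nat.card G).minFac with hp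
  have hpp : p.Prime := Nat.minFac_prime hcard
  haveI : Fact p.Prime := ⟨hpp⟩
  have hpd : p ∣ Nat.card G := Nat.minFac_dvd _
  -- solvability
  have hsol : Group.IsSolvable G := by
    obtain ⟨P, Kc, hKn, hKc⟩ := Cfsg.Agent.Helper2.frobenius p hH.frobCond
    have hmul := hKc.card_mul_card
    have hP1 : 1 < Nat.card P := by
      have hne : (P : Subgroup G) ≠ ⊥ := P.ne_bot_of_dvd_card hpd
      have : Nontrivial (P : Subgroup G) := (Subgroup.nontrivial_iff_ne_bot _).mpr hne
      exact Finite.one_lt_card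
    have hKlt : Nat.card Kc < n := by
      rw [← hn, ← hmul]
      have : 0 < Nat.card Kc := Nat.card_pos
      nlinarith
    have hKss : Cfsg.IsSupersolvable Kc := ih _ hKlt Kc rfl (hH.subgroup Kc)
    haveI : Group.IsSolvable Kc := isSolvable_of_isSupersolvable hKss
    haveI := hKn
    obtain ⟨k, hk⟩ := IsPGroup.iff_card.mp P.isPGroup'
    have hQp : IsPGroup p (G ⧸ Kc) := by
      apply IsPGroup.of_card (n := k)
      rw [← hk, ← hKc.symm.index_eq_card]
      rfl
    haveI : Group.IsNilpotent (G ⧸ Kc) := hQp.isNilpotent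
    exact Group.isSolvable_of_ker_le_range Kc.subtype (QuotientGroup.mk' Kc)
      (by rw [QuotientGroup.ker_mk', Subgroup.range_subtype])
  obtain ⟨N, hNn, hNne, hmin⟩ := exists_minNormal G
  haveI := hNn
  have hcomm := minNormal_comm N hNne hmin
  obtain ⟨r, hr, hrexp⟩ := minNormal_exponent N hNne hmin
  have hN1 : 1 < Nat.card N := by
    have : Nontrivial N := (Subgroup.nontrivial_iff_ne_bot N).mpr hNne
    exact Finite.one_lt_card
  have hQlt : Nat.card (G ⧸ N) < n := by
    rw [← hn]; exact card_quotient_lt N hN1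
  have hQ : Cfsg.IsSupersolvable (G ⧸ N) := ih _ hQlt (G ⧸ N) rfl (hH.quotient N)
  haveI : IsCyclic ↥N := hH.isCyclic_minNormal N hNne hmin hcomm hr hrexp hQ
  exact isSupersolvable_of_cyclic_normal_of_quotient N hQ

theorem isSupersolvable_of_sqHyp {G : Type u} [Group G] [Finite G] (h : SqHyp G) :
    Cfsg.IsSupersolvable G :=
  isSupersolvable_of_sqHyp_aux _ G rfl h

end Cfsg.Agent.Helper9
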