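import Mathlib

/-!
# UT server (S2283, helper98), piece (X8r): a field of order 64 contains roots of `X^3 + X + 1`
and of `X^2 + X + 1`, and has characteristic 2.  Also piece (X5r): `2` is a square in a field of
order 25.
-/

set_option autoImplicit false

namespace Cfsg.Agent.Helper9.UT

variable {F : Type*} [Field F] [Fintype F]

/-- an element of prime order `p` in the field, when `p ∣ |F| - 1` -/
theorem h9_exists_order (p : ℕ) [Fact p.Prime] (hp : p ∣ Fintype.card F - 1) :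
    ∃ x : F, x ≠ 0 ∧ x ≠ 1 ∧ x ^ p = 1 := by
  classical
  have hcard : Fintype.card Fˣ = Fintype.card F - 1 := by
    rw [Fintype.card_units]
  obtain ⟨u, hu⟩ := exists_prime_orderOf_dvd_card (G := Fˣ) p (by rw [hcard]; exact hp)
  refine ⟨(u : F), u.ne_zero, ?_, ?_⟩
  · intro h1
    have : u = 1 := Units.ext (by simpa using h1)
    rw [this, orderOf_one] at hu
    exact (Fact.out : p.Prime).one_lt.ne hu
  · have h := pow_orderOf_eq_one u
    rw [hu] at h
    have := congrArg (fun v : Fˣ => (v : F)) h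
    simpa using this

/-- (X8r) -/
theorem exists_rho_omega (hF8 : Fintype.card F = 8 ^ 2) :
    ∃ ρ ω : F, ρ ^ 3 = ρ + 1 ∧ ω ^ 2 = ω + 1 ∧ (2 : F) = 0 := by
  have h2 : (2 : F) = 0 := by
    have h64 : ((Fintype.card F : ℕ) : F) = 0 := FiniteField.cast_card_eq_zero F
    rw [hF8] at h64
    have : (2 : F) ^ 6 = 0 := by
      have e : ((8 ^ 2 : ℕ) : F) = (2 : F) ^ 6 := by norm_num
      rw [← e]; exact h64
    exact pow_eq_zero_iff (by norm_num) |>.1 this
  have h3 : Fact (Nat.Prime 3) := ⟨by norm_num⟩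
  have h7 : Fact (Nat.Prime 7) := ⟨by norm_num⟩
  obtain ⟨w, hw0, hw1, hw3⟩ := h9_exists_order (F := F) 3 (by rw [hF8]; norm_num)
  obtain ⟨r, hr0, hr1, hr7⟩ := h9_exists_order (F := F) 7 (by rw [hF8]; norm_num)
  -- ω
  have hwq : w ^ 2 + w + 1 = 0 := by
    have hprod : (w - 1) * (w ^ 2 + w + 1) = 0 := by linear_combination hw3
    rcases mul_eq_zero.1 hprod with h | h
    · exact absurd (sub_eq_zero.1 h) hw1
    · exact h
  have hω : w ^ 2 = w + 1 := by linear_combination hwq - (w + 1) * h2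
  -- ρ
  have hsum : r ^ 6 + r ^ 5 + r ^ 4 + r ^ 3 + r ^ 2 + r + 1 = 0 := by
    have hprod : (r - 1) * (r ^ 6 + r ^ 5 + r ^ 4 + r ^ 3 + r ^ 2 + r + 1) = 0 := by
      linear_combination hr7
    rcases mul_eq_zero.1 hprod with h | h
    · exact absurd (sub_eq_zero.1 h) hr1
    · exact h
  have hfac : (r ^ 3 + r + 1) * (r ^ 3 + r ^ 2 + 1) = 0 := by
    linear_combination hsum + r ^ 3 * h2
  rcases mul_eq_zero.1 hfac with h | h
  · exact ⟨r, w, by linear_combination h - (r + 1) * h2, hω, h2⟩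
  · have hinv : r⁻¹ * r = 1 := inv_mul_cancel₀ hr0
    have hs : (r⁻¹) ^ 3 + r⁻¹ + 1 = 0 := by
      linear_combination (r⁻¹) ^ 3 * h -
        ((r⁻¹ * r) ^ 2 + r⁻¹ * r + 1 + r⁻¹ * (r⁻¹ * r + 1)) * hinv
    exact ⟨r⁻¹, w, by linear_combination hs - (r⁻¹ + 1) * h2, hω, h2⟩

/-- (X5r) -/
theorem exists_r_five (hF5 : Fintype.card F = 5 ^ 2) :
    ∃ r : F, r ^ 2 = 2 ∧ (5 : F) = 0 := by
  have h5 : (5 : F) = 0 := by
    have h25 : ((Fintype.card F : ℕ) : F) = 0 := FiniteField.cast_card_eq_zero F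
    rw [hF5] at h25
    have : (5 : F) ^ 2 = 0 := by
      have e : ((5 ^ 2 : ℕ) : F) = (5 : F) ^ 2 := by norm_num
      rw [← e]; exact h25
    exact pow_eq_zero_iff (by norm_num) |>.1 this
  have h20 : (2 : F) ≠ 0 := by
    intro h2
    have : (1 : F) = 0 := by linear_combination h5 - 2 * h2
    exact one_ne_zero this
  have hchar : ringChar F ≠ 2 := by
    intro hc
    apply h20
    have := ringChar.Nat.cast_ringChar (R := F)
    rw [hc] at this
    exact_mod_cast this
  have hsq : IsSquare (2 : F) := by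
    rw [FiniteField.isSquare_iff hchar h20, hF5]
    have : (2 : F) ^ (5 ^ 2 / 2) = 1 + 819 * 5 := by norm_num
    rw [this, h5, mul_zero, add_zero]
  obtain ⟨r, hr⟩ := hsq
  exact ⟨r, by rw [sq]; exact hr.symm, h5⟩

end Cfsg.Agent.Helper9.UT
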