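import Mathlib
import Cfsg.Agent.Lib.Helper9.WielandtBasic

/-!
# Wielandt's theorem on coprime nilpotent products: the minimal counterexample context

`WBase G H K`: `G` simple, `G = HK` with `H`, `K` nilpotent of coprime orders, plus the induction
hypothesis.  `WFront` adds the results of the "front half" of the proof.  This file derives the
basic consequences, and `C_G(H_r) ≤ H`, `N_G(H_r) = N_G(H)`.
-/

set_option autoImplicit false
set_option linter.style.haveILetI false
set_option linter.unusedSectionVars false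

namespace Cfsg.Agent.Helper9.Wielandt

open scoped Pointwise
open Cfsg.Agent.Helper19 Cfsg.Agent.Helper9.KegelRed

universe u

/-- Basic context: simple `G = HK`, nilpotent factors of coprime orders, induction hypothesis. -/
structure WBase (G : Type u) [Group G] [Finite G] (H K : Subgroup G) : Prop where
  simple : IsSimpleGroup G
  nilH : Group.IsNilpotent H
  nilK : Group.IsNilpotent K
  cop : (Nat.card H).Coprime (Nat.card K)
  fact : ∀ g : G, ∃ h ∈ H, ∃ k ∈ K, g = h * k
  ih : ∀ (L : Type u) [Group L] [Finite L], Nat.card L < Nat.card G →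
    ∀ A B : Subgroup L, Group.IsNilpotent A → Group.IsNilpotent B →
      (Nat.card A).Coprime (Nat.card B) → (∀ g : L, ∃ a ∈ A, ∃ b ∈ B, g = a * b) →
      Group.IsSolvable L

/-- Context after the front half of the proof. -/
structure WFront (G : Type u) [Group G] [Finite G] (H K : Subgroup G) : Prop
    extends WBase G H K where
  twoH : ∀ p : ℕ, p.Prime → ∃ q : ℕ, q.Prime ∧ q ≠ p ∧ q ∣ Nat.card H
  twoK : ∀ p : ℕ, p.Prime → ∃ q : ℕ, q.Prime ∧ q ≠ p ∧ q ∣ Nat.card K
  noNormH : ∀ (r : ℕ) [Fact r.Prime] (R N : Subgroup G),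
    Nat.card R = r ^ (Nat.card G).factorization r → r ∣ Nat.card H →
    (Nat.card N).Coprime (Nat.card H) → R ≤ Subgroup.normalizer (N : Set G) → N = ⊥
  noNormK : ∀ (r : ℕ) [Fact r.Prime] (R N : Subgroup G),
    Nat.card R = r ^ (Nat.card G).factorization r → r ∣ Nat.card K →
    (Nat.card N).Coprime (Nat.card K) → R ≤ Subgroup.normalizer (N : Set G) → N = ⊥

namespace WBase

variable {G : Type u} [Group G] [Finite G] {H K : Subgroup G}

theorem symm (h : WBase G H K) : WBase G K H where
  simple := h.simple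
  nilH := h.nilK
  nilK := h.nilH
  cop := h.cop.symm
  fact := fact_symm h.fact
  ih := h.ih

theorem inf_eq_bot (h : WBase G H K) : H ⊓ K = ⊥ :=
  (Subgroup.disjoint_of_coprime_natCard h.cop).eq_bot

theorem card_eq (h : WBase G H K) : Nat.card G = Nat.card H * Nat.card K := by
  have h1 := Cfsg.Agent.Helper10.card_set_mul_mul_card_inf H K
  have huniv : (H : Set G) * (K : Set G) = Set.univ := by
    ext g
    simp only [Set.mem_univ, iff_true]
    obtain ⟨a, ha, b, hb, e⟩ := h.fact g
    exact ⟨a, ha, b, hb, e.symm⟩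
  rw [huniv, h.inf_eq_bot] at h1
  simpa using h1

theorem index_H (h : WBase G H K) : H.index = Nat.card K := by
  have h1 := H.card_mul_index
  rw [h.card_eq] at h1
  exact Nat.eq_of_mul_eq_mul_left Nat.card_pos h1

theorem hall_H (h : WBase G H K) : (Nat.card H).Coprime H.index := by
  rw [h.index_H]; exact h.cop

theorem factor_unique (h : WBase G H K) {a a' b b' : G} (ha : a ∈ H) (ha' : a' ∈ H)
    (hb : b ∈ K) (hb' : b' ∈ K) (e : a * b = a' * b') : a = a' ∧ b = b' := by
  have h1 : a'⁻¹ * a = b' * b⁻¹ := by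
    calc a'⁻¹ * a = a'⁻¹ * (a * b) * b⁻¹ := by group
      _ = a'⁻¹ * (a' * b') * b⁻¹ := by rw [e]
      _ = b' * b⁻¹ := by group
  have h2 : a'⁻¹ * a ∈ H ⊓ K :=
    ⟨H.mul_mem (H.inv_mem ha') ha, h1 ▸ K.mul_mem hb' (K.inv_mem hb)⟩
  rw [h.inf_eq_bot, Subgroup.mem_bot] at h2
  have h3 : a = a' := by
    have := congrArg (fun t => a' * t) h2
    simpa using this
  refine ⟨h3, ?_⟩
  subst h3
  exact mul_left_cancel e

theorem card_subgroupOf_dvd (A L : Subgroup G) : Nat.card (A.subgroupOf L) ∣ Nat.card A := by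
  rw [← Subgroup.inf_subgroupOf_right,
    Nat.card_congr (Subgroup.subgroupOfEquivOfLe (inf_le_right : A ⊓ L ≤ L)).toEquiv]
  exact Subgroup.card_dvd_of_le inf_le_left

/-- Proper factorized subgroups are solvable. -/
theorem solvable_of_factorized (h : WBase G H K) {L : Subgroup G} (hL : L ≠ ⊤)
    (hf : ∀ g ∈ L, ∃ a ∈ H, ∃ b ∈ K, a ∈ L ∧ b ∈ L ∧ g = a * b) : Group.IsSolvable L := by
  have hlt : Nat.card L < Nat.card G := by
    rw [← Subgroup.card_top (G := G)]
    exact card_lt_card_of_lt' (lt_top_iff_ne_top.mpr hL)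
  refine h.ih L hlt (H.subgroupOf L) (K.subgroupOf L) (nilpotent_subgroupOf h.nilH L)
    (nilpotent_subgroupOf h.nilK L) ?_ ?_
  · exact Nat.Coprime.coprime_dvd_left (card_subgroupOf_dvd H L)
      (Nat.Coprime.coprime_dvd_right (card_subgroupOf_dvd K L) h.cop)
  · intro g
    obtain ⟨a, ha, b, hb, haL, hbL, e⟩ := hf g.1 g.2
    exact ⟨⟨a, haL⟩, Subgroup.mem_subgroupOf.mpr ha, ⟨b, hbL⟩, Subgroup.mem_subgroupOf.mpr hb,
      Subtype.ext e⟩

theorem fact_of_ge (h : WBase G H K) {L : Subgroup G} (hHL : H ≤ L) :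
    ∀ g ∈ L, ∃ a ∈ H, ∃ b ∈ K, a ∈ L ∧ b ∈ L ∧ g = a * b := by
  intro g hg
  obtain ⟨a, ha, b, hb, e⟩ := h.fact g
  refine ⟨a, ha, b, hb, hHL ha, ?_, e⟩
  have : b = a⁻¹ * g := by rw [e]; group
  rw [this]; exact L.mul_mem (L.inv_mem (hHL ha)) hg

theorem fact_of_ge' (h : WBase G H K) {L : Subgroup G} (hKL : K ≤ L) :
    ∀ g ∈ L, ∃ a ∈ H, ∃ b ∈ K, a ∈ L ∧ b ∈ L ∧ g = a * b := by
  intro g hg
  obtain ⟨a, ha, b, hb, e⟩ := h.fact g
  refine ⟨a, ha, b, hb, ?_, hKL hb, e⟩
  have : a = g * b⁻¹ := by rw [e]; group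
  rw [this]; exact L.mul_mem hg (L.inv_mem (hKL hb))

theorem solvable_of_ge (h : WBase G H K) {L : Subgroup G} (hHL : H ≤ L) (hL : L ≠ ⊤) :
    Group.IsSolvable L := h.solvable_of_factorized hL (h.fact_of_ge hHL)

theorem solvable_of_ge' (h : WBase G H K) {L : Subgroup G} (hKL : K ≤ L) (hL : L ≠ ⊤) :
    Group.IsSolvable L := h.solvable_of_factorized hL (h.fact_of_ge' hKL)

/-- Centralizers of elements of `K ∩ N_G(H)` are factorized. -/
theorem fact_centralizer (h : WBase G H K) {x : G} (hxK : x ∈ K)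
    (hxN : x ∈ Subgroup.normalizer (H : Set G)) :
    ∀ g ∈ Subgroup.centralizer ({x} : Set G), ∃ a ∈ H, ∃ b ∈ K,
      a ∈ Subgroup.centralizer ({x} : Set G) ∧ b ∈ Subgroup.centralizer ({x} : Set G) ∧
      g = a * b := by
  intro g hg
  obtain ⟨a, ha, b, hb, e⟩ := h.fact g
  rw [Subgroup.mem_centralizer_singleton_iff] at hg
  have ha' : x * a * x⁻¹ ∈ H := (Subgroup.mem_normalizer_iff.mp hxN a).mp ha
  have hb' : x * b * x⁻¹ ∈ K := K.mul_mem (K.mul_mem hxK hb) (K.inv_mem hxK)
  have e' : x * a * x⁻¹ * (x * b * x⁻¹) = a * b := by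
    calc x * a * x⁻¹ * (x * b * x⁻¹) = x * (a * b) * x⁻¹ := by group
      _ = x * g * x⁻¹ := by rw [e]
      _ = g * x * x⁻¹ := by rw [hg]
      _ = a * b := by rw [mul_inv_cancel_right, e]
  obtain ⟨h1, h2⟩ := h.factor_unique ha' ha hb' hb e'
  refine ⟨a, ha, b, hb, ?_, ?_, e⟩
  · rw [Subgroup.mem_centralizer_singleton_iff]
    have := congrArg (fun t => t * x) h1
    simpa using this.symm
  · rw [Subgroup.mem_centralizer_singleton_iff]
    have := congrArg (fun t => t * x) h2
    simpa using this.symm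

theorem not_dvd_K (h : WBase G H K) {r : ℕ} (hr : r.Prime) (hrH : r ∣ Nat.card H) :
    ¬ r ∣ Nat.card K := fun hd => hr.not_dvd_one (h.cop ▸ Nat.dvd_gcd hrH hd)

theorem card_sylOf_H (h : WBase G H K) {r : ℕ} [Fact r.Prime] (hrH : r ∣ Nat.card H) :
    Nat.card (sylOf H r) = r ^ (Nat.card G).factorization r :=
  card_sylOf_of_hall h.hall_H hrH

/-- If the order of `N` is coprime to `|H|`... -/
theorem coprime_H_of_dvd_K (h : WBase G H K) {n : ℕ} (hn : n ∣ Nat.card K) :
    n.Coprime (Nat.card H) :=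
  (Nat.Coprime.coprime_dvd_right hn h.cop).symm

end WBase

namespace WFront

variable {G : Type u} [Group G] [Finite G] {H K : Subgroup G}

theorem symm (h : WFront G H K) : WFront G K H where
  toWBase := h.toWBase.symm
  twoH := h.twoK
  twoK := h.twoH
  noNormH := h.noNormK
  noNormK := h.noNormH

theorem exists_prime_ne (h : WFront G H K) (p : ℕ) (hp : p.Prime) :
    ∃ q : ℕ, q.Prime ∧ q ≠ p ∧ q ∣ Nat.card H := h.twoH p hp

theorem H_ne_bot (h : WFront G H K) : H ≠ ⊥ := by
  intro h0
  obtain ⟨q, hq, -, hqd⟩ := h.twoH 2 Nat.prime_two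
  rw [h0, Subgroup.card_bot] at hqd
  exact hq.not_dvd_one hqd

theorem H_ne_top (h : WFront G H K) : H ≠ ⊤ := by
  intro h0
  have h1 := h.card_eq
  rw [h0, Subgroup.card_top] at h1
  have h2 : Nat.card K = 1 := by
    have hpos : 0 < Nat.card G := Nat.card_pos
    nlinarith [Nat.eq_of_mul_eq_mul_left hpos (by rw [mul_one]; exact h1 :
      Nat.card G * 1 = Nat.card G * Nat.card K)]
  obtain ⟨q, hq, -, hqd⟩ := h.twoK 2 Nat.prime_two
  rw [h2] at hqd
  exact hq.not_dvd_one hqd

theorem not_normal_of_proper (h : WFront G H K) {Q : Subgroup G} (h0 : Q ≠ ⊥) (h1 : Q ≠ ⊤) :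
    Subgroup.normalizer (Q : Set G) ≠ ⊤ := by
  intro ht
  haveI := h.simple
  rcases (Subgroup.normalizer_eq_top_iff.mp ht).eq_bot_or_eq_top with hb | hb
  · exact h0 hb
  · exact h1 hb

theorem centralizer_ne_top (h : WFront G H K) {x : G} (hx : x ≠ 1) :
    Subgroup.centralizer ({x} : Set G) ≠ ⊤ := by
  intro ht
  haveI := h.simple
  have hxc : x ∈ Subgroup.center G := by
    rw [Subgroup.mem_center_iff]
    intro g
    have : g ∈ Subgroup.centralizer ({x} : Set G) := ht ▸ Subgroup.mem_top g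
    exact Subgroup.mem_centralizer_singleton_iff.mp this
  have hc : Subgroup.center G = ⊤ := by
    rcases (inferInstance : (Subgroup.center G).Normal).eq_bot_or_eq_top with hb | hb
    · rw [hb, Subgroup.mem_bot] at hxc; exact absurd hxc hx
    · exact hb
  have hHn : H.Normal := by
    constructor
    intro n hn g
    have hg : g ∈ Subgroup.center G := hc ▸ Subgroup.mem_top g
    have : g * n * g⁻¹ = n := by
      rw [(Subgroup.mem_center_iff.mp hg n).symm, mul_inv_cancel_right]
    rw [this]; exact hn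
  rcases hHn.eq_bot_or_eq_top with hb | hb
  · exact h.H_ne_bot hb
  · exact h.H_ne_top hb

/-- **`C_G(H_r) ≤ H`.** -/
theorem centralizer_sylOf_le (h : WFront G H K) {r : ℕ} [Fact r.Prime] (hr : r ∣ Nat.card H) :
    Subgroup.centralizer (sylOf H r : Set G) ≤ H := by
  classical
  -- the centralizer has order coprime to |K|
  have hcop : (Nat.card (Subgroup.centralizer (sylOf H r : Set G))).Coprime (Nat.card K) := by
    by_contra hnc
    obtain ⟨s, hs, hsC, hsK⟩ := Nat.Prime.not_coprime_iff_dvd.mp hnc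
    haveI : Fact s.Prime := ⟨hs⟩
    obtain ⟨c, hc⟩ := exists_prime_orderOf_dvd_card' (G := Subgroup.centralizer (sylOf H r : Set G))
      s hsC
    have hc' : orderOf (c : G) = s := by rw [Subgroup.orderOf_coe]; exact hc
    have hN : Subgroup.zpowers (c : G) = ⊥ := by
      apply h.noNormH r (sylOf H r) (Subgroup.zpowers (c : G)) (h.card_sylOf_H hr) hr
      · rw [Nat.card_zpowers, hc']
        exact h.coprime_H_of_dvd_K hsK
      · refine le_trans ?_ (Subgroup.centralizer_le_normalizer _)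
        rw [Subgroup.le_centralizer_iff, Subgroup.zpowers_le]
        exact c.2
    have hc1 : (c : G) = 1 := by
      have : (c : G) ∈ Subgroup.zpowers (c : G) := Subgroup.mem_zpowers _
      rwa [hN, Subgroup.mem_bot] at this
    rw [hc1, orderOf_one] at hc'
    exact hs.one_lt.ne hc'
  -- H normalizes the centralizer
  have hnorm : H ≤ Subgroup.normalizer
      ((Subgroup.centralizer (sylOf H r : Set G) : Subgroup G) : Set G) := by
    intro a ha
    apply mem_normalizer_of_cj_eq
    rw [cj_centralizer, cj_eq_of_mem_normalizer (le_normalizer_sylOf h.nilH r ha)]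
  refine le_of_permWith_of_coprime (V := ⊤) le_top le_top (permWith_of_le_normalizer hnorm)
    (n := Nat.card K) ?_ hcop
  rw [Subgroup.card_top, h.card_eq]

/-- `H = H_r C_G(H_r)`. -/
theorem H_eq_sup (h : WFront G H K) {r : ℕ} [Fact r.Prime] (hr : r ∣ Nat.card H) :
    H = sylOf H r ⊔ Subgroup.centralizer (sylOf H r : Set G) := by
  apply le_antisymm
  · apply le_of_sylOf_le
    intro t ht htH
    by_cases hrt : t = r
    · subst hrt
      have : (ht : Fact t.Prime) = ‹Fact t.Prime› := Subsingleton.elim _ _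
      subst this
      exact le_sup_left
    · refine le_trans ?_ le_sup_right
      intro y hy
      rw [Subgroup.mem_centralizer_iff]
      intro x hx
      exact commute_sylOf h.nilH (Ne.symm hrt) hx hy
  · exact sup_le (sylOf_le H r) (h.centralizer_sylOf_le hr)

/-- **`N_G(H_r) = N_G(H)`.** -/
theorem normalizer_sylOf_le (h : WFront G H K) {r : ℕ} [Fact r.Prime] (hr : r ∣ Nat.card H) :
    Subgroup.normalizer (sylOf H r : Set G) ≤ Subgroup.normalizer (H : Set G) := by
  intro m hm
  apply mem_normalizer_of_cj_eq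
  have h1 := cj_eq_of_mem_normalizer hm
  have h2 : MulAut.conj m • Subgroup.centralizer (sylOf H r : Set G) =
      Subgroup.centralizer (sylOf H r : Set G) := by rw [cj_centralizer, h1]
  calc MulAut.conj m • H
      = MulAut.conj m • (sylOf H r ⊔ Subgroup.centralizer (sylOf H r : Set G)) := by
        rw [← h.H_eq_sup hr]
    _ = sylOf H r ⊔ Subgroup.centralizer (sylOf H r : Set G) := by
        rw [Subgroup.smul_sup, h1, h2]
    _ = H := (h.H_eq_sup hr).symm

theorem normalizer_le_normalizer_sylOf (h : WFront G H K) (r : ℕ) [Fact r.Prime] :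
    Subgroup.normalizer (H : Set G) ≤ Subgroup.normalizer (sylOf H r : Set G) := by
  intro m hm
  apply mem_normalizer_of_cj_eq
  ext z
  rw [mem_cj_sylOf_iff h.nilH, cj_eq_of_mem_normalizer hm, mem_sylOf_iff h.nilH]

end WFront

end Cfsg.Agent.Helper9.Wielandt
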