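import Mathlib
import Cfsg.Agent.Lib.Helper9.WielandtCtx
import Cfsg.Agent.Lib.Helper17.SylowSub
import Cfsg.Agent.Lib.Helper70.Fitting
import Cfsg.Agent.Lib.Helper94.Solvable
import Cfsg.Agent.Lib.Helper22.Fitting

/-!
# Wielandt's theorem: `O_p` of subgroups, Frattini argument, proper overgroups of `H` normalize `H`
-/

set_option autoImplicit false
set_option linter.style.haveILetI false
set_option linter.unusedSectionVars false

namespace Cfsg.Agent.Helper9.Wielandt

open scoped Pointwise
open Cfsg.Agent.Helper19 Cfsg.Agent.Helper9.KegelRed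

universe u

section general

variable {G : Type*} [Group G] [Finite G]

theorem card_sup_mul_card_inf {S T : Subgroup G} (h : PermWith S T) :
    Nat.card (S ⊔ T : Subgroup G) * Nat.card (S ⊓ T : Subgroup G) = Nat.card S * Nat.card T := by
  obtain ⟨U, hU⟩ := exists_subgroup_of_permWith h
  have hsup := KegelW.sup_eq_of_coe_eq_mul hU
  have hcard := Cfsg.Agent.Helper10.card_set_mul_mul_card_inf S T
  rw [← hU] at hcard
  rw [hsup]
  exact hcard

theorem inf_normalizer_le (S T : Subgroup G) :
    Subgroup.normalizer (S : Set G) ⊓ Subgroup.normalizer (T : Set G) ≤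
      Subgroup.normalizer ((S ⊓ T : Subgroup G) : Set G) := by
  rintro g ⟨h1, h2⟩
  rw [Subgroup.mem_normalizer_iff]
  intro n
  simp only [Subgroup.mem_inf]
  rw [Subgroup.mem_normalizer_iff.mp h1 n, Subgroup.mem_normalizer_iff.mp h2 n]

theorem le_normalizer_centralizer {L S : Subgroup G} (h : L ≤ Subgroup.normalizer (S : Set G)) :
    L ≤ Subgroup.normalizer ((Subgroup.centralizer (S : Set G) : Subgroup G) : Set G) := by
  intro g hg
  apply mem_normalizer_of_cj_eq
  rw [cj_centralizer, cj_eq_of_mem_normalizer (h hg)]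

/-- The cardinality of a Sylow subgroup of `G` lying in `L` is the Sylow cardinality of `L`. -/
theorem card_eq_of_sylow_le {p : ℕ} [hp : Fact p.Prime] {S L : Subgroup G} (hSL : S ≤ L)
    (hS : Nat.card S = p ^ (Nat.card G).factorization p) :
    Nat.card S = p ^ (Nat.card L).factorization p := by
  have h1 : p ^ (Nat.card G).factorization p ∣ Nat.card L := hS ▸ Subgroup.card_dvd_of_le hSL
  have h2 : (Nat.card G).factorization p ≤ (Nat.card L).factorization p :=
    (hp.out.pow_dvd_iff_le_factorization Nat.card_pos.ne').mp h1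
  have h3 : (Nat.card L).factorization p ≤ (Nat.card G).factorization p :=
    (Nat.factorization_le_iff_dvd Nat.card_pos.ne' Nat.card_pos.ne').mpr
      (Subgroup.card_subgroup_dvd_card L) p
  rw [hS, le_antisymm h2 h3]

/-- Frattini argument, for subgroups. -/
theorem frattini_sub {r : ℕ} [Fact r.Prime] {L C R : Subgroup G} (hCL : C ≤ L)
    (hLC : L ≤ Subgroup.normalizer (C : Set G)) (hRC : R ≤ C)
    (hR : Nat.card R = r ^ (Nat.card G).factorization r) :
    L ≤ C ⊔ (L ⊓ Subgroup.normalizer (R : Set G)) := by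
  intro g hg
  have hK'C : MulAut.conj g • R ≤ C := by
    have := cj_mono hRC g
    rwa [cj_eq_of_mem_normalizer (hLC hg)] at this
  have hK'p : IsPGroup r (MulAut.conj g • R : Subgroup G) :=
    KegelW.isPGroup_cj (IsPGroup.of_card hR) g
  obtain ⟨x, hxC, hx⟩ := Cfsg.Agent.Helper17.exists_conj_sylow_ge C (Sylow.ofCard R hR) hRC _
    hK'p hK'C
  have h1 : MulAut.conj g • R ≤ MulAut.conj x • R := hx
  have h3 : MulAut.conj (x⁻¹ * g) • R ≤ R := by
    rw [← cj_cj]; exact (le_cj_iff x).mp h1
  have h4 : x⁻¹ * g ∈ Subgroup.normalizer (R : Set G) := KegelW.mem_normalizer_of_cj_le h3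
  have : g = x * (x⁻¹ * g) := by group
  rw [this]
  exact Subgroup.mul_mem _ ((le_sup_left : C ≤ C ⊔ (L ⊓ Subgroup.normalizer (R : Set G))) hxC)
    ((le_sup_right : L ⊓ Subgroup.normalizer (R : Set G) ≤ _)
      ⟨L.mul_mem (L.inv_mem (hCL hxC)) hg, h4⟩)

/-! ### `O_p` of a subgroup -/

/-- `O_p(L)` as a subgroup of `G`. -/
noncomputable def Op (p : ℕ) (L : Subgroup G) : Subgroup G := (Cfsg.pCore p ↥L).map L.subtype

theorem Op_le (p : ℕ) (L : Subgroup G) : Op p L ≤ L := Subgroup.map_subtype_le _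

theorem le_normalizer_Op (p : ℕ) (L : Subgroup G) :
    L ≤ Subgroup.normalizer (Op p L : Set G) := by
  haveI := Cfsg.Agent.Helper70.pCore_normal p ↥L
  exact le_normalizer_map_subtype L _

theorem isPGroup_Op (p : ℕ) [Fact p.Prime] (L : Subgroup G) : IsPGroup p (Op p L) :=
  (Cfsg.Agent.Helper70.pCore_isPGroup).map _

theorem Op_le_of_card {p : ℕ} [Fact p.Prime] {L S : Subgroup G} (hSL : S ≤ L)
    (hS : Nat.card S = p ^ (Nat.card L).factorization p) : Op p L ≤ S := by
  have hc : Nat.card (S.subgroupOf L) = p ^ (Nat.card L).factorization p := by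
    rw [Nat.card_congr (Subgroup.subgroupOfEquivOfLe hSL).toEquiv, hS]
  have h1 : Cfsg.pCore p ↥L ≤ S.subgroupOf L :=
    Cfsg.Agent.Helper70.pCore_le_sylow (Sylow.ofCard (S.subgroupOf L) hc)
  have h2 := Subgroup.map_mono (f := L.subtype) h1
  rwa [Subgroup.map_subgroupOf_eq_of_le hSL] at h2

theorem mem_iSup_Op_of_centralizes {L : Subgroup G} (hL : Group.IsSolvable L) {k : G}
    (hk : k ∈ L)
    (hc : ∀ p : ℕ, p.Prime → k ∈ Subgroup.centralizer ((Op p L : Subgroup G) : Set G)) :
    k ∈ ⨆ p : {p : ℕ // p.Prime}, Op p.1 L := by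
  haveI := hL
  have hle : (⨆ p : {p : ℕ // p.Prime}, Cfsg.pCore (p : ℕ) L) ≤
      Subgroup.centralizer ({(⟨k, hk⟩ : L)} : Set L) := by
    apply iSup_le
    intro p y hy
    rw [Subgroup.mem_centralizer_singleton_iff]
    have := (Subgroup.mem_centralizer_iff.mp (hc p.1 p.2)) (y : G)
      (Subgroup.mem_map_of_mem L.subtype hy)
    exact Subtype.ext this
  have h1 : (⟨k, hk⟩ : L) ∈
      Subgroup.centralizer ((Cfsg.fittingSubgroup L : Subgroup L) : Set L) := by
    rw [Cfsg.Agent.Helper22.fittingSubgroup_eq_iSup_pCore, Subgroup.mem_centralizer_iff]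
    intro y hy
    exact Subgroup.mem_centralizer_singleton_iff.mp (hle hy)
  have h2 := Cfsg.Agent.Helper94.centralizer_fitting_le h1
  rw [Cfsg.Agent.Helper22.fittingSubgroup_eq_iSup_pCore] at h2
  have h3 : k ∈ (⨆ p : {p : ℕ // p.Prime}, Cfsg.pCore (p : ℕ) L).map L.subtype :=
    ⟨⟨k, hk⟩, h2, rfl⟩
  rw [Subgroup.map_iSup] at h3
  exact h3

end general

namespace WFront

variable {G : Type u} [Group G] [Finite G] {H K : Subgroup G}

/-- `O_p(L) = 1` for `p ∤ |H|` when `H ≤ L`. -/
theorem Op_eq_bot_of_not_dvd (h : WFront G H K) {L : Subgroup G} (hHL : H ≤ L) {p : ℕ}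
    [Fact p.Prime] (hp : ¬ p ∣ Nat.card H) : Op p L = ⊥ := by
  obtain ⟨r, hr, -, hrH⟩ := h.twoH 2 Nat.prime_two
  haveI : Fact r.Prime := ⟨hr⟩
  apply h.noNormH r (sylOf H r) (Op p L) (h.card_sylOf_H hrH) hrH
  · obtain ⟨j, hj⟩ := IsPGroup.iff_card.mp (isPGroup_Op p L)
    rw [hj]
    exact Nat.Coprime.pow_left _ ((Nat.Prime.coprime_iff_not_dvd (Fact.out)).mpr hp)
  · exact ((sylOf_le H r).trans hHL).trans (le_normalizer_Op p L)

/-- `O_p(L) ≤ H_p` for `p ∣ |H|` when `H ≤ L`. -/
theorem Op_le_sylOf (h : WFront G H K) {L : Subgroup G} (hHL : H ≤ L) {p : ℕ}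
    [Fact p.Prime] (hp : p ∣ Nat.card H) : Op p L ≤ sylOf H p :=
  Op_le_of_card ((sylOf_le H p).trans hHL)
    (card_eq_of_sylow_le ((sylOf_le H p).trans hHL) (h.card_sylOf_H hp))

theorem Op_le_H (h : WFront G H K) {L : Subgroup G} (hHL : H ≤ L) (p : ℕ) [Fact p.Prime] :
    Op p L ≤ H := by
  by_cases hp : p ∣ Nat.card H
  · exact (h.Op_le_sylOf hHL hp).trans (sylOf_le H p)
  · rw [h.Op_eq_bot_of_not_dvd hHL hp]; exact bot_le

/-- **Every proper subgroup containing `H` normalizes `H`.** -/
theorem overgroup_aux (h : WFront G H K) : ∀ (n : ℕ) (L : Subgroup G), Nat.card L = n → H ≤ L →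
    L ≠ ⊤ → L ≤ Subgroup.normalizer (H : Set G) := by
  intro n
  induction n using Nat.strong_induction_on with
  | _ n ih =>
    intro L hn hHL hLtop
    classical
    have hLs : Group.IsSolvable L := h.solvable_of_ge hHL hLtop
    by_contra hcon
    -- for every prime `p ∣ |H|`: `H ⊔ C_L(O_p(L)) = L`
    have key : ∀ p : ℕ, p.Prime → p ∣ Nat.card H →
        H ⊔ (L ⊓ Subgroup.centralizer (Op p L : Set G)) = L := by
      intro p hp hpH
      haveI : Fact p.Prime := ⟨hp⟩
      by_contra hne
      have hle : H ⊔ (L ⊓ Subgroup.centralizer (Op p L : Set G)) ≤ L := sup_le hHL inf_le_left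
      have hlt : Nat.card (H ⊔ (L ⊓ Subgroup.centralizer (Op p L : Set G)) : Subgroup G) < n := by
        rw [← hn]; exact card_lt_card_of_lt' (lt_of_le_of_ne hle hne)
      have hnorm1 : H ⊔ (L ⊓ Subgroup.centralizer (Op p L : Set G)) ≤
          Subgroup.normalizer (H : Set G) :=
        ih _ hlt _ rfl le_sup_left (fun ht => hLtop (top_le_iff.mp (ht ▸ hle)))
      obtain ⟨r, hr, hrp, hrH⟩ := h.twoH p hp
      haveI : Fact r.Prime := ⟨hr⟩
      have hRC : sylOf H r ≤ L ⊓ Subgroup.centralizer (Op p L : Set G) := by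
        refine le_inf ((sylOf_le H r).trans hHL) ?_
        intro x hx
        rw [Subgroup.mem_centralizer_iff]
        intro y hy
        exact (commute_sylOf h.nilH hrp hx (h.Op_le_sylOf hHL hpH hy)).symm
      have hLC : L ≤ Subgroup.normalizer
          ((L ⊓ Subgroup.centralizer (Op p L : Set G) : Subgroup G) : Set G) :=
        (le_inf Subgroup.le_normalizer
          (le_normalizer_centralizer (le_normalizer_Op p L))).trans (inf_normalizer_le _ _)
      have hfrat := frattini_sub (inf_le_left : L ⊓ Subgroup.centralizer (Op p L : Set G) ≤ L)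
        hLC hRC (h.card_sylOf_H hrH)
      apply hcon
      exact hfrat.trans (sup_le (le_sup_right.trans hnorm1)
        (inf_le_right.trans (h.normalizer_sylOf_le hrH)))
    -- `K ⊓ L` centralizes every `O_p(L)`
    have hKL : ∀ k ∈ K ⊓ L, ∀ p : ℕ, p.Prime →
        k ∈ Subgroup.centralizer ((Op p L : Subgroup G) : Set G) := by
      intro k hk p hp
      haveI : Fact p.Prime := ⟨hp⟩
      by_cases hpH : p ∣ Nat.card H
      · have hLC : L ≤ Subgroup.normalizer
            ((L ⊓ Subgroup.centralizer (Op p L : Set G) : Subgroup G) : Set G) :=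
          (le_inf Subgroup.le_normalizer
            (le_normalizer_centralizer (le_normalizer_Op p L))).trans (inf_normalizer_le _ _)
        have hperm : PermWith H (L ⊓ Subgroup.centralizer (Op p L : Set G)) :=
          permWith_of_le_normalizer' (hHL.trans hLC)
        have hprod := card_sup_mul_card_inf hperm
        rw [key p hp hpH] at hprod
        obtain ⟨m, hm⟩ := Subgroup.card_dvd_of_le
          (inf_le_left : L ⊓ Subgroup.centralizer (Op p L : Set G) ≤ L)
        have hpos : 0 < Nat.card (L ⊓ Subgroup.centralizer (Op p L : Set G) : Subgroup G) :=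
          Nat.card_pos
        have hmH : m ∣ Nat.card H := by
          have : Nat.card (L ⊓ Subgroup.centralizer (Op p L : Set G) : Subgroup G) *
              (m * Nat.card (H ⊓ (L ⊓ Subgroup.centralizer (Op p L : Set G)) : Subgroup G)) =
              Nat.card (L ⊓ Subgroup.centralizer (Op p L : Set G) : Subgroup G) * Nat.card H := by
            rw [← mul_assoc, ← hm, hprod, mul_comm]
          exact Dvd.intro _ (Nat.eq_of_mul_eq_mul_left hpos this)
        have hcop : (Nat.card (K ⊓ L : Subgroup G)).Coprime m :=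
          Nat.Coprime.coprime_dvd_left (Subgroup.card_dvd_of_le inf_le_left)
            (Nat.Coprime.coprime_dvd_right hmH h.cop.symm)
        have hsub : K ⊓ L ≤ L ⊓ Subgroup.centralizer (Op p L : Set G) :=
          le_of_permWith_of_coprime (V := L) inf_le_right inf_le_left
            (permWith_of_le_normalizer' (inf_le_right.trans hLC)) hm hcop
        exact (hsub hk).2
      · rw [h.Op_eq_bot_of_not_dvd hHL hpH]
        rw [Subgroup.mem_centralizer_iff]
        intro y hy
        rw [Subgroup.coe_bot, Set.mem_singleton_iff] at hy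
        rw [hy, one_mul, mul_one]
    -- so `K ⊓ L = ⊥`
    have hKL0 : ∀ k ∈ K ⊓ L, k = 1 := by
      intro k hk
      have h1 := mem_iSup_Op_of_centralizes hLs hk.2 (hKL k hk)
      have h2 : (⨆ p : {p : ℕ // p.Prime}, Op p.1 L) ≤ H := by
        apply iSup_le
        intro p
        haveI : Fact p.1.Prime := ⟨p.2⟩
        exact h.Op_le_H hHL p.1
      have h3 : k ∈ H ⊓ K := ⟨h2 h1, hk.1⟩
      rwa [h.inf_eq_bot, Subgroup.mem_bot] at h3
    apply hcon
    intro g hg
    obtain ⟨a, ha, b, hb, -, hbL, e⟩ := h.fact_of_ge hHL g hg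
    have hb1 : b = 1 := hKL0 b ⟨hb, hbL⟩
    rw [e, hb1, mul_one]
    exact Subgroup.le_normalizer ha

theorem overgroup_le_normalizer (h : WFront G H K) {L : Subgroup G} (hHL : H ≤ L)
    (hL : L ≠ ⊤) : L ≤ Subgroup.normalizer (H : Set G) :=
  h.overgroup_aux _ L rfl hHL hL

end WFront

end Cfsg.Agent.Helper9.Wielandt
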