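import Mathlib
import Cfsg.Agent.Lib.Helper9.WielandtFit

/-!
# Wielandt's theorem: the steps (α) and (Γ)
-/

set_option autoImplicit false
set_option linter.style.haveILetI false
set_option linter.unusedSectionVars false

namespace Cfsg.Agent.Helper9.Wielandt

open scoped Pointwise
open Cfsg.Agent.Helper19 Cfsg.Agent.Helper9.KegelRed

universe u

section general

variable {G : Type*} [Group G] [Finite G]

theorem commute_cj_sylOf {A : Subgroup G} (hA : Group.IsNilpotent A) {r t : ℕ} [Fact r.Prime]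
    [Fact t.Prime] (hrt : r ≠ t) (g : G) {x y : G} (hx : x ∈ MulAut.conj g • sylOf A r)
    (hy : y ∈ MulAut.conj g • sylOf A t) : x * y = y * x := by
  obtain ⟨x0, hx0, rfl⟩ := mem_cj.1 hx
  obtain ⟨y0, hy0, rfl⟩ := mem_cj.1 hy
  have := commute_sylOf hA hrt hx0 hy0
  calc g * x0 * g⁻¹ * (g * y0 * g⁻¹) = g * (x0 * y0) * g⁻¹ := by group
    _ = g * (y0 * x0) * g⁻¹ := by rw [this]
    _ = g * y0 * g⁻¹ * (g * x0 * g⁻¹) := by group

/-- An element of prime order `p` of a nilpotent `A` lies in `sylOf A p`. -/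
theorem mem_sylOf_of_orderOf {A : Subgroup G} (hA : Group.IsNilpotent A) {p : ℕ} [Fact p.Prime]
    {t : G} (htA : t ∈ A) (htp : orderOf t = p) : t ∈ sylOf A p := by
  rw [mem_sylOf_iff hA]
  refine ⟨htA, 1, ?_⟩
  rw [pow_one, ← htp, pow_orderOf_eq_one]

theorem mem_cj_sylOf_of_orderOf {A : Subgroup G} (hA : Group.IsNilpotent A) {p : ℕ}
    [Fact p.Prime] {t g : G} (htA : t ∈ MulAut.conj g • A) (htp : orderOf t = p) :
    t ∈ MulAut.conj g • sylOf A p := by
  rw [mem_cj_sylOf_iff hA]
  refine ⟨htA, 1, ?_⟩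
  rw [pow_one, ← htp, pow_orderOf_eq_one]

/-- An element that is both an `s`-element and a `u`-element (`s ≠ u`) is trivial. -/
theorem eq_one_of_two_primes {s u : ℕ} (hs : s.Prime) (hu : u.Prime) (hsu : s ≠ u) {k : G}
    {a b : ℕ} (ha : k ^ s ^ a = 1) (hb : k ^ u ^ b = 1) : k = 1 := by
  have h1 : orderOf k ∣ s ^ a := orderOf_dvd_of_pow_eq_one ha
  have h2 : orderOf k ∣ u ^ b := orderOf_dvd_of_pow_eq_one hb
  have hcop : (s ^ a).Coprime (u ^ b) :=
    Nat.Coprime.pow _ _ ((Nat.coprime_primes hs hu).mpr hsu)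
  have : orderOf k = 1 := Nat.eq_one_of_dvd_coprimes hcop h1 h2
  exact orderOf_eq_one_iff.mp this

end general

namespace WBase

variable {G : Type u} [Group G] [Finite G] {H K : Subgroup G}

/-- The order of a factorized subgroup. -/
theorem card_factorized (h : WBase G H K) {L : Subgroup G}
    (hf : ∀ g ∈ L, ∃ a ∈ H, ∃ b ∈ K, a ∈ L ∧ b ∈ L ∧ g = a * b) :
    Nat.card L = Nat.card (H ⊓ L : Subgroup G) * Nat.card (K ⊓ L : Subgroup G) := by
  have h1 := Cfsg.Agent.Helper10.card_set_mul_mul_card_inf (H ⊓ L) (K ⊓ L)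
  have hset : ((H ⊓ L : Subgroup G) : Set G) * ((K ⊓ L : Subgroup G) : Set G) = (L : Set G) := by
    ext g
    constructor
    · rintro ⟨a, ha, b, hb, rfl⟩
      exact L.mul_mem ha.2 hb.2
    · intro hg
      obtain ⟨a, ha, b, hb, haL, hbL, e⟩ := hf g hg
      exact ⟨a, ⟨ha, haL⟩, b, ⟨hb, hbL⟩, e.symm⟩
  have hinf : (H ⊓ L) ⊓ (K ⊓ L) = ⊥ := by
    rw [eq_bot_iff, ← h.inf_eq_bot]
    exact le_inf (inf_le_left.trans inf_le_left) (inf_le_right.trans inf_le_left)
  rw [hset, hinf] at h1
  have h2 : Nat.card (L : Set G) = Nat.card L := rfl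
  rw [h2] at h1
  simpa using h1

end WBase

namespace WFront

variable {G : Type u} [Group G] [Finite G] {H K : Subgroup G}

/-- If a conjugate of some Sylow subgroup `H_r` of `H` normalizes `H`, the conjugating element
normalizes `H`. -/
theorem mem_normalizer_of_cj_sylOf_le (h : WFront G H K) {r : ℕ} [Fact r.Prime]
    (hr : r ∣ Nat.card H) {g : G}
    (hle : MulAut.conj g • sylOf H r ≤ Subgroup.normalizer (H : Set G)) :
    g ∈ Subgroup.normalizer (H : Set G) := by
  have h1 : MulAut.conj g • sylOf H r ≤ sylOf H r :=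
    le_of_isPGroup_of_le_normalizer (KegelW.isPGroup_cj (isPGroup_sylOf H r) g)
      (h.card_sylOf_H hr) (hle.trans (h.normalizer_le_normalizer_sylOf r))
  exact h.normalizer_sylOf_le hr (KegelW.mem_normalizer_of_cj_le h1)

/-- `H ≤ C_G(z)` for some nontrivial `z ∈ H_p`. -/
theorem exists_central (h : WFront G H K) {p : ℕ} [Fact p.Prime] (hp : p ∣ Nat.card H) :
    ∃ z ∈ sylOf H p, z ≠ 1 ∧ H ≤ Subgroup.centralizer ({z} : Set G) := by
  haveI : Nontrivial (sylOf H p) := (Subgroup.nontrivial_iff_ne_bot _).mpr (sylOf_ne_bot hp)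
  haveI := (isPGroup_sylOf H p).center_nontrivial
  obtain ⟨z, hz⟩ := exists_ne (1 : Subgroup.center (sylOf H p))
  refine ⟨((z : sylOf H p) : G), (z : sylOf H p).2, ?_, ?_⟩
  · intro h1
    apply hz
    apply Subtype.ext
    apply Subtype.ext
    simpa using h1
  · apply le_of_sylOf_le
    intro t ht htH y hy
    rw [Subgroup.mem_centralizer_singleton_iff]
    by_cases htp : t = p
    · subst htp
      have : (ht : Fact t.Prime) = ‹Fact t.Prime› := Subsingleton.elim _ _
      subst this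
      have hzc := Subgroup.mem_center_iff.mp z.2 ⟨y, hy⟩
      exact congrArg Subtype.val hzc
    · exact commute_sylOf h.nilH htp hy (z : sylOf H p).2

/-- **(α)** -/
theorem alpha (h : WFront G H K) {r : ℕ} [Fact r.Prime] {z g : G}
    (hz1 : z ≠ 1) (hzR : z ∈ sylOf H r) (hzZ : H ≤ Subgroup.centralizer ({z} : Set G))
    (hzg : z ∈ MulAut.conj g • H) : g ∈ Subgroup.normalizer (H : Set G) := by
  have hCz : Subgroup.centralizer ({z} : Set G) ≤ Subgroup.normalizer (H : Set G) :=
    h.overgroup_le_normalizer hzZ (h.centralizer_ne_top hz1)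
  obtain ⟨t, ht, htr, htH⟩ := h.twoH r (Fact.out)
  haveI : Fact t.Prime := ⟨ht⟩
  apply h.mem_normalizer_of_cj_sylOf_le htH
  refine le_trans ?_ hCz
  intro y hy
  rw [Subgroup.mem_centralizer_singleton_iff]
  have hzr : z ∈ MulAut.conj g • sylOf H r := by
    rw [mem_cj_sylOf_iff h.nilH]
    exact ⟨hzg, ((mem_sylOf_iff h.nilH).mp hzR).2⟩
  exact commute_cj_sylOf h.nilH htr g hy hzr

/-- **(Γ)**: for `x ∈ K ∩ N_G(H)` of prime order, `C_H(x) ≤ N_G(K)`. -/
theorem gamma (h : WFront G H K) {x : G} {s : ℕ} [hs : Fact s.Prime] (hxK : x ∈ K)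
    (hxN : x ∈ Subgroup.normalizer (H : Set G)) (hxs : orderOf x = s) :
    H ⊓ Subgroup.centralizer ({x} : Set G) ≤ Subgroup.normalizer (K : Set G) := by
  classical
  have hx1 : x ≠ 1 := by
    intro h1; rw [h1, orderOf_one] at hxs; exact hs.out.one_lt.ne hxs
  have hVtop := h.centralizer_ne_top hx1
  have hVf := h.fact_centralizer hxK hxN
  have hVs : Group.IsSolvable (Subgroup.centralizer ({x} : Set G)) :=
    h.solvable_of_factorized hVtop hVf
  have hVcard := h.card_factorized hVf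
  have hxS : x ∈ sylOf K s := mem_sylOf_of_orderOf h.nilK hxK hxs
  -- Sylow subgroups of `K` for primes `≠ s` centralize `x`
  have hKu : ∀ (u : ℕ) [Fact u.Prime], u ≠ s → sylOf K u ≤ Subgroup.centralizer ({x} : Set G) := by
    intro u _ hus y hy
    rw [Subgroup.mem_centralizer_singleton_iff]
    exact commute_sylOf h.nilK hus hy hxS
  -- normal `q`-subgroups of `V` for `q ∤ |H|` lie in `K`
  have hOpK : ∀ (q : ℕ) [Fact q.Prime], ¬ q ∣ Nat.card H →
      Op q (Subgroup.centralizer ({x} : Set G)) ≤ sylOf K q := by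
    intro q hq hqH
    have h1 : Op q (Subgroup.centralizer ({x} : Set G)) ≤
        K ⊓ Subgroup.centralizer ({x} : Set G) := by
      refine le_of_permWith_of_coprime (V := Subgroup.centralizer ({x} : Set G)) (Op_le _ _)
        inf_le_right (permWith_of_le_normalizer (inf_le_right.trans (le_normalizer_Op _ _)))
        (n := Nat.card (H ⊓ Subgroup.centralizer ({x} : Set G) : Subgroup G)) ?_ ?_
      · rw [hVcard, mul_comm]
      · obtain ⟨j, hj⟩ := IsPGroup.iff_card.mp (isPGroup_Op q (Subgroup.centralizer ({x} : Set G)))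
        rw [hj]
        apply Nat.Coprime.pow_left
        have : ¬ q ∣ Nat.card (H ⊓ Subgroup.centralizer ({x} : Set G) : Subgroup G) :=
          fun hd => hqH (hd.trans (Subgroup.card_dvd_of_le inf_le_left))
        exact (Nat.Prime.coprime_iff_not_dvd hq.out).mpr this
    intro y hy
    rw [mem_sylOf_iff h.nilK]
    refine ⟨(h1 hy).1, ?_⟩
    obtain ⟨k, hk⟩ := isPGroup_Op q (Subgroup.centralizer ({x} : Set G)) ⟨y, hy⟩
    exact ⟨k, by simpa using congrArg Subtype.val hk⟩
  -- `O_p(V) = 1` for `p ∣ |H|`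
  obtain ⟨u0, hu0, hu0s, hu0K⟩ := h.twoK s hs.out
  haveI : Fact u0.Prime := ⟨hu0⟩
  have hOpH : ∀ (p : ℕ) [Fact p.Prime], p ∣ Nat.card H →
      Op p (Subgroup.centralizer ({x} : Set G)) = ⊥ := by
    intro p hp hpH
    apply h.noNormK u0 (sylOf K u0) _ (h.symm.card_sylOf_H hu0K) hu0K
    · obtain ⟨j, hj⟩ := IsPGroup.iff_card.mp (isPGroup_Op p (Subgroup.centralizer ({x} : Set G)))
      rw [hj]
      apply Nat.Coprime.pow_left
      exact (Nat.Prime.coprime_iff_not_dvd hp.out).mpr (h.not_dvd_K hp.out hpH)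
    · exact (hKu u0 hu0s).trans (le_normalizer_Op _ _)
  -- some `O_u(V)`, `u ≠ s`, is nontrivial
  have hex : ∃ u : ℕ, u.Prime ∧ u ≠ s ∧ Op u (Subgroup.centralizer ({x} : Set G)) ≠ ⊥ := by
    by_contra hno
    push Not at hno
    obtain ⟨k, hk, hk1⟩ : ∃ k ∈ sylOf K u0, k ≠ 1 := by
      by_contra hcon
      push Not at hcon
      exact sylOf_ne_bot hu0K ((Subgroup.eq_bot_iff_forall _).mpr hcon)
    have hkV : k ∈ Subgroup.centralizer ({x} : Set G) := hKu u0 hu0s hk
    have hcent : ∀ p : ℕ, p.Prime → k ∈ Subgroup.centralizer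
        ((Op p (Subgroup.centralizer ({x} : Set G)) : Subgroup G) : Set G) := by
      intro p hp
      haveI : Fact p.Prime := ⟨hp⟩
      by_cases hps : p = s
      · subst hps
        rw [Subgroup.mem_centralizer_iff]
        intro y hy
        have hsH : ¬ p ∣ Nat.card H := by
          intro hd
          have : p ∣ Nat.card K := by rw [← hxs]; exact Subgroup.orderOf_dvd_natCard K hxK
          exact h.not_dvd_K hp hd this
        exact (commute_sylOf h.nilK hu0s hk (hOpK p hsH hy)).symm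
      · rw [hno p hp hps, Subgroup.mem_centralizer_iff]
        intro y hy
        rw [Subgroup.coe_bot, Set.mem_singleton_iff] at hy
        rw [hy, one_mul, mul_one]
    have h1 := mem_iSup_Op_of_centralizes hVs hkV hcent
    have h2 : (⨆ p : {p : ℕ // p.Prime}, Op p.1 (Subgroup.centralizer ({x} : Set G))) ≤
        Op s (Subgroup.centralizer ({x} : Set G)) := by
      apply iSup_le
      rintro ⟨p, hp⟩
      by_cases hps : p = s
      · subst hps; exact le_rfl
      · rw [hno p hp hps]; exact bot_le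
    obtain ⟨a, ha⟩ := isPGroup_Op s (Subgroup.centralizer ({x} : Set G)) ⟨k, h2 h1⟩
    have ha' : k ^ s ^ a = 1 := by simpa using congrArg Subtype.val ha
    obtain ⟨b, hb⟩ := ((mem_sylOf_iff h.nilK).mp hk).2
    exact hk1 (eq_one_of_two_primes hs.out hu0 (Ne.symm hu0s) ha' hb)
  obtain ⟨u, hu, hus, hQ⟩ := hex
  haveI : Fact u.Prime := ⟨hu⟩
  have huH : ¬ u ∣ Nat.card H := fun hd => hQ (hOpH u hd)
  have hQK : Op u (Subgroup.centralizer ({x} : Set G)) ≤ sylOf K u := hOpK u huH
  -- `K ≤ N_G(Q)`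
  have hKN : K ≤ Subgroup.normalizer
      ((Op u (Subgroup.centralizer ({x} : Set G)) : Subgroup G) : Set G) := by
    apply le_of_sylOf_le
    intro t ht htK
    by_cases hts : t = s
    · subst hts
      refine le_trans ?_ (Subgroup.centralizer_le_normalizer _)
      intro y hy
      rw [Subgroup.mem_centralizer_iff]
      intro q hq
      exact commute_sylOf h.nilK hus (hQK hq) hy
    · exact (hKu t hts).trans (le_normalizer_Op _ _)
  have hQtop : Op u (Subgroup.centralizer ({x} : Set G)) ≠ ⊤ := fun ht =>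
    hVtop (top_le_iff.mp (ht ▸ Op_le u _))
  have hNtop := h.not_normal_of_proper hQ hQtop
  have hNK := h.symm.overgroup_le_normalizer hKN hNtop
  exact (inf_le_right.trans (le_normalizer_Op u _)).trans hNK

/-- If `t ∈ H` of prime order commutes with `x ∈ K ∩ N_G(H)` of prime order then
`C_G(t) ≤ N_G(H)`. -/
theorem centralizer_le_of_commutes (h : WFront G H K) {t x : G} {p s : ℕ} [Fact p.Prime]
    [Fact s.Prime] (htH : t ∈ H) (htp : orderOf t = p) (hxK : x ∈ K)
    (hxN : x ∈ Subgroup.normalizer (H : Set G)) (hxs : orderOf x = s) (hcomm : t * x = x * t) :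
    Subgroup.centralizer ({t} : Set G) ≤ Subgroup.normalizer (H : Set G) := by
  have htNK : t ∈ Subgroup.normalizer (K : Set G) :=
    h.gamma hxK hxN hxs ⟨htH, Subgroup.mem_centralizer_singleton_iff.mpr hcomm⟩
  have h2 := h.symm.gamma htH htNK htp
  intro g hg
  obtain ⟨a, ha, b, hb, haC, hbC, e⟩ := h.symm.fact_centralizer htH htNK g hg
  rw [e]
  exact Subgroup.mul_mem _ (h2 ⟨ha, haC⟩) (Subgroup.le_normalizer hb)

end WFront

end Cfsg.Agent.Helper9.Wielandt
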