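import Mathlib
import Cfsg.Agent.Lib.Helper9.WielandtGamma
import Cfsg.Agent.S0558
import Cfsg.Agent.S0581
import Cfsg.Agent.S0046

/-!
# Wielandt's theorem: `H` is a TI-subgroup, and the final contradiction
-/

set_option autoImplicit false
set_option linter.style.haveILetI false
set_option linter.unusedSectionVars false
set_option maxHeartbeats 400000

namespace Cfsg.Agent.Helper9.Wielandt

open scoped Pointwise
open Cfsg.Agent.Helper19 Cfsg.Agent.Helper9.KegelRed

universe u

namespace WFront

variable {G : Type u} [Group G] [Finite G] {H K : Subgroup G}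

/-- Case 1 of the TI argument. -/
theorem ti_case1 (h : WFront G H K) {t c : G} {p s : ℕ} [hp : Fact p.Prime] [hs : Fact s.Prime]
    (htH : t ∈ H) (htp : orderOf t = p) (hcN : c ∈ Subgroup.normalizer (H : Set G))
    (hcU : c ∈ Subgroup.centralizer ({t} : Set G)) (hcs : orderOf c = s)
    (hsH : ¬ s ∣ Nat.card H) :
    Subgroup.centralizer ({t} : Set G) ≤ Subgroup.normalizer (H : Set G) := by
  have hsG : s ∣ Nat.card G := hcs ▸ orderOf_dvd_natCard c
  have hsK : s ∣ Nat.card K := by
    rw [h.card_eq] at hsG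
    exact ((Nat.Prime.dvd_mul hs.out).mp hsG).resolve_left hsH
  obtain ⟨y, hy⟩ := Cfsg.Agent.S0581.result K (Subgroup.zpowers c) h.nilK h.symm.hall_H (by
    intro q hq hqd
    rw [Nat.card_zpowers, hcs] at hqd
    have : q = s := (Nat.prime_dvd_prime_iff_eq hq hs.out).mp hqd
    rw [this]; exact hsK)
  obtain ⟨a, ha, b, hb, rfl⟩ := h.fact y
  have hcK : c ∈ MulAut.conj a • K := by
    have := hy (Subgroup.mem_zpowers c)
    rwa [← cj_cj, cj_mem_self hb] at this
  obtain ⟨c', hc'K, rfl⟩ := mem_cj.1 hcK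
  have haN : a ∈ Subgroup.normalizer (H : Set G) := Subgroup.le_normalizer ha
  have hc'N : c' ∈ Subgroup.normalizer (H : Set G) := by
    have : c' = a⁻¹ * (a * c' * a⁻¹) * a := by group
    rw [this]
    exact Subgroup.mul_mem _ (Subgroup.mul_mem _ (Subgroup.inv_mem _ haN) hcN) haN
  have ht'H : a⁻¹ * t * a ∈ H := H.mul_mem (H.mul_mem (H.inv_mem ha) htH) ha
  have ht'p : orderOf (a⁻¹ * t * a) = p := by
    have := (MulAut.conj a⁻¹).orderOf_eq t
    rw [MulAut.conj_apply, inv_inv] at this
    rw [this, htp]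
  have hc's : orderOf c' = s := by
    have := (MulAut.conj a).orderOf_eq c'
    rw [MulAut.conj_apply] at this
    rw [← this, hcs]
  have hcomm : a⁻¹ * t * a * c' = c' * (a⁻¹ * t * a) := by
    have h1 : a * c' * a⁻¹ * t = t * (a * c' * a⁻¹) :=
      Subgroup.mem_centralizer_singleton_iff.mp hcU
    calc a⁻¹ * t * a * c' = a⁻¹ * (t * (a * c' * a⁻¹)) * a := by group
      _ = a⁻¹ * (a * c' * a⁻¹ * t) * a := by rw [h1]
      _ = c' * (a⁻¹ * t * a) := by group
  have hmain := h.centralizer_le_of_commutes ht'H ht'p hc'K hc'N hc's hcomm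
  intro u hu
  have hu' : a⁻¹ * u * a ∈ Subgroup.centralizer ({a⁻¹ * t * a} : Set G) := by
    rw [Subgroup.mem_centralizer_singleton_iff] at hu ⊢
    calc a⁻¹ * u * a * (a⁻¹ * t * a) = a⁻¹ * (u * t) * a := by group
      _ = a⁻¹ * (t * u) * a := by rw [hu]
      _ = a⁻¹ * t * a * (a⁻¹ * u * a) := by group
  have h2 := hmain hu'
  have : u = a * (a⁻¹ * u * a) * a⁻¹ := by group
  rw [this]
  exact Subgroup.mul_mem _ (Subgroup.mul_mem _ haN h2) (Subgroup.inv_mem _ haN)

/-- Case 2 of the TI argument: if `C_{N(H)}(t)` is a `π`-group then `C_G(t) ≤ H`. -/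
theorem ti_case2 (h : WFront G H K) {t : G} {p : ℕ} [hp : Fact p.Prime]
    (htH : t ∈ H) (htp : orderOf t = p)
    (hcase : ∀ c ∈ Subgroup.normalizer (H : Set G) ⊓ Subgroup.centralizer ({t} : Set G),
      ∀ s : ℕ, s.Prime → orderOf c = s → s ∣ Nat.card H) :
    Subgroup.centralizer ({t} : Set G) ≤ H := by
  classical
  have hpH : p ∣ Nat.card H := by rw [← htp]; exact Subgroup.orderOf_dvd_natCard H htH
  obtain ⟨r, hr, hrp, hrH⟩ := h.twoH p hp.out
  haveI : Fact r.Prime := ⟨hr⟩
  have htS : t ∈ sylOf H p := mem_sylOf_of_orderOf h.nilH htH htp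
  -- (a)
  have hCM : Subgroup.normalizer (H : Set G) ⊓ Subgroup.centralizer ({t} : Set G) ≤ H := by
    refine le_of_permWith_of_coprime (V := ⊤) le_top le_top
      (permWith_of_le_normalizer' inf_le_left) (n := Nat.card K)
      (by rw [Subgroup.card_top, h.card_eq]) ?_
    by_contra hnc
    obtain ⟨s, hs, hsC, hsK⟩ := Nat.Prime.not_coprime_iff_dvd.mp hnc
    haveI : Fact s.Prime := ⟨hs⟩
    obtain ⟨c, hc⟩ := exists_prime_orderOf_dvd_card'
      (G := ↥(Subgroup.normalizer (H : Set G) ⊓ Subgroup.centralizer ({t} : Set G))) s hsC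
    have hc' : orderOf (c : G) = s := by rw [Subgroup.orderOf_coe]; exact hc
    exact h.not_dvd_K hs (hcase c c.2 s hs hc') hsK
  -- Sylow subgroups of `H` for primes `≠ p` centralize `t`
  have hHq : ∀ (q : ℕ) [Fact q.Prime], q ≠ p → sylOf H q ≤ Subgroup.centralizer ({t} : Set G) := by
    intro q _ hqp y hy
    rw [Subgroup.mem_centralizer_singleton_iff]
    exact commute_sylOf h.nilH hqp hy htS
  have htU : t ∈ Subgroup.centralizer ({t} : Set G) :=
    Subgroup.mem_centralizer_singleton_iff.mpr rfl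
  -- the group `U = C_G(t)` and `Ht' = C_H(t)` inside it
  have nilHt' : Group.IsNilpotent (H.subgroupOf (Subgroup.centralizer ({t} : Set G))) :=
    nilpotent_subgroupOf h.nilH _
  have hcardHt' : Nat.card (H.subgroupOf (Subgroup.centralizer ({t} : Set G))) =
      Nat.card (H ⊓ Subgroup.centralizer ({t} : Set G) : Subgroup G) := by
    rw [← Subgroup.inf_subgroupOf_right]
    exact Nat.card_congr (Subgroup.subgroupOfEquivOfLe inf_le_right).toEquiv
  -- membership in the image of a Sylow subgroup of Ht'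
  have hmem : ∀ (q : ℕ) [Fact q.Prime]
      (P : Sylow q (H.subgroupOf (Subgroup.centralizer ({t} : Set G))))
      (y : Subgroup.centralizer ({t} : Set G)),
      y ∈ (P : Subgroup _).map (H.subgroupOf (Subgroup.centralizer ({t} : Set G))).subtype ↔
        (y : G) ∈ H ∧ ∃ k : ℕ, (y : G) ^ q ^ k = 1 := by
    intro q _ P y
    rw [mem_sylow_map_iff nilHt' P y, Subgroup.mem_subgroupOf]
    constructor
    · rintro ⟨h1, k, hk⟩
      exact ⟨h1, k, by simpa using congrArg Subtype.val hk⟩
    · rintro ⟨h1, k, hk⟩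
      exact ⟨h1, k, Subtype.ext (by simpa using hk)⟩
  -- hypothesis `hnorm` of S0558
  have hnorm : ∀ q : ℕ, q.Prime →
      q ∣ Nat.card (H.subgroupOf (Subgroup.centralizer ({t} : Set G))) →
      ∀ P : Sylow q (H.subgroupOf (Subgroup.centralizer ({t} : Set G))),
        Subgroup.normalizer (((P : Subgroup _).map
          (H.subgroupOf (Subgroup.centralizer ({t} : Set G))).subtype :
            Subgroup (Subgroup.centralizer ({t} : Set G))) : Set _) =
          H.subgroupOf (Subgroup.centralizer ({t} : Set G)) := by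
    intro q hq hqd P
    haveI : Fact q.Prime := ⟨hq⟩
    have hqH : q ∣ Nat.card H := hqd.trans (WBase.card_subgroupOf_dvd H _)
    apply le_antisymm
    · intro n hn
      rw [Subgroup.mem_subgroupOf]
      apply hCM
      refine ⟨?_, n.2⟩
      by_cases hqp : q = p
      · subst hqp
        obtain ⟨z, hzS, hz1, hzZ⟩ := h.exists_central hqH
        have hzU : z ∈ Subgroup.centralizer ({t} : Set G) := by
          rw [Subgroup.mem_centralizer_singleton_iff]
          exact (Subgroup.mem_centralizer_singleton_iff.mp (hzZ htH)).symm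
        obtain ⟨hzH, k, hzk⟩ := (mem_sylOf_iff h.nilH).mp hzS
        have hzP := (hmem q P ⟨z, hzU⟩).mpr ⟨hzH, k, hzk⟩
        have h1 := (Subgroup.mem_normalizer_iff.mp hn ⟨z, hzU⟩).mp hzP
        have h2 : (n : G) * z * (n : G)⁻¹ ∈ H := by
          have := ((hmem q P _).mp h1).1
          simpa using this
        have h3 : z ∈ MulAut.conj (n : G)⁻¹ • H :=
          mem_cj.2 ⟨(n : G) * z * (n : G)⁻¹, h2, by group⟩
        have h4 := h.alpha hz1 hzS hzZ h3
        simpa using Subgroup.inv_mem _ h4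
      · have hle : MulAut.conj (n : G) • sylOf H q ≤ sylOf H q := by
          intro w hw
          obtain ⟨y, hy, rfl⟩ := mem_cj.1 hw
          have hyU : y ∈ Subgroup.centralizer ({t} : Set G) := hHq q hqp hy
          obtain ⟨hyH, k, hyk⟩ := (mem_sylOf_iff h.nilH).mp hy
          have hyP := (hmem q P ⟨y, hyU⟩).mpr ⟨hyH, k, hyk⟩
          have h1 := (Subgroup.mem_normalizer_iff.mp hn ⟨y, hyU⟩).mp hyP
          obtain ⟨h2, k', hk'⟩ := (hmem q P _).mp h1
          rw [mem_sylOf_iff h.nilH]
          exact ⟨by simpa using h2, k', by simpa using hk'⟩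
        exact h.normalizer_sylOf_le hqH (KegelW.mem_normalizer_of_cj_le hle)
    · haveI := sylow_normal_of_nilpotent nilHt' P
      exact le_normalizer_map_subtype _ _
  -- hypothesis `hnot` of S0558
  have hnot : ∀ q : ℕ, q.Prime → ∀ P : Sylow q (Subgroup.centralizer ({t} : Set G)),
      (P : Subgroup _) ≠ H.subgroupOf (Subgroup.centralizer ({t} : Set G)) := by
    intro q hq P hP
    haveI : Fact q.Prime := ⟨hq⟩
    have hpg : IsPGroup q (H.subgroupOf (Subgroup.centralizer ({t} : Set G))) := hP ▸ P.isPGroup'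
    obtain ⟨k, hk⟩ := IsPGroup.iff_card.mp hpg
    rw [hcardHt'] at hk
    have hpd : p ∣ q ^ k := by
      rw [← hk, ← htp]
      exact Subgroup.orderOf_dvd_natCard _ ⟨htH, htU⟩
    have hrd : r ∣ q ^ k := by
      rw [← hk]
      have h1 : sylOf H r ≤ H ⊓ Subgroup.centralizer ({t} : Set G) :=
        le_inf (sylOf_le H r) (hHq r hrp)
      have h2 := Subgroup.card_dvd_of_le h1
      have h3 : r ∣ Nat.card (sylOf H r) := by
        rcases (isPGroup_sylOf H r).card_eq_or_dvd with h4 | h4
        · exact absurd (Subgroup.card_eq_one.mp h4) (sylOf_ne_bot hrH)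
        · exact h4
      exact h3.trans h2
    have e1 : p = q := (Nat.prime_dvd_prime_iff_eq hp.out hq).mp (hp.out.dvd_of_dvd_pow hpd)
    have e2 : r = q := (Nat.prime_dvd_prime_iff_eq hr hq).mp (hr.dvd_of_dvd_pow hrd)
    exact hrp (e2.trans e1.symm)
  obtain ⟨N, hNn, hNc⟩ := Cfsg.Agent.S0558.result
    (H.subgroupOf (Subgroup.centralizer ({t} : Set G))) hnot hnorm
  have hcardU := hNc.card_mul_card
  -- for each prime `q ∣ |H|` there is a subgroup of `Ht'` of Sylow order in `U`
  have hsyl : ∀ q : ℕ, q.Prime → q ∣ Nat.card H →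
      q ^ (Nat.card (Subgroup.centralizer ({t} : Set G))).factorization q ∣
        Nat.card (H.subgroupOf (Subgroup.centralizer ({t} : Set G))) := by
    intro q hq hqH
    haveI : Fact q.Prime := ⟨hq⟩
    by_cases hqp : q = p
    · subst hqp
      have hqd : q ∣ Nat.card (H.subgroupOf (Subgroup.centralizer ({t} : Set G))) := by
        rw [hcardHt', ← htp]
        exact Subgroup.orderOf_dvd_natCard _ ⟨htH, htU⟩
      obtain ⟨P⟩ : Nonempty (Sylow q (H.subgroupOf (Subgroup.centralizer ({t} : Set G)))) :=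
        inferInstance
      obtain ⟨Ps, hPs⟩ := (P.isPGroup'.map
        (H.subgroupOf (Subgroup.centralizer ({t} : Set G))).subtype).exists_le_sylow
      have heq : (P : Subgroup _).map
          (H.subgroupOf (Subgroup.centralizer ({t} : Set G))).subtype = (Ps : Subgroup _) := by
        by_contra hne
        haveI : Group.IsNilpotent (Ps : Subgroup (Subgroup.centralizer ({t} : Set G))) :=
          Ps.isPGroup'.isNilpotent
        obtain ⟨x, hxPs, hxn, hxP⟩ := Cfsg.Agent.S0046.exists_normalizer_not_mem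
          (Ps : Subgroup (Subgroup.centralizer ({t} : Set G))) _ hPs hne
        rw [hnorm q hq hqd P, Subgroup.mem_subgroupOf] at hxn
        obtain ⟨k, hk⟩ := Ps.isPGroup' ⟨x, hxPs⟩
        apply hxP
        rw [hmem q P x]
        refine ⟨hxn, k, ?_⟩
        have h6 := congrArg Subtype.val hk
        have h7 := congrArg Subtype.val h6
        simpa using h7
      have hle : (P : Subgroup _).map
          (H.subgroupOf (Subgroup.centralizer ({t} : Set G))).subtype ≤
          H.subgroupOf (Subgroup.centralizer ({t} : Set G)) := Subgroup.map_subtype_le _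
      have h2 := Subgroup.card_dvd_of_le hle
      rw [heq, Sylow.card_eq_multiplicity] at h2
      exact h2
    · have h1 : sylOf H q ≤ H ⊓ Subgroup.centralizer ({t} : Set G) :=
        le_inf (sylOf_le H q) (hHq q hqp)
      have h2 := Subgroup.card_dvd_of_le h1
      rw [card_eq_of_sylow_le (hHq q hqp) (h.card_sylOf_H hqH), ← hcardHt'] at h2
      exact h2
  -- `|N|` is coprime to `|H|`
  have hcopN : (Nat.card N).Coprime (Nat.card H) := by
    by_contra hnc
    obtain ⟨q, hq, hqN, hqH⟩ := Nat.Prime.not_coprime_iff_dvd.mp hnc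
    have h1 := hsyl q hq hqH
    have h2 : (Nat.card (Subgroup.centralizer ({t} : Set G))).factorization q ≤
        (Nat.card (H.subgroupOf (Subgroup.centralizer ({t} : Set G)))).factorization q :=
      (hq.pow_dvd_iff_le_factorization Nat.card_pos.ne').mp h1
    rw [← hcardU, Nat.factorization_mul Nat.card_pos.ne' Nat.card_pos.ne', Finsupp.add_apply]
      at h2
    have h3 : (Nat.card N).factorization q = 0 := by omega
    rcases (Nat.factorization_eq_zero_iff _ _).mp h3 with h4 | h4 | h4
    · exact h4 hq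
    · exact h4 hqN
    · exact Nat.card_pos.ne' h4
  -- `N = ⊥`
  have hNG : N.map (Subgroup.centralizer ({t} : Set G)).subtype = ⊥ := by
    apply h.noNormH r (sylOf H r) _ (h.card_sylOf_H hrH) hrH
    · rw [Subgroup.card_map_of_injective (Subgroup.subtype_injective _)]
      exact hcopN
    · haveI := hNn
      exact (hHq r hrp).trans (le_normalizer_map_subtype _ N)
  have hN : N = ⊥ :=
    (Subgroup.map_eq_bot_iff_of_injective N (Subgroup.subtype_injective _)).mp hNG
  rw [hN, Subgroup.card_bot, one_mul] at hcardU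
  have htop : H.subgroupOf (Subgroup.centralizer ({t} : Set G)) = ⊤ :=
    (Subgroup.card_eq_iff_eq_top _).mp hcardU
  intro u hu
  have : (⟨u, hu⟩ : Subgroup.centralizer ({t} : Set G)) ∈
      H.subgroupOf (Subgroup.centralizer ({t} : Set G)) := htop ▸ Subgroup.mem_top _
  exact Subgroup.mem_subgroupOf.mp this

/-- **`H` is a TI-subgroup**: a prime-order element of `H ∩ H^g` forces `g ∈ N_G(H)`. -/
theorem ti (h : WFront G H K) {t g : G} {p : ℕ} [hp : Fact p.Prime] (htH : t ∈ H)
    (htg : t ∈ MulAut.conj g • H) (htp : orderOf t = p) :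
    g ∈ Subgroup.normalizer (H : Set G) := by
  classical
  have hpH : p ∣ Nat.card H := by rw [← htp]; exact Subgroup.orderOf_dvd_natCard H htH
  obtain ⟨r, hr, hrp, hrH⟩ := h.twoH p hp.out
  haveI : Fact r.Prime := ⟨hr⟩
  have factA : Subgroup.centralizer ({t} : Set G) ≤ Subgroup.normalizer (H : Set G) →
      g ∈ Subgroup.normalizer (H : Set G) := by
    intro hU
    apply h.mem_normalizer_of_cj_sylOf_le hrH
    refine le_trans ?_ hU
    intro y hy
    rw [Subgroup.mem_centralizer_singleton_iff]
    exact commute_cj_sylOf h.nilH hrp g hy (mem_cj_sylOf_of_orderOf h.nilH htg htp)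
  by_cases hcase : ∃ c ∈ Subgroup.normalizer (H : Set G) ⊓ Subgroup.centralizer ({t} : Set G),
      ∃ s : ℕ, s.Prime ∧ orderOf c = s ∧ ¬ s ∣ Nat.card H
  · obtain ⟨c, ⟨hcN, hcU⟩, s, hs, hcs, hsH⟩ := hcase
    haveI : Fact s.Prime := ⟨hs⟩
    exact factA (h.ti_case1 htH htp hcN hcU hcs hsH)
  · push Not at hcase
    exact factA ((h.ti_case2 htH htp (fun c hc s hs hcs => hcase c hc s hs hcs)).trans
      Subgroup.le_normalizer)

/-- `|H| ≤ |K|`. -/
theorem card_le (h : WFront G H K) : Nat.card H ≤ Nat.card K := by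
  classical
  have hNtop := h.not_normal_of_proper h.H_ne_bot h.H_ne_top
  obtain ⟨g, hg⟩ : ∃ g : G, g ∉ Subgroup.normalizer (H : Set G) := by
    by_contra hcon
    push Not at hcon
    exact hNtop (eq_top_iff.mpr fun x _ => hcon x)
  have hinf : H ⊓ MulAut.conj g • H = ⊥ := by
    rw [Subgroup.eq_bot_iff_forall]
    rintro y ⟨hyH, hyg⟩
    by_contra hy1
    have hord : orderOf y ≠ 1 := fun h1 => hy1 (orderOf_eq_one_iff.mp h1)
    obtain ⟨p, hp, hpd⟩ := Nat.exists_prime_and_dvd hord
    haveI : Fact p.Prime := ⟨hp⟩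
    have hpos : 0 < orderOf y := orderOf_pos y
    have htp : orderOf (y ^ (orderOf y / p)) = p := by
      rw [orderOf_pow' y (by
        intro h0
        have := Nat.div_eq_zero_iff.mp h0
        rcases this with h1 | h1
        · exact hp.ne_zero h1
        · exact absurd (Nat.le_of_dvd hpos hpd) (not_le.mpr h1)),
        Nat.gcd_eq_right (Nat.div_dvd_of_dvd hpd), Nat.div_div_self hpd hpos.ne']
    exact hg (h.ti (H.pow_mem hyH _) (Subgroup.pow_mem _ hyg _) htp)
  have h1 := Cfsg.Agent.Helper10.card_set_mul_mul_card_inf H (MulAut.conj g • H)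
  rw [hinf, Subgroup.card_bot, mul_one, KegelW.card_cj] at h1
  have h2 : Nat.card ((H : Set G) * ((MulAut.conj g • H : Subgroup G) : Set G) : Set G) ≤
      Nat.card G := Nat.card_le_card_of_injective Subtype.val Subtype.val_injective
  rw [h1, h.card_eq] at h2
  exact Nat.le_of_mul_le_mul_left h2 Nat.card_pos

/-- **The back half: the context `WFront` is contradictory.** -/
theorem false (h : WFront G H K) : False := by
  have h1 := h.card_le
  have h2 := h.symm.card_le
  have h3 : Nat.card H = Nat.card K := le_antisymm h1 h2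
  have h4 := h.cop
  rw [h3, Nat.coprime_self] at h4
  obtain ⟨q, hq, -, hqd⟩ := h.twoK 2 Nat.prime_two
  rw [h4] at hqd
  exact hq.not_dvd_one hqd

end WFront

end Cfsg.Agent.Helper9.Wielandt
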