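import Mathlib
import Cfsg.Agent.Lib.Helper9.Matsuyama

set_option autoImplicit false

namespace Cfsg.Agent.Helper9

open Subgroup Pointwise Cfsg.Agent.Helper1

/-- relative version of `exists_mem_normalizing_sSup` inside a subgroup `V`. -/
theorem exists_mem_normalizing_sSup_rel {G : Type*} [Group G] [Finite G] (V : Subgroup G)
    (T T₀ : Set (Subgroup G)) (hTV : ∀ B ∈ T, B ≤ V)
    (hTsub : ∀ B ∈ T, (B.subgroupOf V).IsSubnormal)
    (hconj : ∀ B ∈ T, ∀ v ∈ V, MulAut.conj v • B ∈ T) (h₀ : T₀ ⊂ T) :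
    ∃ X ∈ T, X ∉ T₀ ∧ X ≤ normalizer ((sSup T₀ : Subgroup G) : Set G) := by
  set S' : Set (Subgroup V) := {X | X.map V.subtype ∈ T} with hS'
  set S₀' : Set (Subgroup V) := {X | X.map V.subtype ∈ T₀} with hS₀'
  have hsub : ∀ U ∈ S', U.IsSubnormal := by
    intro U hU
    have := hTsub _ hU
    rwa [Subgroup.subgroupOf, Subgroup.comap_map_eq_self_of_injective V.subtype_injective] at this
  have hconj' : ∀ U ∈ S', ∀ u : V, MulAut.conj u • U ∈ S' := by
    intro U hU u
    show (MulAut.conj u • U).map V.subtype ∈ T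
    rw [conj_smul_map_subtype]
    exact hconj _ hU _ u.2
  obtain ⟨B₀, hB₀T, hB₀n⟩ := Set.exists_of_ssubset h₀
  have h₀' : S₀' ⊂ S' := by
    refine ⟨fun X hX => h₀.subset hX, ?_⟩
    intro hle
    have hB₀V := hTV B₀ hB₀T
    have h1 : B₀.subgroupOf V ∈ S' := by
      show (B₀.subgroupOf V).map V.subtype ∈ T
      rw [map_subgroupOf_eq_of_le hB₀V]; exact hB₀T
    have h3 : (B₀.subgroupOf V).map V.subtype ∈ T₀ := hle h1
    rw [map_subgroupOf_eq_of_le hB₀V] at h3
    exact hB₀n h3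
  obtain ⟨X', hX'S, hX'n, hX'N⟩ := exists_mem_normalizing_sSup S' S₀' hsub hconj' h₀'
  refine ⟨X'.map V.subtype, hX'S, hX'n, ?_⟩
  have hmapR : (sSup S₀').map V.subtype = sSup T₀ := by
    apply le_antisymm
    · rw [map_le_iff_le_comap]
      apply sSup_le
      intro X'' hX''
      rw [← map_le_iff_le_comap]
      exact le_sSup hX''
    · apply sSup_le
      intro B hB
      have hBV : B ≤ V := hTV B (h₀.subset hB)
      have h1 : B.subgroupOf V ∈ S₀' := by
        show (B.subgroupOf V).map V.subtype ∈ T₀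
        rw [map_subgroupOf_eq_of_le hBV]; exact hB
      have h2 := Subgroup.map_mono (f := V.subtype) (le_sSup h1)
      rwa [map_subgroupOf_eq_of_le hBV] at h2
  rw [← hmapR]
  exact (Subgroup.map_mono hX'N).trans (le_normalizer_map _)

end Cfsg.Agent.Helper9
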